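import Cfsg.Agent.EqLemmas

/-!
# Field lemmas for two rank one parabolics with natural modules (S3091)

* `exists_ringEquiv_of_pairing`: additive maps compatible with multiplication are semilinear
* `card_eqLocus_sq_le`: the fixed field of a nontrivial automorphism has at most `√q` elements
* `card_le_sq_of_invol`: an additive map of order two on a group of exponent two fixes at least `√|A|`
* `card_le_of_stab`: multipliers of a proper additive subgroup form a subfield of at most `√q` elements
-/

set_option autoImplicit false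

namespace Cfsg.Agent.TwoNatural

variable {F : Type*} [Field F] [Fintype F]

/-- Three additive maps with `α (s t) = β s * γ t` are semilinear for one automorphism. -/
theorem exists_ringEquiv_of_pairing (α β γ : F →+ F) (h : ∀ s t, α (s * t) = β s * γ t)
    (hβ : β 1 ≠ 0) (hγ : γ 1 ≠ 0) :
    ∃ σ : F ≃+* F, (∀ s, β s = β 1 * σ s) ∧ (∀ t, γ t = γ 1 * σ t) ∧
      ∀ x, α x = β 1 * γ 1 * σ x := by
  have hα : ∀ x, α x = β 1 * γ x := fun x => by simpa using h 1 x
  have hα' : ∀ x, α x = β x * γ 1 := fun x => by simpa using h x 1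
  let f : F →+* F :=
    { toFun := fun x => β x / β 1
      map_one' := div_self hβ
      map_mul' := fun x y => by
        have e1 := h x y
        have e2 := hα (x * y)
        have e3 := hα' (x * y)
        have e4 := hα y
        have e5 := hα' y
        rw [e3] at e1
        rw [e4] at e5
        field_simp
        have : β (x * y) * γ 1 * β 1 = β x * β y * γ 1 := by
          rw [e1]; linear_combination β x * e5
        exact mul_right_cancel₀ hγ (by linear_combination this)
      map_zero' := by simp
      map_add' := fun x y => by rw [map_add, add_div] }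
  let σ : F ≃+* F := RingEquiv.ofBijective f ⟨f.injective, Finite.surjective_of_injective f.injective⟩
  have hσ : ∀ s, β s = β 1 * σ s := fun s => by
    show β s = β 1 * (β s / β 1)
    field_simp
  refine ⟨σ, hσ, fun t => ?_, fun x => ?_⟩
  · have := (hα t).symm.trans (hα' t)
    rw [hσ t] at this
    exact mul_left_cancel₀ hβ (by linear_combination this)
  · rw [hα', hσ]; ring

/-- A proper subfield has at most `√q` elements. -/
theorem card_subfield_sq_le {E : Subfield F} (hE : E ≠ ⊤) : Nat.card E ^ 2 ≤ Nat.card F := by
  rw [Module.natCard_eq_pow_finrank (K := E) (V := F)]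
  refine Nat.pow_le_pow_right Nat.card_pos ?_
  by_contra hlt
  have hpos : 0 < Module.finrank E F := Module.finrank_pos
  have h1 : Module.finrank E F = 1 := by omega
  refine hE (top_unique fun x _ => ?_)
  obtain ⟨c, rfl⟩ := (finrank_eq_one_iff_of_nonzero' (1 : F) one_ne_zero).1 h1 x
  show (c : F) * 1 ∈ E
  rw [mul_one]; exact c.2

/-- The fixed field of a nontrivial automorphism. -/
theorem card_fixed_sq_le {σ : F ≃+* F} (hσ : σ ≠ 1) :
    Nat.card {x : F // σ x = x} ^ 2 ≤ Nat.card F := by
  refine card_subfield_sq_le (E := (σ : F →+* F).eqLocusField (RingHom.id F)) fun htop => hσ ?_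
  ext x
  exact (htop ▸ Subfield.mem_top x : x ∈ (σ : F →+* F).eqLocusField (RingHom.id F))

/-- An additive involutive map of a group of exponent two fixes at least `√|A|` elements. -/
theorem card_le_sq_of_invol {A : Type*} [AddCommGroup A] [Finite A] (h2 : ∀ a : A, a + a = 0)
    (ε : A →+ A) (hε : ∀ a, ε (ε a) = a) : Nat.card A ≤ Nat.card {a : A // ε a = a} ^ 2 := by
  let f : A →+ A := ε + AddMonoidHom.id A
  have hk : f.range ≤ f.ker := by
    rintro _ ⟨a, rfl⟩
    rw [AddMonoidHom.mem_ker]
    show ε (ε a + a) + (ε a + a) = 0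
    rw [map_add, hε, add_comm a (ε a), h2]
  have e : Nat.card f.ker = Nat.card {a : A // ε a = a} := by
    refine Nat.card_congr (Equiv.subtypeEquivRight fun a => ?_)
    rw [AddMonoidHom.mem_ker]
    show ε a + a = 0 ↔ _
    exact ⟨fun h => add_right_cancel (h.trans (h2 a).symm), fun h => by rw [h, h2]⟩
  have hm := AddSubgroup.card_mul_index f.ker
  rw [AddSubgroup.index_ker] at hm
  rw [← e, sq, ← hm]
  exact Nat.mul_le_mul_left _ (AddSubgroup.card_le_of_le hk)

/-- The multipliers of a proper nonzero additive subgroup number at most `√q`. -/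
theorem card_stab_sq_le (W : AddSubgroup F) (h0 : W ≠ ⊥) (htop : W ≠ ⊤) :
    Nat.card {k : F // ∀ w ∈ W, k * w ∈ W} ^ 2 ≤ Nat.card F := by
  let R : Subring F :=
    { carrier := {k | ∀ w ∈ W, k * w ∈ W}
      mul_mem' := fun {a b} ha hb w hw => by rw [mul_assoc]; exact ha _ (hb w hw)
      one_mem' := fun w hw => by rwa [one_mul]
      add_mem' := fun {a b} ha hb w hw => by rw [add_mul]; exact W.add_mem (ha w hw) (hb w hw)
      zero_mem' := fun w _ => by rw [zero_mul]; exact W.zero_mem
      neg_mem' := fun {a} ha w hw => by rw [neg_mul]; exact W.neg_mem (ha w hw) }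
  let E : Subfield F :=
    { R with
      inv_mem' := fun a ha => by
        rcases eq_or_ne a 0 with rfl | h
        · rwa [inv_zero]
        have : a⁻¹ = a ^ (orderOf a - 1) := by
          refine inv_eq_of_mul_eq_one_right ?_
          rw [← pow_succ', Nat.sub_add_cancel (orderOf_pos_iff.2 ?_), pow_orderOf_eq_one]
          exact isOfFinOrder_iff_pow_eq_one.2 ⟨Fintype.card F - 1,
            Nat.sub_pos_of_lt Fintype.one_lt_card, FiniteField.pow_card_sub_one_eq_one a h⟩
        rw [this]
        exact R.pow_mem ha _ }
  refine card_subfield_sq_le (E := E) fun hE => htop (eq_top_iff.2 fun x _ => ?_)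
  obtain ⟨w, hw, hw0⟩ : ∃ w ∈ W, w ≠ (0 : F) := by
    by_contra! hc
    exact h0 (eq_bot_iff.2 fun x hx => (AddSubgroup.mem_bot).2 (hc x hx))
  have : x * w⁻¹ ∈ E := hE ▸ Subfield.mem_top _
  simpa [mul_assoc, inv_mul_cancel₀ hw0] using this w hw

end Cfsg.Agent.TwoNatural
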