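import Cfsg.Agent.Lib.TwoNatural.Lambda

/-!
# Two natural parabolics: compatible coordinates (S3091)

* `Par.transform`, `semiDiag`; `exists_data`
-/

set_option autoImplicit false
set_option linter.unusedSectionVars false

open Matrix Cfsg.Agent.SL2Module Subgroup

namespace Cfsg.Agent.TwoNatural

universe u v

variable {F : Type v} [Field F] [Fintype F] [CharP F 2] {G : Type u} [Group G] [Finite G]

local notation "SL2F" => Matrix.SpecialLinearGroup (Fin 2) F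

theorem exists_conj_upper {A : SL2F} (hA : up 1 * A = A * up 1) (h2 : A * A = 1) :
    ∃ t, A = up t := by
  have e := congrArg Subtype.val hA
  have e00 := congrFun (congrFun e 0) 0
  have h2' : A.1 * A.1 = 1 := congrArg Subtype.val h2
  have f00 := congrFun (congrFun h2' 0) 0
  have f11 := congrFun (congrFun h2' 1) 1
  simp [up_val, Matrix.mul_apply, Fin.sum_univ_two] at e00 f00 f11
  simp [e00] at f00 f11
  have d00 : A.1 0 0 = 1 := eq_of_pow_two_eq_one (n := 1) (by rw [pow_one, sq]; exact f00)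
  have d11 : A.1 1 1 = 1 := eq_of_pow_two_eq_one (n := 1) (by rw [pow_one, sq]; exact f11)
  refine ⟨A.1 0 1, Subtype.ext ?_⟩
  ext i j; fin_cases i <;> fin_cases j <;> simp [up_val, d00, d11, e00]

/-- A semilinear diagonal change of coordinates. -/
noncomputable def semiDiagVec (σ : F ≃+* F) (k r : F) (hk : k ≠ 0) (hr : r ≠ 0) :
    (Fin 2 → F) ≃+ (Fin 2 → F) where
  toFun w := ![k * σ (w 0), r * σ (w 1)]
  invFun w := ![σ.symm (k⁻¹ * w 0), σ.symm (r⁻¹ * w 1)]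
  left_inv w := by
    ext i; fin_cases i <;> simp [hk, hr]
  right_inv w := by
    ext i; fin_cases i <;> simp [hk, hr]
  map_add' u w := by
    ext i; fin_cases i <;> simp [mul_add]

/-- The corresponding matrix. -/
noncomputable def semiDiagFun (σ : F ≃+* F) (k r : F) (hk : k ≠ 0) (hr : r ≠ 0) (M : SL2F) :
    SL2F :=
  ⟨!![σ (M.1 0 0), k / r * σ (M.1 0 1); r / k * σ (M.1 1 0), σ (M.1 1 1)], by
    have hd := congrArg σ M.2
    rw [Matrix.det_fin_two, map_sub, map_mul, map_mul, map_one] at hd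
    rw [Matrix.det_fin_two_of]
    field_simp
    linear_combination hd⟩

theorem semiDiagFun_val (σ : F ≃+* F) (k r : F) (hk : k ≠ 0) (hr : r ≠ 0) (M : SL2F) :
    (semiDiagFun σ k r hk hr M).1 =
      !![σ (M.1 0 0), k / r * σ (M.1 0 1); r / k * σ (M.1 1 0), σ (M.1 1 1)] := rfl

/-- The corresponding automorphism of `SL₂(F)`. -/
noncomputable def semiDiag (σ : F ≃+* F) (k r : F) (hk : k ≠ 0) (hr : r ≠ 0) : SL2F →* SL2F :=
  MonoidHom.mk' (semiDiagFun σ k r hk hr) fun M N => by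
    refine Subtype.ext ?_
    rw [Matrix.SpecialLinearGroup.coe_mul, semiDiagFun_val, semiDiagFun_val, semiDiagFun_val,
      Matrix.SpecialLinearGroup.coe_mul]
    ext i j
    fin_cases i <;> fin_cases j <;> simp [Matrix.mul_apply, Fin.sum_univ_two] <;> field_simp

theorem semiDiag_val (σ : F ≃+* F) (k r : F) (hk : k ≠ 0) (hr : r ≠ 0) (M : SL2F) :
    (semiDiag σ k r hk hr M).1 =
      !![σ (M.1 0 0), k / r * σ (M.1 0 1); r / k * σ (M.1 1 0), σ (M.1 1 1)] := rfl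

/-- A change of coordinates. -/
def Par.transform (P : Par F G) (ι : SL2F →* SL2F) (hι : Function.Injective ι)
    (θ : (Fin 2 → F) ≃+ (Fin 2 → F)) (h : ∀ (M : SL2F) w, θ (M.1 *ᵥ w) = (ι M).1 *ᵥ θ w) :
    Par F G where
  L := P.L
  V := P.V
  le := P.le
  π := ι.comp P.π
  surj := ((Finite.injective_iff_surjective).1 hι).comp P.surj
  ker l := by
    rw [MonoidHom.comp_apply, ← map_one ι, hι.eq_iff]
    exact P.ker l
  el w := P.el (θ.symm w)
  el_mem _ := P.el_mem _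
  el_surj v hv := by
    obtain ⟨w, rfl⟩ := P.el_surj v hv
    exact ⟨θ w, by rw [AddEquiv.symm_apply_apply]⟩
  el_inj a b hab := θ.symm.injective (P.el_inj hab)
  el_add a b := by rw [map_add, P.el_add]
  act l w := by
    rw [P.act l]
    congr 1
    refine θ.injective ?_
    rw [h, AddEquiv.apply_symm_apply, AddEquiv.apply_symm_apply]
    rfl

theorem exists_upper (P : Par F G) {W : Subgroup G} (hW : W ≤ P.L)
    (hsq : ∀ v ∈ W, v * v = 1) (hcomm : ∀ u ∈ W, ∀ v ∈ W, u * v = v * u) (hne : ¬W ≤ P.V) :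
    ∃ P' : Par F G, P'.L = P.L ∧ P'.V = P.V ∧
      ∀ v (hv : v ∈ P'.L), v ∈ W → ∃ t, P'.π ⟨v, hv⟩ = up t := by
  obtain ⟨v₀, hv₀, hv₀'⟩ := SetLike.not_le_iff_exists.1 hne
  set A := P.π ⟨v₀, hW hv₀⟩ with hA
  have h2 : A * A = 1 := by
    rw [hA, ← map_mul, ← map_one P.π]; congr 1; exact Subtype.ext (hsq v₀ hv₀)
  have h1 : A ≠ 1 := fun e => hv₀' ((P.ker _).1 e)
  obtain ⟨B, hB⟩ := exists_conj_up_one h2 h1
  let θ : (Fin 2 → F) ≃+ (Fin 2 → F) :=
    { toFun := fun w => B.1 *ᵥ w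
      invFun := fun w => (B⁻¹).1 *ᵥ w
      left_inv := fun w => by
        show (B⁻¹).1 *ᵥ (B.1 *ᵥ w) = w
        rw [Matrix.mulVec_mulVec, ← Matrix.SpecialLinearGroup.coe_mul, inv_mul_cancel,
          Matrix.SpecialLinearGroup.coe_one, Matrix.one_mulVec]
      right_inv := fun w => by
        show B.1 *ᵥ ((B⁻¹).1 *ᵥ w) = w
        rw [Matrix.mulVec_mulVec, ← Matrix.SpecialLinearGroup.coe_mul, mul_inv_cancel,
          Matrix.SpecialLinearGroup.coe_one, Matrix.one_mulVec]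
      map_add' := fun u w => Matrix.mulVec_add _ _ _ }
  refine ⟨P.transform (MulAut.conj B).toMonoidHom (MulAut.conj B).injective θ fun M w => ?_,
    rfl, rfl, fun v hv hvW => ?_⟩
  · show B.1 *ᵥ (M.1 *ᵥ w) = (B * M * B⁻¹).1 *ᵥ (B.1 *ᵥ w)
    simp only [Matrix.mulVec_mulVec, ← Matrix.SpecialLinearGroup.coe_mul, inv_mul_cancel_right]
  · show ∃ t, B * P.π ⟨v, hv⟩ * B⁻¹ = up t
    refine exists_conj_upper ?_ ?_
    · rw [← hB, conj_mul, conj_mul, hA, ← map_mul, ← map_mul]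
      congr 3
      exact Subtype.ext (hcomm v₀ hv₀ v hvW)
    · rw [conj_mul, ← map_mul, show (⟨v, hv⟩ : P.L) * ⟨v, hv⟩ = 1 from Subtype.ext (hsq v hvW),
        map_one, mul_one, mul_inv_cancel]

/-- The base of an upper triangular parabolic is the intersection. -/
theorem base_mem_iff (P Q : Par F G) (hQP : Q.V ≤ P.L) (hPQ : P.V ≤ Q.L)
    (hu : ∀ v (hv : v ∈ P.L), v ∈ Q.V → ∃ t, P.π ⟨v, hv⟩ = up t) (hne : ¬Q.V ≤ P.V)
    (w : Fin 2 → F) : P.el w ∈ Q.V ↔ w 1 = 0 := by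
  obtain ⟨v₀, hv₀, hv₀'⟩ := SetLike.not_le_iff_exists.1 hne
  obtain ⟨t₀, ht₀⟩ := hu v₀ (hQP hv₀) hv₀
  have ht0 : t₀ ≠ 0 := fun e => hv₀' ((P.ker _).1 (by rw [ht₀, e, up_zero]))
  constructor
  · intro hw
    have h1 : v₀ * P.el w * v₀⁻¹ = P.el w := by rw [Q.commV hv₀ hw, mul_inv_cancel_right]
    rw [P.act ⟨v₀, hQP hv₀⟩, ht₀, up_mulVec] at h1
    have := congrFun (P.el_inj h1) 0
    simpa [ht0] using this
  · intro hw
    have h1 : v₀ * P.el ![0, w 0 / t₀] * v₀⁻¹ * (P.el ![0, w 0 / t₀])⁻¹ ∈ Q.V := by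
      rw [show v₀ * P.el ![0, w 0 / t₀] * v₀⁻¹ * (P.el ![0, w 0 / t₀])⁻¹ =
        v₀ * (P.el ![0, w 0 / t₀] * v₀⁻¹ * (P.el ![0, w 0 / t₀])⁻¹) by group]
      exact Q.V.mul_mem hv₀ (Q.conj_mem (hPQ (P.el_mem _)) (Q.V.inv_mem hv₀))
    rw [P.act ⟨v₀, hQP hv₀⟩, ht₀, up_mulVec, P.el_inv, ← P.el_add] at h1
    convert h1 using 2
    ext i
    fin_cases i
    · simp [mul_div_cancel₀ _ ht0]
    · simp [hw, CharTwo.add_self_eq_zero]

/-- Compatible coordinates. -/
theorem exists_data (P Q : Par F G) (hQP : Q.V ≤ P.L) (hPQ : P.V ≤ Q.L) (hne₁ : ¬Q.V ≤ P.V)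
    (hne₂ : ¬P.V ≤ Q.V) :
    ∃ D : Data F G, D.P₁.L = P.L ∧ D.P₁.V = P.V ∧ D.P₂.L = Q.L ∧ D.P₂.V = Q.V := by
  obtain ⟨P', hPL, hPV, hPu⟩ :=
    exists_upper P hQP (fun v hv => Q.sqV hv) (fun u hu v hv => Q.commV hu hv) hne₁
  obtain ⟨Q', hQL, hQV, hQu⟩ :=
    exists_upper Q hPQ (fun v hv => P.sqV hv) (fun u hu v hv => P.commV hu hv) hne₂
  rw [← hPL, ← hQV] at hQP
  rw [← hQL, ← hPV] at hPQ
  rw [← hPV, ← hQV] at hne₁ hne₂
  rw [← hQV] at hPu
  rw [← hPV] at hQu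
  have hP := base_mem_iff P' Q' hQP hPQ hPu hne₁
  have hQ := base_mem_iff Q' P' hPQ hQP hQu hne₂
  have hea : ∀ t, ∃ a, P'.el ![a, 0] = Q'.el ![t, 0] := by
    intro t
    have hm : Q'.el ![t, 0] ∈ P'.V := (hQ _).2 rfl
    obtain ⟨w, hw⟩ := P'.el_surj _ hm
    have h1 : w 1 = 0 := (hP w).1 (hw ▸ Q'.el_mem _)
    exact ⟨w 0, by rw [← hw, vec2_eta w, h1]; rfl⟩
  have heb : ∀ t, ∃ b, P'.π ⟨Q'.el ![0, t], hQP (Q'.el_mem _)⟩ = up b := fun t =>
    hPu _ _ (Q'.el_mem _)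
  have hec : ∀ s, ∃ c, Q'.π ⟨P'.el ![0, s], hPQ (P'.el_mem _)⟩ = up c := fun s =>
    hQu _ _ (P'.el_mem _)
  choose fa hfa using hea
  choose fb hfb using heb
  choose fc hfc using hec
  have up_inj : ∀ {x y : F}, (up x : SL2F) = up y → x = y := fun e => by
    simpa [up_val] using congrFun (congrFun (congrArg Subtype.val e) 0) 1
  let α : F →+ F := AddMonoidHom.mk' fa fun s t => by
    have e : P'.el ![fa (s + t), 0] = P'.el ![fa s + fa t, 0] := by
      rw [hfa, show P'.el ![fa s + fa t, 0] = P'.el ![fa s, 0] * P'.el ![fa t, 0] by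
        rw [← P'.el_add]; simp, hfa, hfa, ← Q'.el_add]
      simp
    simpa using congrFun (P'.el_inj e) 0
  let γ : F →+ F := AddMonoidHom.mk' fb fun s t => up_inj (by
    rw [← up_mul, ← hfb, ← hfb, ← hfb, ← map_mul]
    congr 1
    refine Subtype.ext ?_
    show Q'.el ![0, s + t] = Q'.el ![0, s] * Q'.el ![0, t]
    rw [← Q'.el_add]; simp)
  let δ : F →+ F := AddMonoidHom.mk' fc fun s t => up_inj (by
    rw [← up_mul, ← hfc, ← hfc, ← hfc, ← map_mul]
    congr 1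
    refine Subtype.ext ?_
    show P'.el ![0, s + t] = P'.el ![0, s] * P'.el ![0, t]
    rw [← P'.el_add]; simp)
  have hδ : Function.Bijective δ := Finite.injective_iff_bijective.1
    ((injective_iff_map_eq_zero δ).2 fun s hs => by
      have h1 : Q'.π ⟨P'.el ![0, s], hPQ (P'.el_mem _)⟩ = 1 := by
        rw [hfc, show fc s = 0 from hs, up_zero]
      have h2 := (hP _).1 ((Q'.ker _).1 h1)
      simpa using h2)
  let δe := AddEquiv.ofBijective δ hδ
  have hpair : ∀ u t, α (u * t) = δe.symm u * γ t := by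
    intro u t
    set s := δe.symm u with hs
    have hu : fc s = u := δe.apply_symm_apply u
    have hyi : (Q'.el ![0, t])⁻¹ = Q'.el ![0, t] := Q'.el_inv _
    have hxi : (P'.el ![0, s])⁻¹ = P'.el ![0, s] := P'.el_inv _
    have e1 : Q'.el ![0, t] * P'.el ![0, s] * Q'.el ![0, t] = P'.el ![fb t * s, s] := by
      conv_lhs => arg 2; rw [← hyi]
      rw [P'.act ⟨_, hQP (Q'.el_mem _)⟩, hfb, up_mulVec]; simp
    have e2 : P'.el ![0, s] * Q'.el ![0, t] * P'.el ![0, s] = Q'.el ![u * t, t] := by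
      conv_lhs => arg 2; rw [← hxi]
      rw [Q'.act ⟨_, hPQ (P'.el_mem _)⟩, hfc, up_mulVec, hu]; simp
    have e3 : Q'.el ![u * t, 0] = P'.el ![fb t * s, 0] := by
      calc Q'.el ![u * t, 0] = Q'.el ![0, t] * Q'.el ![u * t, t] := by
            rw [← Q'.el_add]
            congr 1
            ext i; fin_cases i <;> simp [CharTwo.add_self_eq_zero]
        _ = P'.el ![fb t * s, s] * P'.el ![0, s] := by rw [← e2, ← e1]; group
        _ = _ := by
            rw [← P'.el_add]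
            congr 1
            ext i; fin_cases i <;> simp [CharTwo.add_self_eq_zero]
    rw [← hfa] at e3
    have := congrFun (P'.el_inj e3) 0
    show fa (u * t) = s * fb t
    rw [mul_comm s]
    simpa using this
  have hγ1 : γ 1 ≠ 0 := fun e => by
    have h1 : P'.π ⟨Q'.el ![0, 1], hQP (Q'.el_mem _)⟩ = 1 := by
      rw [hfb, show fb 1 = 0 from e, up_zero]
    have h2 := (hQ _).1 ((P'.ker _).1 h1)
    simp at h2
  have hδ1 : δe.symm.toAddMonoidHom 1 ≠ 0 := fun e => one_ne_zero (δe.symm.injective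
    ((show δe.symm 1 = 0 from e).trans (map_zero δe.symm).symm))
  obtain ⟨σ, hβ, hγ, hα⟩ :=
    exists_ringEquiv_of_pairing α δe.symm.toAddMonoidHom γ hpair hδ1 hγ1
  set r := γ 1 with hr
  set β₁ := δe.symm.toAddMonoidHom 1 with hβ₁
  have hk : β₁ * r ≠ 0 := mul_ne_zero hδ1 hγ1
  have hinj : Function.Injective (semiDiag σ (β₁ * r) r hk hγ1) := by
    intro M N e
    refine Subtype.ext ?_
    have e' := congrArg Subtype.val e
    ext i j
    fin_cases i <;> fin_cases j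
    · simpa [semiDiag_val] using congrFun (congrFun e' 0) 0
    · simpa [semiDiag_val, hδ1, hγ1] using congrFun (congrFun e' 0) 1
    · simpa [semiDiag_val, hδ1, hγ1] using congrFun (congrFun e' 1) 0
    · simpa [semiDiag_val] using congrFun (congrFun e' 1) 1
  let Q'' : Par F G := Q'.transform (semiDiag σ (β₁ * r) r hk hγ1) hinj
    (semiDiagVec σ (β₁ * r) r hk hγ1) (fun M w => by
      ext i
      fin_cases i <;>
      · simp [semiDiag_val, semiDiagVec, Matrix.mulVec, dotProduct, Fin.sum_univ_two]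
        field_simp)
  refine ⟨⟨P', Q'', fun t => ?_, fun t => ?_, fun s => ⟨hPQ (P'.el_mem _), ?_⟩⟩, hPL, hPV, hQL, hQV⟩
  · show Q'.el _ = _
    rw [show (semiDiagVec σ (β₁ * r) r hk hγ1).symm ![t, 0] = ![σ.symm ((β₁ * r)⁻¹ * t), 0] by
      ext i; fin_cases i <;> simp [semiDiagVec], ← hfa,
      show fa (σ.symm ((β₁ * r)⁻¹ * t)) = t from ?_]
    rw [show fa _ = α _ from rfl, hα, RingEquiv.apply_symm_apply, mul_inv_cancel_left₀ hk]
  · have e : (semiDiagVec σ (β₁ * r) r hk hγ1).symm ![0, t] = ![0, σ.symm (r⁻¹ * t)] := by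
      ext i; fin_cases i <;> simp [semiDiagVec]
    have e1 : Q''.el ![0, t] = Q'.el ![0, σ.symm (r⁻¹ * t)] := by
      show Q'.el _ = _
      rw [e]
    refine ⟨e1 ▸ hQP (Q'.el_mem _), ?_⟩
    rw [show (⟨Q''.el ![0, t], _⟩ : P'.L) = ⟨_, hQP (Q'.el_mem ![0, σ.symm (r⁻¹ * t)])⟩ from
      Subtype.ext e1, hfb, show fb (σ.symm (r⁻¹ * t)) = t from ?_]
    rw [show fb _ = γ _ from rfl, hγ, RingEquiv.apply_symm_apply, mul_inv_cancel_left₀ hγ1]
  · show semiDiag σ (β₁ * r) r hk hγ1 (Q'.π _) = _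
    refine (congrArg (semiDiag σ (β₁ * r) r hk hγ1) (hfc s)).trans ?_
    refine Subtype.ext ?_
    have hs : s = β₁ * σ (fc s) := by
      rw [← hβ]; exact (δe.symm_apply_apply s).symm
    ext i j
    fin_cases i <;> fin_cases j <;> simp [semiDiag_val, up_val]
    rw [mul_div_cancel_right₀ _ hγ1]
    exact hs.symm

end Cfsg.Agent.TwoNatural
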