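import Cfsg.Agent.Lib.TwoNatural.Chain

/-!
# Two natural parabolics: centralisers of elements of `Z` normalise `J` (S3091)

* `exists_V_le_O2`: `O₂(H)` contains `V₁` or `V₂` when `H ≥ J` has characteristic two
* `le_normalizer_J_of_fix`, `centralizer_z_le`: `C(z) ≤ N(J)`
-/

set_option autoImplicit false
set_option linter.unusedSectionVars false

open Matrix Cfsg.Agent.SL2Module Subgroup

namespace Cfsg.Agent.TwoNatural

variable {F : Type*} [Field F] [Fintype F] [CharP F 2] {G : Type*} [Group G] [Finite G]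

local notation "SL2F" => Matrix.SpecialLinearGroup (Fin 2) F

namespace Data

variable (D : Data F G)

theorem commute_jel_iff {a s t a' s' t' : F} :
    D.jel a s t * D.jel a' s' t' = D.jel a' s' t' * D.jel a s t ↔ t * s' = t' * s := by
  rw [D.jel_mul, D.jel_mul]
  constructor
  · intro h
    have := (D.jel_inj h).1
    rw [add_comm a a'] at this
    exact add_left_cancel this
  · intro h
    rw [h, add_comm a a', add_comm s s', add_comm t t']

theorem conj_jel (a₀ s₀ t₀ a s t : F) :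
    D.jel a₀ s₀ t₀ * D.jel a s t * (D.jel a₀ s₀ t₀)⁻¹ = D.jel (a + (t₀ * s + t * s₀)) s t := by
  rw [mul_inv_eq_iff_eq_mul, D.jel_mul, D.jel_mul, add_comm s₀ s, add_comm t₀ t]
  congr 1
  linear_combination (norm := ring_nf) -(CharTwo.two_eq_zero (R := F)) * (t * s₀)

theorem conj_jel_J {j : G} (hj : j ∈ D.J) (a s t : F) :
    ∃ k, j * D.jel a s t * j⁻¹ = D.jel k s t := by
  obtain ⟨a₀, s₀, t₀, rfl⟩ := D.mem_J.1 hj
  exact ⟨_, D.conj_jel ..⟩

theorem jel_mem_inf {a s t : F} : D.jel a s t ∈ D.P₁.V ⊓ D.P₂.V ↔ s = 0 ∧ t = 0 := by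
  rw [Subgroup.mem_inf, D.jel_mem_V₁, D.jel_mem_V₂, and_comm]

theorem inf_central {j v : G} (hj : j ∈ D.J) (hv : v ∈ D.P₁.V ⊓ D.P₂.V) : j * v * j⁻¹ = v := by
  obtain ⟨a, rfl⟩ := D.mem_inf.1 hv
  rw [mem_centralizer_iff.1 (D.z_mem_center a) j hj, mul_inv_cancel_right]

theorem comm_inf {j u : G} (hj : j ∈ D.J) (hu : u ∈ D.J) :
    u⁻¹ * (j * u * j⁻¹) ∈ D.P₁.V ⊓ D.P₂.V := by
  obtain ⟨a, s, t, rfl⟩ := D.mem_J.1 hu
  obtain ⟨k, hk⟩ := D.conj_jel_J hj a s t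
  rw [hk, D.jel_inv, D.jel_mul, D.jel_mem_inf]
  simp [CharTwo.add_self_eq_zero]

/-- An element of `L₁` with upper triangular image normalises `J`. -/
theorem mem_normalizer_J_of_upper {l : G} (hl : l ∈ D.P₁.L) (h10 : (D.P₁.π ⟨l, hl⟩).1 1 0 = 0) :
    l ∈ normalizer (D.J : Set G) := by
  refine mem_normalizer_of fun v hv => ?_
  obtain ⟨t, ht⟩ := D.π_of_mem_J hv
  refine D.mem_J_of_π (D.P₁.L.mul_mem (D.P₁.L.mul_mem hl (D.J_le_L₁ hv)) (D.P₁.L.inv_mem hl))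
    (t := (D.P₁.π ⟨l, hl⟩).1 0 0 * (D.P₁.π ⟨l, hl⟩).1 0 0 * t) ?_
  rw [D.π_conj hl (D.J_le_L₁ hv), ht, mul_inv_eq_iff_eq_mul]
  have hdet := (D.P₁.π ⟨l, hl⟩).2
  rw [Matrix.det_fin_two, h10, mul_zero, sub_zero] at hdet
  refine Subtype.ext ?_
  ext i j
  fin_cases i <;> fin_cases j <;> simp [up_val, Matrix.mul_apply, Fin.sum_univ_two, h10]
  linear_combination (-((D.P₁.π ⟨l, hl⟩).1 0 0 * t)) * hdet

end Data

variable {D : Data F G}

theorem card_eq_of_swap {H : Subgroup G} {r : G} (hrH : r ∈ H)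
    (hr : r ∈ normalizer (D.J : Set G)) (hV : r ∉ normalizer (D.P₁.V : Set G)) :
    Nat.card ↥(O2 H ⊓ D.P₁.V) = Nat.card ↥(O2 H ⊓ D.P₂.V) := by
  have hV' := D.not_V₁_iff hr hV
  refine le_antisymm ?_ ?_
  · refine Nat.card_le_card_of_injective (fun v => (⟨r * v * r⁻¹,
      conj_mem_O2 hrH v.2.1, (hV'.1 v).1 v.2.2⟩ : ↥(O2 H ⊓ D.P₂.V))) fun v w hvw => Subtype.ext ?_
    simpa using congrArg (fun y : ↥(O2 H ⊓ D.P₂.V) => (y : G)) hvw
  · refine Nat.card_le_card_of_injective (fun v => (⟨r * v * r⁻¹,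
      conj_mem_O2 hrH v.2.1, (hV'.2 v).1 v.2.2⟩ : ↥(O2 H ⊓ D.P₁.V))) fun v w hvw => Subtype.ext ?_
    simpa using congrArg (fun y : ↥(O2 H ⊓ D.P₁.V) => (y : G)) hvw

theorem invariant_of {H U : Subgroup G} (h : ∀ g ∈ H, ∀ v ∈ U, g * v * g⁻¹ ∈ U) :
    H ≤ normalizer (U : Set G) := fun g hg => mem_normalizer_of (h g hg)

/-- The elements of `X` commuting with all of `X` modulo a central subgroup `Z`. -/
def secondCentre (X Z : Subgroup G) (hc : ∀ x ∈ X, ∀ v ∈ Z, x * v * x⁻¹ = v) : Subgroup G where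
  carrier := {x | x ∈ X ∧ ∀ u ∈ X, x * u * x⁻¹ * u⁻¹ ∈ Z}
  one_mem' := ⟨X.one_mem, fun u _ => by simp⟩
  mul_mem' {x y} hx hy := ⟨X.mul_mem hx.1 hy.1, fun u hu => by
    rw [show x * y * u * (x * y)⁻¹ * u⁻¹ =
      x * (y * u * y⁻¹ * u⁻¹) * x⁻¹ * (x * u * x⁻¹ * u⁻¹) by group, hc x hx.1 _ (hy.2 u hu)]
    exact Z.mul_mem (hy.2 u hu) (hx.2 u hu)⟩
  inv_mem' {x} hx := ⟨X.inv_mem hx.1, fun u hu => by
    rw [inv_inv, show x⁻¹ * u * x * u⁻¹ = x⁻¹ * (x * u * x⁻¹ * u⁻¹)⁻¹ * x⁻¹⁻¹ by group,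
      hc _ (X.inv_mem hx.1) _ (Z.inv_mem (hx.2 u hu))]
    exact Z.inv_mem (hx.2 u hu)⟩

namespace Hyp

variable (h : Hyp D) {H : Subgroup G} (hJH : D.J ≤ H) (hH : Cfsg.IsOfCharacteristicTwo ↥H)
include h hJH hH

/-- A chain through `Z` centralised by `J` puts `J` into `O₂(H)`. -/
theorem J_le_of_chain {U₂ U₃ : Subgroup G} (h12 : D.P₁.V ⊓ D.P₂.V ≤ U₂) (h23 : U₂ ≤ U₃)
    (h3 : U₃ ≤ O2 H) (h2J : U₂ ≤ D.J)
    (n₁ : H ≤ normalizer ((D.P₁.V ⊓ D.P₂.V : Subgroup G) : Set G))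
    (n₂ : H ≤ normalizer (U₂ : Set G)) (n₃ : H ≤ normalizer (U₃ : Set G))
    (s₃ : ∀ j ∈ D.J, ∀ u ∈ U₃, u⁻¹ * (j * u * j⁻¹) ∈ U₂)
    (s₄ : ∀ j ∈ D.J, ∀ u ∈ O2 H, u⁻¹ * (j * u * j⁻¹) ∈ U₃) : D.J ≤ O2 H :=
  fun j hj => mem_O2_of_chain hH h12 h23 h3 n₁ n₂ n₃ (hJH hj) (fun _ hu => D.inf_central hj hu)
    (fun _ hu => D.comm_inf hj (h2J hu)) (s₃ j hj) (s₄ j hj)

theorem V_le_of_O2_le_J (hRJ : O2 H ≤ D.J) : D.P₁.V ≤ O2 H ∨ D.P₂.V ≤ O2 H := by
  have hZR := h.inf_le_O2 hJH hH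
  have fin : H ≤ normalizer ((D.P₁.V ⊓ D.P₂.V : Subgroup G) : Set G) → D.P₁.V ≤ O2 H := fun hZn =>
    le_sup_left.trans (h.J_le_of_chain hJH hH hZR le_rfl le_rfl hRJ hZn (le_normalizer_O2 H)
      (le_normalizer_O2 H) (fun j hj u hu => (h.comm_mem hJH hj hu).1)
      (fun j hj u hu => (h.comm_mem hJH hj hu).1))
  by_cases hab : ∀ u ∈ O2 H, ∀ v ∈ O2 H, u * v = v * u
  · obtain ⟨w, hw, hwn⟩ := SetLike.not_le_iff_exists.1 (h.exists_notMem_inf hJH hH)
    obtain ⟨a₀, s₀, t₀, rfl⟩ := D.mem_J.1 hw.2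
    have hne : s₀ ≠ 0 ∨ t₀ ≠ 0 := by
      by_contra hc
      push Not at hc
      exact hwn (D.jel_mem_inf.2 hc)
    have hline : ∀ a s t, D.jel a s t ∈ O2 H → t₀ * s = t * s₀ := fun a s t hu =>
      D.commute_jel_iff.1 (hab _ hw.1 _ hu)
    have hmem : ∀ a s t, t₀ * s = t * s₀ → D.jel a s t ∈ O2 H := by
      intro a s t hst
      refine mem_O2_of_centralizes hH (hJH (D.jel_mem _ _ _)) fun v hv => ?_
      obtain ⟨a', s', t', rfl⟩ := D.mem_J.1 (hRJ hv)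
      have h' := hline _ _ _ hv
      rw [mul_inv_eq_iff_eq_mul, D.commute_jel_iff]
      rcases hne with hs | ht
      · exact mul_right_cancel₀ hs (by linear_combination s * h' - s' * hst)
      · exact mul_left_cancel₀ ht (by linear_combination t * h' - t' * hst)
    by_cases hs : s₀ = 0
    · refine Or.inr fun v hv => ?_
      obtain ⟨a, s, t, rfl⟩ := D.mem_J.1 (mem_sup_right hv : v ∈ D.J)
      exact hmem a s t (by rw [D.jel_mem_V₂.1 hv, hs, mul_zero, mul_zero])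
    by_cases ht : t₀ = 0
    · refine Or.inl fun v hv => ?_
      obtain ⟨a, s, t, rfl⟩ := D.mem_J.1 (mem_sup_left hv : v ∈ D.J)
      exact hmem a s t (by rw [D.jel_mem_V₁.1 hv, ht, zero_mul, zero_mul])
    refine Or.inl (fin (invariant_of fun g hg v hv => ?_))
    have h1 := conj_mem_O2 hg (hZR hv)
    have h2 : g * v * g⁻¹ * (g * v * g⁻¹) = 1 := by
      rw [conj_mul, D.P₁.sqV hv.1]; simp
    obtain ⟨a, s, t, e⟩ := D.mem_J.1 (hRJ h1)
    rw [← e] at h1 h2 ⊢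
    have hst := hline _ _ _ h1
    rw [D.jel_sq, ← D.z_zero] at h2
    rw [D.jel_mem_inf]
    rcases mul_eq_zero.1 (D.z_inj h2) with ht' | hs'
    · exact ⟨(mul_eq_zero.1 (hst.trans (by rw [ht', zero_mul]))).resolve_left ht, ht'⟩
    · exact ⟨hs', (mul_eq_zero.1 (hst.symm.trans (by rw [hs', mul_zero]))).resolve_right hs⟩
  · push Not at hab
    obtain ⟨u, hu, v, hv, huv⟩ := hab
    obtain ⟨a₁, s₁, t₁, rfl⟩ := D.mem_J.1 (hRJ hu)
    obtain ⟨a₂, s₂, t₂, rfl⟩ := D.mem_J.1 (hRJ hv)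
    replace huv : t₁ * s₂ ≠ t₂ * s₁ := fun e => huv (D.commute_jel_iff.2 e)
    refine Or.inl (fin (invariant_of fun g hg x hx => ?_))
    have h1 := conj_mem_O2 hg (hZR hx)
    have hc : ∀ r ∈ O2 H, r * (g * x * g⁻¹) = (g * x * g⁻¹) * r := by
      intro r hr
      have hr' : g⁻¹ * r * g ∈ O2 H := by simpa using conj_mem_O2 (H.inv_mem hg) hr
      have := mul_inv_eq_iff_eq_mul.1 (D.inf_central (hRJ hr') hx)
      calc r * (g * x * g⁻¹) = g * (g⁻¹ * r * g * x) * g⁻¹ := by group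
        _ = g * (x * (g⁻¹ * r * g)) * g⁻¹ := by rw [this]
        _ = _ := by group
    obtain ⟨a, s, t, e⟩ := D.mem_J.1 (hRJ h1)
    rw [← e] at hc ⊢
    have e1 := D.commute_jel_iff.1 (hc _ hu)
    have e2 := D.commute_jel_iff.1 (hc _ hv)
    have hd : t₁ * s₂ - t₂ * s₁ ≠ 0 := sub_ne_zero.2 huv
    rw [D.jel_mem_inf]
    constructor
    · exact (mul_eq_zero.1 (show s * (t₁ * s₂ - t₂ * s₁) = 0 by
        linear_combination s₂ * e1 - s₁ * e2)).resolve_right hd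
    · exact (mul_eq_zero.1 (show t * (t₁ * s₂ - t₂ * s₁) = 0 by
        linear_combination t₂ * e1 - t₁ * e2)).resolve_right hd

omit hH in
/-- Conjugates of the largest elementary subgroup. -/
theorem conj_inter_cases
    (hmax : ∀ W : Subgroup G, W ≤ O2 H → (∀ w ∈ W, w * w = 1) →
      (∀ u ∈ W, ∀ v ∈ W, u * v = v * u) → ¬W ≤ D.J → Nat.card W < Nat.card ↥(O2 H ⊓ D.P₁.V))
    (hle : Nat.card ↥(O2 H ⊓ D.P₂.V) ≤ Nat.card ↥(O2 H ⊓ D.P₁.V)) {g : G} (hg : g ∈ H) :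
    (O2 H ⊓ D.P₁.V).map (MulAut.conj g).toMonoidHom = O2 H ⊓ D.P₁.V ∨
      ((O2 H ⊓ D.P₁.V).map (MulAut.conj g).toMonoidHom = O2 H ⊓ D.P₂.V ∧
        Nat.card ↥(O2 H ⊓ D.P₂.V) = Nat.card ↥(O2 H ⊓ D.P₁.V)) := by
  set W := (O2 H ⊓ D.P₁.V).map (MulAut.conj g).toMonoidHom with hW
  have hWR : W ≤ O2 H := by rintro _ ⟨v, hv, rfl⟩; exact conj_mem_O2 hg hv.1
  have h2 : ∀ w ∈ W, w * w = 1 := by
    rintro _ ⟨v, hv, rfl⟩; rw [← map_mul, D.P₁.sqV hv.2, map_one]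
  have hc : ∀ u ∈ W, ∀ v ∈ W, u * v = v * u := by
    rintro _ ⟨u, hu, rfl⟩ _ ⟨v, hv, rfl⟩; rw [← map_mul, ← map_mul, D.P₁.commV hu.2 hv.2]
  have hcard : Nat.card W = Nat.card ↥(O2 H ⊓ D.P₁.V) :=
    Subgroup.card_map_of_injective (MulAut.conj g).injective
  have hWJ : W ≤ D.J := by
    by_contra hn
    have := hmax W hWR h2 hc hn
    omega
  rcases D.mem_V₁_or_le hWJ h2 with h' | h'
  · exact Or.inl (Subgroup.eq_of_le_of_card_ge (le_inf hWR h') hcard.ge)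
  · have hle' := le_inf hWR h'
    have := Subgroup.card_le_of_le hle'
    exact Or.inr ⟨Subgroup.eq_of_le_of_card_ge hle' (by omega), by omega⟩

/-- When the two intersections have the same order, their conjugates stay among them. -/
theorem inf_normalized
    (hmax : ∀ W : Subgroup G, W ≤ O2 H → (∀ w ∈ W, w * w = 1) →
      (∀ u ∈ W, ∀ v ∈ W, u * v = v * u) → ¬W ≤ D.J → Nat.card W < Nat.card ↥(O2 H ⊓ D.P₁.V))
    (heq : Nat.card ↥(O2 H ⊓ D.P₂.V) = Nat.card ↥(O2 H ⊓ D.P₁.V)) :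
    H ≤ normalizer ((D.P₁.V ⊓ D.P₂.V : Subgroup G) : Set G) ∧ ∀ g ∈ H,
      ((O2 H ⊓ D.P₁.V).map (MulAut.conj g).toMonoidHom = O2 H ⊓ D.P₁.V ∨
        (O2 H ⊓ D.P₁.V).map (MulAut.conj g).toMonoidHom = O2 H ⊓ D.P₂.V) ∧
      ((O2 H ⊓ D.P₂.V).map (MulAut.conj g).toMonoidHom = O2 H ⊓ D.P₁.V ∨
        (O2 H ⊓ D.P₂.V).map (MulAut.conj g).toMonoidHom = O2 H ⊓ D.P₂.V) := by
  have key : ∀ g ∈ H,
      ((O2 H ⊓ D.P₁.V).map (MulAut.conj g).toMonoidHom = O2 H ⊓ D.P₁.V ∨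
        (O2 H ⊓ D.P₁.V).map (MulAut.conj g).toMonoidHom = O2 H ⊓ D.P₂.V) ∧
      ((O2 H ⊓ D.P₂.V).map (MulAut.conj g).toMonoidHom = O2 H ⊓ D.P₁.V ∨
        (O2 H ⊓ D.P₂.V).map (MulAut.conj g).toMonoidHom = O2 H ⊓ D.P₂.V) := fun g hg =>
    ⟨(h.conj_inter_cases hJH hmax heq.le hg).imp_right And.left,
      ((h.swap.conj_inter_cases (D.swap_J.le.trans hJH)
        (fun W h1 h2 h3 h4 => (hmax W h1 h2 h3 (D.swap_J ▸ h4)).trans_eq heq.symm)
        heq.ge hg).imp_right And.left).symm⟩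
  refine ⟨invariant_of fun g hg v hv => ?_, key⟩
  have hvR := h.inf_le_O2 hJH hH hv
  have m1 : g * v * g⁻¹ ∈ (O2 H ⊓ D.P₁.V).map (MulAut.conj g).toMonoidHom :=
    ⟨v, ⟨hvR, hv.1⟩, rfl⟩
  have m2 : g * v * g⁻¹ ∈ (O2 H ⊓ D.P₂.V).map (MulAut.conj g).toMonoidHom :=
    ⟨v, ⟨hvR, hv.2⟩, rfl⟩
  have hinj := Subgroup.map_injective (f := (MulAut.conj g).toMonoidHom) (MulAut.conj g).injective
  obtain ⟨k1, k2⟩ := key g hg
  rcases k1 with k1 | k1 <;> rcases k2 with k2 | k2 <;> rw [k1] at m1 <;> rw [k2] at m2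
  · have e := hinj (k1.trans k2.symm)
    exact ⟨m1.2, (e ▸ m1 : g * v * g⁻¹ ∈ O2 H ⊓ D.P₂.V).2⟩
  · exact ⟨m1.2, m2.2⟩
  · exact ⟨m2.2, m1.2⟩
  · have e := hinj (k1.trans k2.symm)
    exact ⟨(e.symm ▸ m1 : g * v * g⁻¹ ∈ O2 H ⊓ D.P₁.V).2, m1.2⟩

theorem two_mul_lt_card_inter (hq8 : 8 ≤ Fintype.card F) {r : G} (hr : r ∈ O2 H)
    (hrV : r ∈ normalizer (D.P₁.V : Set G)) (hrJ : r ∉ D.J) :
    2 * Fintype.card F < Nat.card ↥(O2 H ⊓ D.P₁.V) := by
  have hrN := h.O2_le_normalizer_J hJH hr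
  obtain ⟨σ, b, c, hb, hc, hz, hj⟩ := D.exists_straight_maps hrN hrV
  have hσ : σ ≠ 1 := fun hσ => hrJ (by
    obtain ⟨n, hn⟩ := isPGroup_O2 H ⟨r, hr⟩
    refine h.mem_J_of_kernel hrN hrV ?_ (congrArg Subtype.val hn)
    rw [← hσ]
    exact D.fieldAut_eq (mul_ne_zero hb hc) fun a => D.zmap_eq (hz a))
  let f : F →+ F := AddMonoidHom.mk' (fun s => s + b * σ s) fun s t => by rw [map_add]; ring
  have hker : Nat.card f.ker ^ 2 ≤ Fintype.card F := by
    rw [← Nat.card_eq_fintype_card]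
    refine le_trans (Nat.pow_le_pow_left (Nat.card_le_card_of_injective (fun s : f.ker =>
      (⟨s.1, ?_⟩ : {a : F // b * σ a = a})) fun s t hst => ?_) 2) (card_semifix_sq_le hσ b)
    · exact (CharTwo.add_eq_zero.1 (AddMonoidHom.mem_ker.1 s.2)).symm
    · exact Subtype.ext (congrArg (fun y : {a : F // b * σ a = a} => y.1) hst)
  have hmul : Nat.card f.ker * Nat.card f.range = Fintype.card F := by
    rw [← AddSubgroup.index_ker, AddSubgroup.card_mul_index, Nat.card_eq_fintype_card]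
  have hmem : ∀ a m, m ∈ f.range → D.jel a m 0 ∈ O2 H := by
    rintro a _ ⟨s, rfl⟩
    obtain ⟨k, hk⟩ := hj 0 s 0
    rw [map_zero, mul_zero] at hk
    have h1 : D.jel 0 s 0 * r * (D.jel 0 s 0)⁻¹ * r⁻¹ = D.jel k (s + b * σ s) 0 := by
      have hi : (D.jel 0 s 0)⁻¹ = D.jel 0 s 0 := by rw [D.jel_inv]; simp
      calc D.jel 0 s 0 * r * (D.jel 0 s 0)⁻¹ * r⁻¹
          = D.jel 0 s 0 * (r * D.jel 0 s 0 * r⁻¹) := by rw [hi]; group
        _ = _ := by rw [hk, D.jel_mul]; simp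
    have h2 : D.jel k (s + b * σ s) 0 ∈ O2 H := h1 ▸ (O2 H).mul_mem
      (conj_mem_O2 (hJH (D.jel_mem _ _ _)) hr) ((O2 H).inv_mem hr)
    have h3 : D.z (a + k) ∈ O2 H := h.inf_le_O2 hJH hH (D.mem_inf.2 ⟨_, rfl⟩)
    have := (O2 H).mul_mem h3 h2
    rwa [D.z_eq, D.jel_mul, zero_mul, add_zero, add_assoc, CharTwo.add_self_eq_zero, add_zero,
      zero_add, zero_add] at this
  have hinj : Nat.card (F × f.range) ≤ Nat.card ↥(O2 H ⊓ D.P₁.V) := by
    refine Nat.card_le_card_of_injective (fun p => (⟨D.jel p.1 p.2 0, hmem _ _ p.2.2,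
      D.jel_mem_V₁.2 rfl⟩ : ↥(O2 H ⊓ D.P₁.V))) fun p p' hp => ?_
    obtain ⟨e1, e2, -⟩ := D.jel_inj (congrArg (fun y : ↥(O2 H ⊓ D.P₁.V) => (y : G)) hp)
    exact Prod.ext e1 (Subtype.ext e2)
  rw [Nat.card_prod, Nat.card_eq_fintype_card (α := F)] at hinj
  have hr3 : 3 ≤ Nat.card f.range := by nlinarith
  nlinarith

theorem V₁_le_of_field (hq8 : 8 ≤ Fintype.card F) {r : G} (hr : r ∈ O2 H)
    (hrV : r ∈ normalizer (D.P₁.V : Set G)) (hrJ : r ∉ D.J)
    (hle : Nat.card ↥(O2 H ⊓ D.P₂.V) ≤ Nat.card ↥(O2 H ⊓ D.P₁.V)) : D.P₁.V ≤ O2 H := by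
  have hRN := h.O2_le_normalizer_J hJH
  have hbig := h.two_mul_lt_card_inter hJH hH hq8 hr hrV hrJ
  have hmax : ∀ W : Subgroup G, W ≤ O2 H → (∀ w ∈ W, w * w = 1) →
      (∀ u ∈ W, ∀ v ∈ W, u * v = v * u) → ¬W ≤ D.J → Nat.card W < Nat.card ↥(O2 H ⊓ D.P₁.V) :=
    fun W h1 h2 h3 h4 => lt_of_le_of_lt (h.card_elem_le (h1.trans hRN) h2 h3 h4) hbig
  rcases hle.lt_or_eq with hlt | heq
  · have hst : O2 H ≤ normalizer (D.P₁.V : Set G) := fun x hx => by
      by_contra hxV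
      exact hlt.ne' (card_eq_of_swap (O2_le H hx) (hRN hx) hxV)
    have hn : H ≤ normalizer ((O2 H ⊓ D.P₁.V : Subgroup G) : Set G) :=
      invariant_of fun g hg v hv => by
        rcases h.conj_inter_cases hJH hmax hle hg with e | ⟨-, e⟩
        · exact e.le ⟨v, hv, rfl⟩
        · omega
    intro x hx
    have hcomm : ∀ u ∈ O2 H, u⁻¹ * (x * u * x⁻¹) ∈ O2 H ⊓ D.P₁.V := fun u hu =>
      ⟨(h.comm_mem hJH (mem_sup_left hx) hu).1, by
        rw [show u⁻¹ * (x * u * x⁻¹) = u⁻¹ * x * u * x⁻¹ by group]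
        exact D.P₁.V.mul_mem (conj_mem_inv (hst hu) hx) (D.P₁.V.inv_mem hx)⟩
    exact mem_O2_of_chain hH le_rfl le_rfl inf_le_left hn hn hn (hJH (mem_sup_left hx))
      (fun u hu => by rw [D.P₁.commV hx hu.2, mul_inv_cancel_right])
      (fun u hu => hcomm u hu.1) (fun u hu => hcomm u hu.1) hcomm
  · obtain ⟨hZn, key⟩ := h.inf_normalized hJH hH hmax heq
    have hZR := h.inf_le_O2 hJH hH
    set E := (O2 H ⊓ D.P₁.V) ⊔ (O2 H ⊓ D.P₂.V) with hE
    have hEJ : E ≤ D.J :=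
      sup_le (inf_le_right.trans le_sup_left) (inf_le_right.trans le_sup_right)
    have hEn : H ≤ normalizer (E : Set G) := invariant_of fun g hg v hv => by
      have : E.map (MulAut.conj g).toMonoidHom ≤ E := by
        rw [hE, Subgroup.map_sup]
        obtain ⟨k1, k2⟩ := key g hg
        refine sup_le ?_ ?_
        · rcases k1 with k | k <;> rw [k]
          · exact le_sup_left
          · exact le_sup_right
        · rcases k2 with k | k <;> rw [k]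
          · exact le_sup_left
          · exact le_sup_right
      exact this ⟨v, hv, rfl⟩
    have hbig' : Fintype.card F < Nat.card ↥(O2 H ⊓ D.P₁.V) := by omega
    have hiff : ∀ y ∈ O2 H, y ∈ normalizer (D.P₁.V : Set G) ↔
        ∀ v ∈ O2 H ⊓ D.P₁.V, y * v * y⁻¹ ∈ D.P₁.V := by
      refine fun y hy => ⟨fun hy' v hv => conj_mem_of hy' hv.2, fun hy' => ?_⟩
      by_contra hyV
      have hsub : O2 H ⊓ D.P₁.V ≤ D.P₁.V ⊓ D.P₂.V := fun v hv => by
        refine ⟨hv.2, ((D.not_V₁_iff (hRN hy) hyV).2 v).2 (hy' v hv)⟩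
      have := Subgroup.card_le_of_le hsub
      rw [card_inf] at this
      omega
    have hR0n : H ≤ normalizer ((O2 H ⊓ normalizer (D.P₁.V : Set G) : Subgroup G) : Set G) :=
      invariant_of fun g hg y hy => by
        have hyR := conj_mem_O2 hg hy.1
        refine ⟨hyR, (hiff _ hyR).2 fun v hv => ?_⟩
        set X := (O2 H ⊓ D.P₁.V).map (MulAut.conj g⁻¹).toMonoidHom with hX
        have hyX : ∀ x ∈ X, y * x * y⁻¹ ∈ X := by
          rcases (key g⁻¹ (H.inv_mem hg)).1 with e | e <;> rw [hX, e] <;> intro x hx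
          · exact ⟨conj_mem_O2 (O2_le H hy.1) hx.1, conj_mem_of hy.2 hx.2⟩
          · exact ⟨conj_mem_O2 (O2_le H hy.1) hx.1,
              conj_mem_of (D.normalizes_V₂ (hRN hy.1) hy.2) hx.2⟩
        obtain ⟨w, hw, e⟩ := hyX _ ⟨v, hv, rfl⟩
        change g⁻¹ * w * g⁻¹⁻¹ = y * (g⁻¹ * v * g⁻¹⁻¹) * y⁻¹ at e
        have e' : g * y * g⁻¹ * v * (g * y * g⁻¹)⁻¹ = w := by
          calc g * y * g⁻¹ * v * (g * y * g⁻¹)⁻¹ = g * (y * (g⁻¹ * v * g⁻¹⁻¹) * y⁻¹) * g⁻¹ := by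
                group
            _ = w := by rw [← e]; group
        rw [e']; exact hw.2
    refine le_sup_left.trans (h.J_le_of_chain hJH hH ?_ ?_ inf_le_left hEJ hZn hEn hR0n ?_ ?_)
    · exact fun v hv => mem_sup_left ⟨hZR hv, hv.1⟩
    · exact le_inf (sup_le inf_le_left inf_le_left)
        (hEJ.trans (D.J_le_L₁.trans D.P₁.le_normalizer))
    · intro j hj u hu
      have hZE : D.P₁.V ⊓ D.P₂.V ≤ E := fun v hv => mem_sup_left ⟨hZR hv, hv.1⟩
      have hu2 := D.normalizes_V₂ (hRN hu.1) hu.2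
      let K : Subgroup G :=
        { carrier := {x | x ∈ D.J ∧ u⁻¹ * (x * u * x⁻¹) ∈ E}
          one_mem' := ⟨D.J.one_mem, by simp⟩
          mul_mem' := fun {x y} hx hy => ⟨D.J.mul_mem hx.1 hy.1, by
            rw [show u⁻¹ * (x * y * u * (x * y)⁻¹) =
              (u⁻¹ * (x * u * x⁻¹)) * (x * (u⁻¹ * (y * u * y⁻¹)) * x⁻¹) by group]
            refine E.mul_mem hx.2 ?_
            have := E.mul_mem hy.2 (hZE (D.comm_inf hx.1 (hEJ hy.2)))
            rwa [mul_inv_cancel_left] at this⟩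
          inv_mem' := fun {x} hx => ⟨D.J.inv_mem hx.1, by
            rw [show u⁻¹ * (x⁻¹ * u * x⁻¹⁻¹) = x⁻¹ * (x * u⁻¹ * x⁻¹ * u) * x⁻¹⁻¹ by group,
              show x * u⁻¹ * x⁻¹ * u = (u⁻¹ * (x * u * x⁻¹))⁻¹ by group]
            have := E.mul_mem (E.inv_mem hx.2)
              (hZE (D.comm_inf (D.J.inv_mem hx.1) (hEJ (E.inv_mem hx.2))))
            rwa [mul_inv_cancel_left] at this⟩ }
      have h1 : D.P₁.V ≤ K := fun x hx => by
        refine ⟨mem_sup_left hx, mem_sup_left ⟨(h.comm_mem hJH (mem_sup_left hx) hu.1).1, ?_⟩⟩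
        rw [show u⁻¹ * (x * u * x⁻¹) = u⁻¹ * x * u * x⁻¹ by group]
        exact D.P₁.V.mul_mem (conj_mem_inv hu.2 hx) (D.P₁.V.inv_mem hx)
      have h2 : D.P₂.V ≤ K := fun x hx => by
        refine ⟨mem_sup_right hx, mem_sup_right ⟨(h.comm_mem hJH (mem_sup_right hx) hu.1).1, ?_⟩⟩
        rw [show u⁻¹ * (x * u * x⁻¹) = u⁻¹ * x * u * x⁻¹ by group]
        exact D.P₂.V.mul_mem (conj_mem_inv hu2 hx) (D.P₂.V.inv_mem hx)
      exact (sup_le h1 h2 hj : j ∈ K).2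
    · intro j hj u hu
      have := h.comm_mem hJH hj hu
      exact ⟨this.1, D.P₁.le_normalizer (D.J_le_L₁ this.2)⟩

omit hH in
/-- All exchanging elements of `O₂(H)` act on `J/Z` as one of them does. -/
theorem swap_act (hR0 : ∀ x ∈ O2 H, x ∈ normalizer (D.P₁.V : Set G) → x ∈ D.J) {r : G}
    (hr : r ∈ O2 H) (hrV : r ∉ normalizer (D.P₁.V : Set G)) {σ : F ≃+* F} {b c : F}
    (hj : ∀ a s t, ∃ k, r * D.jel a s t * r⁻¹ = D.jel k (c * σ t) (b * σ s)) {v : G}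
    (hv : v ∈ O2 H) (hvV : v ∉ normalizer (D.P₁.V : Set G)) (a s t : F) :
    ∃ k, v * D.jel a s t * v⁻¹ = D.jel k (c * σ t) (b * σ s) := by
  have hRN := h.O2_le_normalizer_J hJH
  have hri : r⁻¹ ∉ normalizer (D.P₁.V : Set G) := fun h' => hrV (by simpa using inv_mem h')
  have hvi : v⁻¹ ∉ normalizer (D.P₁.V : Set G) := fun h' => hvV (by simpa using inv_mem h')
  have hq : v * r⁻¹ ∈ D.J := hR0 _ ((O2 H).mul_mem hv ((O2 H).inv_mem hr)) (by
    simpa using D.inv_mul_straight (inv_mem (hRN hv)) (inv_mem (hRN hr)) hvi hri)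
  obtain ⟨k, hk⟩ := hj a s t
  obtain ⟨k', hk'⟩ := D.conj_jel_J hq k (c * σ t) (b * σ s)
  exact ⟨k', by rw [← hk', ← hk]; group⟩

theorem J_le_of_swap_field (hq8 : 8 ≤ Fintype.card F) (hR0 : ∀ x ∈ O2 H, x ∈ normalizer (D.P₁.V : Set G) → x ∈ D.J) {r : G}
    (hr : r ∈ O2 H) (hrV : r ∉ normalizer (D.P₁.V : Set G)) (hθ : D.fieldAut r ≠ 1) :
    D.J ≤ O2 H := by
  have hRN := h.O2_le_normalizer_J hJH
  have hZR := h.inf_le_O2 hJH hH
  have hθ' : ∀ v ∈ O2 H, v ∉ normalizer (D.P₁.V : Set G) → D.fieldAut v = D.fieldAut r := by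
    intro v hv hvV
    have hq : r⁻¹ * v ∈ D.J := hR0 _ ((O2 H).mul_mem ((O2 H).inv_mem hr) hv)
      (D.inv_mul_straight (hRN hr) (hRN hv) hrV hvV)
    conv_lhs => rw [show v = r * (r⁻¹ * v) by group]
    rw [D.fieldAut_mul (hRN hr) (D.J_le_normalizer hq), D.fieldAut_of_mem_J hq, mul_one]
  have heq : Nat.card ↥(O2 H ⊓ D.P₂.V) = Nat.card ↥(O2 H ⊓ D.P₁.V) :=
    (card_eq_of_swap (O2_le H hr) (hRN hr) hrV).symm
  have hmax : ∀ W : Subgroup G, W ≤ O2 H → (∀ w ∈ W, w * w = 1) →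
      (∀ u ∈ W, ∀ v ∈ W, u * v = v * u) → ¬W ≤ D.J →
      Nat.card W < Nat.card ↥(O2 H ⊓ D.P₁.V) := by
    intro W h1 h2 h3 h4
    obtain ⟨w, hw, hwJ⟩ := SetLike.not_le_iff_exists.1 h4
    have hwV : w ∉ normalizer (D.P₁.V : Set G) := fun h' => hwJ (hR0 w (h1 hw) h')
    have hor : W ⊓ D.J ≤ D.P₁.V ∨ W ⊓ D.J ≤ D.P₂.V :=
      D.mem_V₁_or_le inf_le_right fun a ha => h2 a ha.1
    have hfix : ∀ v ∈ W ⊓ D.J, w * v * w⁻¹ = v := fun v hv => by
      rw [h3 w hw v hv.1, mul_inv_cancel_right]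
    have e1 := D.card_zfix_sq_le (hRN (h1 hw)) (by rw [hθ' w (h1 hw) hwV]; exact hθ)
      (fix_le_inf (hRN (h1 hw)) hwV hor hfix) hfix
    have e2 := card_all_le (D := D) (h1.trans hRN)
    have e3 : Nat.card ↥(W ⊓ normalizer (D.P₁.V : Set G)) ≤ Nat.card ↥(W ⊓ D.J) :=
      Subgroup.card_le_of_le fun u hu => ⟨hu.1, hR0 u (h1 hu.1) hu.2⟩
    have e4 : Fintype.card F ≤ Nat.card ↥(O2 H ⊓ D.P₁.V) := by
      rw [← card_inf (D := D)]; exact Subgroup.card_le_of_le (le_inf hZR inf_le_left)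
    have := h.hq
    by_contra hcon
    push Not at hcon
    have e5 : Fintype.card F ≤ 2 * Nat.card ↥(W ⊓ D.J) := by omega
    have e6 : Fintype.card F * Fintype.card F ≤
        2 * Nat.card ↥(W ⊓ D.J) * (2 * Nat.card ↥(W ⊓ D.J)) := Nat.mul_le_mul e5 e5
    nlinarith
  obtain ⟨hZn, -⟩ := h.inf_normalized hJH hH hmax heq
  have hAn : H ≤ normalizer ((O2 H ⊓ D.J : Subgroup G) : Set G) :=
    invariant_of fun g hg x hx => by
      have hxR := conj_mem_O2 hg hx.1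
      refine ⟨hxR, hR0 _ hxR ?_⟩
      by_contra hV
      refine hθ ?_
      rw [← hθ' _ hxR hV]
      refine D.fieldAut_eq (e := 1) one_ne_zero fun a => D.zmap_eq ?_
      have hz : D.z a ∈ D.P₁.V ⊓ D.P₂.V := D.mem_inf.2 ⟨a, rfl⟩
      have := D.inf_central hx.2 (conj_mem_inv (hZn hg) hz)
      calc g * x * g⁻¹ * D.z a * (g * x * g⁻¹)⁻¹
          = g * (x * (g⁻¹ * D.z a * g) * x⁻¹) * g⁻¹ := by group
        _ = D.z a := by rw [this]; group
        _ = _ := by rw [one_mul]; rfl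
  exact h.J_le_of_chain hJH hH (le_inf hZR (inf_le_left.trans le_sup_left)) le_rfl inf_le_left
    inf_le_right hZn hAn hAn (fun j hj u hu => h.comm_mem hJH hj hu.1)
    (fun j hj u hu => h.comm_mem hJH hj hu)

theorem J_le_of_swap_linear (hq8 : 8 ≤ Fintype.card F)
    (hR0 : ∀ x ∈ O2 H, x ∈ normalizer (D.P₁.V : Set G) → x ∈ D.J) {r : G}
    (hr : r ∈ O2 H) (hrV : r ∉ normalizer (D.P₁.V : Set G)) (hθ : D.fieldAut r = 1) :
    D.J ≤ O2 H := by
  have hRN := h.O2_le_normalizer_J hJH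
  have hZR := h.inf_le_O2 hJH hH
  obtain ⟨σ, b, c, hb, hc, hz, hj⟩ := D.exists_swap_maps (hRN hr) hrV
  have hσ : σ = 1 := by
    rw [← hθ]; exact (D.fieldAut_eq (mul_ne_zero hb hc) fun a => D.zmap_eq (hz a)).symm
  subst hσ
  simp only [RingAut.one_apply] at hz hj
  have hrr : r * r ∈ D.J := hR0 _ ((O2 H).mul_mem hr hr) (by
    simpa using D.inv_mul_straight (inv_mem (hRN hr)) (hRN hr)
      (fun h' => hrV (by simpa using inv_mem h')) hrV)
  have hbc : b * c = 1 := by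
    have h1 := hz (b * c)
    rw [show D.z (b * c) = r * D.z 1 * r⁻¹ by rw [hz, mul_one],
      show r * (r * D.z 1 * r⁻¹) * r⁻¹ = r * r * D.z 1 * (r * r)⁻¹ by group,
      mem_centralizer_iff.1 (D.z_mem_center 1) _ hrr, mul_inv_cancel_right] at h1
    refine eq_of_pow_two_eq_one (n := 1) ?_
    rw [pow_one, sq]; exact (D.z_inj h1).symm
  have hact : ∀ v ∈ O2 H, v ∉ normalizer (D.P₁.V : Set G) → ∀ a s t,
      ∃ k, v * D.jel a s t * v⁻¹ = D.jel k (c * t) (b * s) := fun v hv hvV a s t =>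
    h.swap_act hJH hR0 hr hrV (σ := 1) (fun a s t => hj a s t) hv hvV a s t
  have hfixZ : ∀ v ∈ O2 H, ∀ u ∈ D.P₁.V ⊓ D.P₂.V, v * u * v⁻¹ = u := by
    intro v hv u hu
    by_cases hV : v ∈ normalizer (D.P₁.V : Set G)
    · exact D.inf_central (hR0 v hv hV) hu
    · obtain ⟨a, rfl⟩ := D.mem_inf.1 hu
      have hq : r⁻¹ * v ∈ D.J := hR0 _ ((O2 H).mul_mem ((O2 H).inv_mem hr) hv)
        (D.inv_mul_straight (hRN hr) (hRN hv) hrV hV)
      have h1 := hz a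
      rw [hbc, one_mul] at h1
      conv_rhs => rw [← h1, ← D.inf_central hq hu]
      group
  by_cases hab : ∀ u ∈ O2 H ⊓ D.J, ∀ v ∈ O2 H ⊓ D.J, u * v = v * u
  · -- `O₂(H) ∩ J` is homocyclic
    have hmemA : ∀ k s, D.jel k s (b * s) ∈ O2 H ⊓ D.J := by
      intro k s
      refine ⟨?_, D.jel_mem _ _ _⟩
      obtain ⟨k', hk'⟩ := hj 0 s 0
      rw [mul_zero] at hk'
      have h1 : D.jel 0 s 0 * r * (D.jel 0 s 0)⁻¹ * r⁻¹ = D.jel k' s (b * s) := by
        have hi : (D.jel 0 s 0)⁻¹ = D.jel 0 s 0 := by rw [D.jel_inv]; simp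
        calc D.jel 0 s 0 * r * (D.jel 0 s 0)⁻¹ * r⁻¹
            = D.jel 0 s 0 * (r * D.jel 0 s 0 * r⁻¹) := by rw [hi]; group
          _ = _ := by rw [hk', D.jel_mul]; simp
      have h2 : D.jel k' s (b * s) ∈ O2 H := h1 ▸ (O2 H).mul_mem
        (conj_mem_O2 (hJH (D.jel_mem _ _ _)) hr) ((O2 H).inv_mem hr)
      have := (O2 H).mul_mem (hZR (D.mem_inf.2 ⟨k + k', rfl⟩)) h2
      rwa [D.z_eq, D.jel_mul, zero_mul, add_zero, add_assoc, CharTwo.add_self_eq_zero, add_zero,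
        zero_add, zero_add] at this
    have hline : ∀ a s t, D.jel a s t ∈ O2 H ⊓ D.J → t = b * s := by
      intro a s t hu
      obtain ⟨k, hk⟩ := hj a s t
      have hu' : D.jel k (c * t) (b * s) ∈ O2 H ⊓ D.J :=
        ⟨hk ▸ conj_mem_O2 (O2_le H hr) hu.1, D.jel_mem _ _ _⟩
      have h1 := D.commute_jel_iff.1 (hab _ hu _ hu')
      refine CharTwo.add_eq_zero.1 (pow_eq_zero_iff two_ne_zero |>.1 ?_)
      linear_combination (norm := ring_nf) b * h1 - t ^ 2 * hbc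
      simp [CharTwo.two_eq_zero]
    set A := O2 H ⊓ D.J with hA
    have hcardA : Nat.card A = Fintype.card F ^ 2 := by
      rw [← Nat.card_congr (Equiv.ofBijective (fun p : F × F =>
        (⟨D.jel p.1 p.2 (b * p.2), hmemA _ _⟩ : A)) ⟨fun p p' hp => ?_, fun v => ?_⟩),
        Nat.card_prod, Nat.card_eq_fintype_card, sq]
      · obtain ⟨e1, e2, -⟩ := D.jel_inj (congrArg (fun y : A => (y : G)) hp)
        exact Prod.ext e1 e2
      · obtain ⟨a, s, t, e⟩ := D.mem_J.1 (show (v : G) ∈ D.J from v.2.2)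
        have := hline a s t (e ▸ v.2)
        exact ⟨(a, s), Subtype.ext (by rw [← e, this])⟩
    obtain ⟨a₀, s₀, t₀, hr2⟩ := D.mem_J.1 hrr
    have hCA : ∀ a s, r * D.jel a s (b * s) * r⁻¹ = D.jel a s (b * s) → s = 0 ∨ s = t₀ / b := by
      intro a s hfix
      obtain ⟨k, hk⟩ := hj 0 s 0
      rw [mul_zero] at hk
      obtain ⟨k₂, hk₂⟩ := hj k 0 (b * s)
      rw [mul_zero] at hk₂
      have e1 : D.jel k₂ (c * (b * s)) 0 = D.jel (0 + (t₀ * s + 0 * s₀)) s 0 := by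
        rw [← hk₂, ← hk, ← D.conj_jel a₀ s₀ t₀ 0 s 0, hr2]; group
      obtain ⟨e2, -, -⟩ := D.jel_inj e1
      have e3 : D.jel a s (b * s) = D.z (a + k) * (D.jel 0 s 0 * D.jel k 0 (b * s)) := by
        rw [D.z_eq, D.jel_mul, D.jel_mul]
        congr 1
        · linear_combination (norm := ring_nf) -(CharTwo.two_eq_zero (R := F)) * k
        all_goals simp
      have h1 : r * D.z (a + k) * r⁻¹ = D.z (a + k) :=
        hfixZ r hr _ (D.mem_inf.2 ⟨_, rfl⟩)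
      rw [e3, ← conj_mul, ← conj_mul, h1, hk, hk₂, ← e3, D.z_eq, D.jel_mul, D.jel_mul] at hfix
      have e4 := (D.jel_inj hfix).1
      rw [e2] at e4
      by_cases hs : s = 0
      · exact Or.inl hs
      · refine Or.inr ?_
        rw [eq_div_iff hb]
        have : b * s * s + t₀ * s = 0 := by
          have hcbs : c * (b * s) = s := by linear_combination s * hbc
          simp only [mul_zero, zero_mul, add_zero, zero_add] at e4
          rw [hcbs] at e4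
          linear_combination (norm := ring_nf) e4 - (CharTwo.two_eq_zero (R := F)) * k
        refine mul_right_cancel₀ hs ?_
        linear_combination (norm := ring_nf) this - (CharTwo.two_eq_zero (R := F)) * t₀ * s
    have hAn : H ≤ normalizer (A : Set G) := invariant_of fun g hg v hv => by
      set W := A.map (MulAut.conj g).toMonoidHom with hW
      have hWR : W ≤ O2 H := by rintro _ ⟨u, hu, rfl⟩; exact conj_mem_O2 hg hu.1
      have hWc : ∀ u ∈ W, ∀ v ∈ W, u * v = v * u := by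
        rintro _ ⟨u, hu, rfl⟩ _ ⟨v, hv, rfl⟩; rw [← map_mul, ← map_mul, hab u hu v hv]
      suffices hWJ : W ≤ D.J by exact ⟨conj_mem_O2 hg hv.1, hWJ ⟨v, hv, rfl⟩⟩
      by_contra hn
      obtain ⟨x, hx, hxJ⟩ := SetLike.not_le_iff_exists.1 hn
      have hsw : ∀ y ∈ W, y ∉ W ⊓ A → y ∉ normalizer (D.P₁.V : Set G) := fun y hy hy' hV =>
        hy' ⟨hy, hWR hy, hR0 y (hWR hy) hV⟩
      have hxV : x ∉ normalizer (D.P₁.V : Set G) := hsw x hx fun h' => hxJ h'.2.2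
      have hxr : x * r⁻¹ ∈ A := ⟨(O2 H).mul_mem (hWR hx) ((O2 H).inv_mem hr),
        hR0 _ ((O2 H).mul_mem (hWR hx) ((O2 H).inv_mem hr)) (by
          simpa using D.inv_mul_straight (inv_mem (hRN (hWR hx))) (inv_mem (hRN hr))
            (fun h' => hxV (by simpa using inv_mem h')) (fun h' => hrV (by simpa using inv_mem h')))⟩
      have e1 : Nat.card W ≤ 2 * Nat.card ↥(W ⊓ A) :=
        card_le_two_mul fun u hu v hv hu' hv' => by
          have hm := (O2 H).mul_mem ((O2 H).inv_mem (hWR hu)) (hWR hv)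
          exact ⟨W.mul_mem (W.inv_mem hu) hv, hm, hR0 _ hm
            (D.inv_mul_straight (hRN (hWR hu)) (hRN (hWR hv)) (hsw u hu hu') (hsw v hv hv'))⟩
      have e2 : Nat.card ↥(W ⊓ A) ≤ 2 * Fintype.card F := by
        choose a s t e using fun v : ↥(W ⊓ A) => D.mem_J.1 (show (v : G) ∈ D.J from v.2.2.2)
        have ht : ∀ v, t v = b * s v := fun v => hline _ _ _ ((e v).symm ▸ v.2.2)
        have hs : ∀ v, s v = 0 ∨ s v = t₀ / b := fun v => by
          refine hCA (a v) (s v) ?_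
          rw [← ht, e]
          calc r * (v : G) * r⁻¹ = (x * r⁻¹)⁻¹ * (x * v * x⁻¹) * (x * r⁻¹) := by group
            _ = (x * r⁻¹)⁻¹ * (v * (x * r⁻¹)) := by
              rw [hWc x hx v v.2.1, mul_inv_cancel_right, mul_assoc]
            _ = v := by rw [hab _ v.2.2 _ hxr, inv_mul_cancel_left]
        classical
        rw [← Fintype.card_bool, ← Nat.card_eq_fintype_card, ← Nat.card_eq_fintype_card,
          ← Nat.card_prod]
        refine Nat.card_le_card_of_injective (fun v => (decide (s v = 0), a v)) fun v w hvw => ?_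
        obtain ⟨h1, h2⟩ := Prod.ext_iff.1 hvw
        simp only [decide_eq_decide] at h1
        have hsv : s v = s w := by
          rcases hs v with h' | h' <;> rcases hs w with h'' | h''
          · rw [h', h'']
          · rw [h', h1.1 h']
          · rw [h1.2 h'', h'']
          · rw [h', h'']
        exact Subtype.ext (by rw [← e v, ← e w, ht, ht, hsv, show a v = a w from h2])
      have e3 : Nat.card W = Fintype.card F ^ 2 := by
        rw [← hcardA]; exact Subgroup.card_map_of_injective (MulAut.conj g).injective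
      nlinarith
    have hZn : H ≤ normalizer ((D.P₁.V ⊓ D.P₂.V : Subgroup G) : Set G) :=
      invariant_of fun g hg v hv => by
        have h1 : g * v * g⁻¹ ∈ A := conj_mem_of (hAn hg)
          ⟨hZR hv, mem_sup_left hv.1⟩
        have h2 : g * v * g⁻¹ * (g * v * g⁻¹) = 1 := by rw [conj_mul, D.P₁.sqV hv.1]; simp
        obtain ⟨a, s, t, e⟩ := D.mem_J.1 h1.2
        rw [← e] at h1 h2 ⊢
        have hst := hline _ _ _ h1
        subst hst
        rw [D.jel_sq, ← D.z_zero] at h2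
        rw [D.jel_mem_inf]
        have : s = 0 := by simpa [hb] using D.z_inj h2
        exact ⟨this, by rw [this, mul_zero]⟩
    exact h.J_le_of_chain hJH hH (le_inf hZR (inf_le_left.trans le_sup_left)) le_rfl inf_le_left
      inf_le_right hZn hAn hAn (fun j hj u hu => h.comm_mem hJH hj hu.1)
      (fun j hj u hu => h.comm_mem hJH hj hu)
  · push Not at hab
    obtain ⟨u, hu, v, hv, huv⟩ := hab
    obtain ⟨a₁, s₁, t₁, rfl⟩ := D.mem_J.1 hu.2
    obtain ⟨a₂, s₂, t₂, rfl⟩ := D.mem_J.1 hv.2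
    replace huv : t₁ * s₂ ≠ t₂ * s₁ := fun e => huv (D.commute_jel_iff.2 e)
    have hnf : ∀ x ∈ O2 H, (∀ w ∈ O2 H, x * w * x⁻¹ * w⁻¹ ∈ D.P₁.V ⊓ D.P₂.V) → x ∈ D.J := by
      intro x hx hxc
      refine hR0 x hx (by_contra fun hxV => ?_)
      have key : ∀ a s t, D.jel a s t ∈ O2 H → t = b * s := fun a s t hw => by
        obtain ⟨k, hk⟩ := hact x hx hxV a s t
        have := hxc _ hw
        rw [hk, D.jel_inv, D.jel_mul, D.jel_mem_inf] at this
        exact (CharTwo.add_eq_zero.1 this.2).symm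
      exact huv (by rw [key _ _ _ hu.1, key _ _ _ hv.1]; ring)
    have hZn : H ≤ normalizer ((D.P₁.V ⊓ D.P₂.V : Subgroup G) : Set G) :=
      invariant_of fun g hg x hx => by
        have hc' : ∀ w ∈ O2 H, (g * x * g⁻¹) * w = w * (g * x * g⁻¹) := fun w hw => by
          have hw' : g⁻¹ * w * g ∈ O2 H := by simpa using conj_mem_O2 (H.inv_mem hg) hw
          have := mul_inv_eq_iff_eq_mul.1 (hfixZ _ hw' _ hx)
          calc (g * x * g⁻¹) * w = g * (x * (g⁻¹ * w * g)) * g⁻¹ := by group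
            _ = g * (g⁻¹ * w * g * x) * g⁻¹ := by rw [this]
            _ = _ := by group
        have hR := conj_mem_O2 hg (hZR hx)
        have hJ' := hnf _ hR fun w hw => by
          rw [hc' w hw, mul_inv_cancel_right, mul_inv_cancel]; exact one_mem _
        obtain ⟨a, s, t, e⟩ := D.mem_J.1 hJ'
        rw [← e] at hc' ⊢
        have e1 := D.commute_jel_iff.1 (hc' _ hu.1)
        have e2 := D.commute_jel_iff.1 (hc' _ hv.1)
        have hd : t₁ * s₂ - t₂ * s₁ ≠ 0 := sub_ne_zero.2 huv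
        rw [D.jel_mem_inf]
        constructor
        · exact (mul_eq_zero.1 (show s * (t₁ * s₂ - t₂ * s₁) = 0 by
            linear_combination s₁ * e2 - s₂ * e1)).resolve_right hd
        · exact (mul_eq_zero.1 (show t * (t₁ * s₂ - t₂ * s₁) = 0 by
            linear_combination t₁ * e2 - t₂ * e1)).resolve_right hd
    set U := secondCentre (O2 H) (D.P₁.V ⊓ D.P₂.V) hfixZ with hU
    have hUJ : U ≤ D.J := fun x hx => hnf x hx.1 hx.2
    have hUn : H ≤ normalizer (U : Set G) := invariant_of fun g hg x hx => by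
      refine ⟨conj_mem_O2 hg hx.1, fun w hw => ?_⟩
      have hw' : g⁻¹ * w * g ∈ O2 H := by simpa using conj_mem_O2 (H.inv_mem hg) hw
      have := conj_mem_of (hZn hg) (hx.2 _ hw')
      convert this using 1
      group
    have hZU : D.P₁.V ⊓ D.P₂.V ≤ U := fun x hx => ⟨hZR hx, fun w hw => by
      have := mul_inv_eq_iff_eq_mul.1 (hfixZ w hw x hx)
      rw [← this, mul_inv_cancel_right, mul_inv_cancel]
      exact one_mem _⟩
    have hcomm : ∀ j ∈ D.J, ∀ u ∈ O2 H, u⁻¹ * (j * u * j⁻¹) ∈ U := by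
      intro j hj' u hu'
      have hw := h.comm_mem hJH hj' hu'
      by_cases huV : u ∈ normalizer (D.P₁.V : Set G)
      · exact hZU (D.comm_inf hj' (hR0 u hu' huV))
      obtain ⟨a, s, t, ej⟩ := D.mem_J.1 hj'
      obtain ⟨k, hk⟩ := hact u⁻¹ ((O2 H).inv_mem hu') (fun h' => huV (by simpa using inv_mem h'))
        a s t
      obtain ⟨k', ew⟩ : ∃ k', u⁻¹ * (j * u * j⁻¹) = D.jel k' (c * t + s) (b * s + t) := by
        refine ⟨k + (a + t * s) + b * s * s, ?_⟩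
        rw [show u⁻¹ * (j * u * j⁻¹) = (u⁻¹ * j * u⁻¹⁻¹) * j⁻¹ by group, ← ej, hk, D.jel_inv,
          D.jel_mul]
      refine ⟨hw.1, fun v hv' => ?_⟩
      by_cases hvV : v ∈ normalizer (D.P₁.V : Set G)
      · have hvJ := hR0 v hv' hvV
        obtain ⟨a', s', t', rfl⟩ := D.mem_J.1 hvJ
        rw [ew, D.comm_jel]
        exact D.mem_inf.2 ⟨_, rfl⟩
      · obtain ⟨k₁, hk₁⟩ := hact v hv' hvV (k' + (b * s + t) * (c * t + s)) (c * t + s) (b * s + t)
        rw [show u⁻¹ * (j * u * j⁻¹) * v * (u⁻¹ * (j * u * j⁻¹))⁻¹ * v⁻¹ =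
          u⁻¹ * (j * u * j⁻¹) * (v * (u⁻¹ * (j * u * j⁻¹))⁻¹ * v⁻¹) by group, ew, D.jel_inv, hk₁,
          D.jel_mul, D.jel_mem_inf]
        constructor
        · linear_combination (norm := ring_nf) s * hbc
          simp [CharTwo.two_eq_zero]
        · linear_combination (norm := ring_nf) t * hbc
          simp [CharTwo.two_eq_zero]
    exact h.J_le_of_chain hJH hH hZU le_rfl (fun x hx => hx.1) hUJ hZn hUn hUn
      (fun j hj' u hu' => hcomm j hj' u hu'.1) hcomm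

/-- `O₂(H)` contains `V₁` or `V₂`. -/
theorem exists_V_le_O2 (hq8 : 8 ≤ Fintype.card F) : D.P₁.V ≤ O2 H ∨ D.P₂.V ≤ O2 H := by
  have hRN := h.O2_le_normalizer_J hJH
  by_cases hf : ∃ r ∈ O2 H, r ∈ normalizer (D.P₁.V : Set G) ∧ r ∉ D.J
  · obtain ⟨r, hr, hrV, hrJ⟩ := hf
    rcases le_total (Nat.card ↥(O2 H ⊓ D.P₂.V)) (Nat.card ↥(O2 H ⊓ D.P₁.V)) with hle | hle
    · exact Or.inl (h.V₁_le_of_field hJH hH hq8 hr hrV hrJ hle)
    · exact Or.inr (h.swap.V₁_le_of_field (D.swap_J.le.trans hJH) hH hq8 hr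
        (D.normalizes_V₂ (hRN hr) hrV) (D.swap_J.symm ▸ hrJ) hle)
  push Not at hf
  by_cases hs : ∃ r ∈ O2 H, r ∉ normalizer (D.P₁.V : Set G)
  · obtain ⟨r, hr, hrV⟩ := hs
    by_cases hθ : D.fieldAut r = 1
    · exact Or.inl (le_sup_left.trans (h.J_le_of_swap_linear hJH hH hq8 hf hr hrV hθ))
    · exact Or.inl (le_sup_left.trans (h.J_le_of_swap_field hJH hH hq8 hf hr hrV hθ))
  push Not at hs
  exact h.V_le_of_O2_le_J hJH hH fun x hx => hf x hx (hs x hx)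

end Hyp

namespace Hyp

variable (h : Hyp D)
include h

omit h in
/-- An element of `N(V₁)` fixing a nontrivial element of `Z` normalises `J`. -/
theorem le_normalizer_J_of_fix {x : G} (hxL : x ∈ normalizer (D.P₁.L : Set G)) {a : F}
    (ha : a ≠ 0) (hx : x * D.z a * x⁻¹ = D.z a) : x ∈ normalizer (D.J : Set G) := by
  haveI : Fact (Nat.Prime 2) := ⟨Nat.prime_two⟩
  obtain ⟨P, hP⟩ := (D.isPGroup_J.comap_of_injective D.P₁.L.subtype
    D.P₁.L.subtype_injective).exists_le_sylow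
  have hPJ : (P : Subgroup D.P₁.L).map D.P₁.L.subtype = D.J :=
    D.eq_J_of_le_L₁ (P.isPGroup'.map _) (fun j hj => ⟨⟨j, D.J_le_L₁ hj⟩, hP hj, rfl⟩)
      (map_subtype_le _)
  set K := (D.J.map (MulAut.conj x).toMonoidHom).subgroupOf D.P₁.L with hK
  obtain ⟨Q, hQ⟩ := ((D.isPGroup_J.map (MulAut.conj x).toMonoidHom).comap_of_injective
    D.P₁.L.subtype D.P₁.L.subtype_injective).exists_le_sylow
  obtain ⟨l, hl⟩ := MulAction.exists_smul_eq (↥D.P₁.L) P Q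
  have hn : (l : G)⁻¹ * x ∈ normalizer (D.J : Set G) := by
    refine mem_normalizer_of fun j hj => ?_
    have hjL : x * j * x⁻¹ ∈ D.P₁.L := conj_mem_of hxL (D.J_le_L₁ hj)
    have hQ' : (⟨x * j * x⁻¹, hjL⟩ : D.P₁.L) ∈ (Q : Subgroup D.P₁.L) := hQ ⟨j, hj, rfl⟩
    rw [← hl, Sylow.coe_subgroup_smul, Subgroup.mem_pointwise_smul_iff_inv_smul_mem] at hQ'
    rw [← hPJ]
    exact ⟨_, hQ', by simp [MulAut.smul_def, MulAut.conj_apply]; group⟩
  obtain ⟨b, hb⟩ := D.conj_inf hn a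
  suffices hlN : (l : G) ∈ normalizer (D.J : Set G) by
    simpa using mul_mem hlN hn
  refine D.mem_normalizer_J_of_upper l.2 ?_
  have hb0 : b ≠ 0 := fun h0 => ha (by
    rw [h0, D.z_zero] at hb
    refine D.z_inj ?_
    rw [D.z_zero]
    exact mul_right_cancel (b := ((l : G)⁻¹ * x)⁻¹) (mul_left_cancel (a := (l : G)⁻¹ * x)
      (by rw [mul_assoc] at hb; simpa using hb.symm)))
  have e : (l : G) * D.P₁.el ![b, 0] * (l : G)⁻¹ = D.P₁.el ![a, 0] := by
    show (l : G) * D.z b * (l : G)⁻¹ = D.z a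
    rw [hb]
    conv_rhs => rw [← hx]
    group
  rw [D.P₁.act l] at e
  have := congrFun (D.P₁.el_inj e) 1
  simpa [Matrix.mulVec, dotProduct, Fin.sum_univ_two, hb0] using this

/-- `C(z) ≤ N(J)`. -/
theorem centralizer_z_le (hq8 : 8 ≤ Fintype.card F) {a : F} (ha : a ≠ 0) :
    centralizer ({D.z a} : Set G) ≤ normalizer (D.J : Set G) := by
  set H := centralizer ({D.z a} : Set G) with hHdef
  have hJH : D.J ≤ H := fun j hj =>
    mem_centralizer_singleton_iff.2 (mem_centralizer_iff.1 (D.z_mem_center a) j hj)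
  have hne : D.z a ≠ 1 := fun e => ha (D.z_inj (e.trans D.z_zero.symm))
  have hHeq : normalizer ((zpowers (D.z a) : Subgroup G) : Set G) = H := by
    have hmem : ∀ y, y ∈ zpowers (D.z a) → y = 1 ∨ y = D.z a := by
      rintro _ ⟨n, rfl⟩
      have h2 : (D.z a) ^ (2 : ℤ) = 1 := by
        rw [zpow_two]; exact D.P₁.sqV (D.P₁.el_mem _)
      rcases Int.even_or_odd n with ⟨m, rfl⟩ | ⟨m, rfl⟩
      · left; show D.z a ^ (m + m) = 1
        rw [← two_mul, _root_.zpow_mul, h2, _root_.one_zpow]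
      · right; show D.z a ^ (2 * m + 1) = D.z a
        rw [_root_.zpow_add, _root_.zpow_mul, h2, _root_.one_zpow, one_mul, zpow_one]
    refine le_antisymm (fun g hg => mem_centralizer_singleton_iff.2 ?_) fun g hg =>
      mem_normalizer_of fun y hy => ?_
    · rcases hmem _ (conj_mem_of hg (mem_zpowers _)) with e | e
      · exact absurd (conj_eq_one_iff.1 e) hne
      · exact mul_inv_eq_iff_eq_mul.1 e
    · rcases hmem y hy with rfl | rfl
      · simp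
      · rw [mem_centralizer_singleton_iff.1 hg, mul_inv_cancel_right]; exact mem_zpowers _
  have hH : Cfsg.IsOfCharacteristicTwo ↥H := hHeq ▸ h.char2.2 (zpowers (D.z a))
    (fun ⟨y, hy⟩ => ⟨1, Subtype.ext (by
      obtain ⟨n, rfl⟩ := hy
      show (D.z a ^ n) ^ 2 ^ 1 = 1
      rw [pow_one, sq, ← (Commute.refl (D.z a)).mul_zpow,
        show D.z a * D.z a = 1 from D.P₁.sqV (D.P₁.el_mem _), _root_.one_zpow])⟩)
    (by simpa using hne)
  have hRN := h.O2_le_normalizer_J hJH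
  intro g hg
  have hfix : g * D.z a * g⁻¹ = D.z a := by
    rw [mem_centralizer_singleton_iff.1 hg, mul_inv_cancel_right]
  have hconj : ∀ P : Par F G, P.V ≤ O2 H → ∀ g ∈ H,
      P.V.map (MulAut.conj g).toMonoidHom = D.P₁.V ∨
        P.V.map (MulAut.conj g).toMonoidHom = D.P₂.V := fun P hP g hg =>
    h.conj_V_eq fun v hv => hRN (conj_mem_O2 hg (hP hv))
  by_cases hboth : D.P₁.V ≤ O2 H ∧ D.P₂.V ≤ O2 H
  · refine mem_normalizer_of fun v hv => ?_
    have : D.J.map (MulAut.conj g).toMonoidHom ≤ D.J := by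
      rw [Data.J, Subgroup.map_sup]
      refine sup_le ?_ ?_
      · rcases hconj D.P₁ hboth.1 g hg with e | e <;> rw [e]
        · exact le_sup_left
        · exact le_sup_right
      · rcases hconj D.P₂ hboth.2 g hg with e | e <;> rw [e]
        · exact le_sup_left
        · exact le_sup_right
    exact this ⟨v, hv, rfl⟩
  rcases h.exists_V_le_O2 hJH hH hq8 with hV | hV
  · refine le_normalizer_J_of_fix (a := a) ?_ ha hfix
    rw [h.nor₁]
    refine mem_normalizer_of fun v hv => ?_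
    rcases hconj D.P₁ hV g hg with e | e
    · exact e.le ⟨v, hv, rfl⟩
    · exact absurd ⟨hV, e ▸ (by rintro _ ⟨u, hu, rfl⟩; exact conj_mem_O2 hg (hV hu))⟩ hboth
  · rw [← D.swap_J]
    refine le_normalizer_J_of_fix (D := D.swap) (a := a) ?_ ha (by rwa [D.swap_z])
    show g ∈ normalizer (D.P₂.L : Set G)
    rw [h.nor₂]
    refine mem_normalizer_of fun v hv => ?_
    rcases hconj D.P₂ hV g hg with e | e
    · exact absurd ⟨e ▸ (by rintro _ ⟨u, hu, rfl⟩; exact conj_mem_O2 hg (hV hu)), hV⟩ hboth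
    · exact e.le ⟨v, hv, rfl⟩

end Hyp

end Cfsg.Agent.TwoNatural
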