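import Cfsg.Agent.Lib.TwoNatural.NormJ
import Cfsg.Agent.Lib.FusionChain.Stabilizer

/-!
# Two natural parabolics: a chain criterion for membership in `O₂(H)` (S3091)

* `O2`: `O₂(H)` as a subgroup of `G`; `mem_O2_of_chain`
* `O2_le_normalizer_J`, `z_mem_O2`, `exists_notMem_inf`: first facts when `J ≤ H`
-/

set_option autoImplicit false
set_option linter.unusedSectionVars false

open Matrix Cfsg.Agent.SL2Module Subgroup

namespace Cfsg.Agent.TwoNatural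

variable {F : Type*} [Field F] [Fintype F] [CharP F 2] {G : Type*} [Group G] [Finite G]

/-- `O₂(H)` inside `G`. -/
def O2 (H : Subgroup G) : Subgroup G := (Cfsg.pCore 2 ↥H).map H.subtype

theorem O2_le (H : Subgroup G) : O2 H ≤ H := map_subtype_le _

theorem isPGroup_O2 (H : Subgroup G) : IsPGroup 2 (O2 H) := (Cores.isPGroup_pCore 2 ↥H).map _

theorem conj_mem_O2 {H : Subgroup G} {g v : G} (hg : g ∈ H) (hv : v ∈ O2 H) :
    g * v * g⁻¹ ∈ O2 H := by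
  obtain ⟨v', hv', rfl⟩ := hv
  exact ⟨⟨g, hg⟩ * v' * ⟨g, hg⟩⁻¹,
    (inferInstance : (Cfsg.pCore 2 ↥H).Normal).conj_mem _ hv' _, rfl⟩

theorem le_normalizer_O2 (H : Subgroup G) : H ≤ normalizer (O2 H : Set G) :=
  fun _ hg => mem_normalizer_of fun _ hv => conj_mem_O2 hg hv

theorem mem_O2_of_centralizes {H : Subgroup G} (hH : Cfsg.IsOfCharacteristicTwo ↥H) {x : G}
    (hx : x ∈ H) (hc : ∀ v ∈ O2 H, x * v * x⁻¹ = v) : x ∈ O2 H := by
  refine ⟨⟨x, hx⟩, hH (mem_centralizer_iff.2 fun y hy => Subtype.ext ?_), rfl⟩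
  exact (mul_inv_eq_iff_eq_mul.1 (hc y ⟨y, hy, rfl⟩)).symm

/-- An element centralising the factors of an invariant chain of `O₂(H)` lies in it. -/
theorem mem_O2_of_chain {H : Subgroup G} (hH : Cfsg.IsOfCharacteristicTwo ↥H)
    {U₁ U₂ U₃ : Subgroup G} (h12 : U₁ ≤ U₂) (h23 : U₂ ≤ U₃) (h3 : U₃ ≤ O2 H)
    (n₁ : H ≤ normalizer (U₁ : Set G)) (n₂ : H ≤ normalizer (U₂ : Set G))
    (n₃ : H ≤ normalizer (U₃ : Set G)) {x : G} (hx : x ∈ H)
    (s₁ : ∀ u ∈ U₁, x * u * x⁻¹ = u) (s₂ : ∀ u ∈ U₂, u⁻¹ * (x * u * x⁻¹) ∈ U₁)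
    (s₃ : ∀ u ∈ U₃, u⁻¹ * (x * u * x⁻¹) ∈ U₂) (s₄ : ∀ u ∈ O2 H, u⁻¹ * (x * u * x⁻¹) ∈ U₃) :
    x ∈ O2 H := by
  haveI : Fact (Nat.Prime 2) := ⟨Nat.prime_two⟩
  set φ := MulAut.conjNormal (H := Cfsg.pCore 2 ↥H) with hφ
  set ι : ↥(Cfsg.pCore 2 ↥H) →* G := H.subtype.comp (Cfsg.pCore 2 ↥H).subtype with hι
  have hιφ : ∀ (g : H) (r : ↥(Cfsg.pCore 2 ↥H)), ι (φ g r) = g * ι r * (g : G)⁻¹ := fun g r => by
    simp [hι, hφ, MulAut.conjNormal_apply]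
  let U : ℕ → Subgroup ↥(Cfsg.pCore 2 ↥H) := fun i => match i with
    | 0 => ⊥ | 1 => U₁.comap ι | 2 => U₂.comap ι | 3 => U₃.comap ι | _ => ⊤
  have hker : IsPGroup 2 φ.rangeRestrict.ker := by
    rw [MonoidHom.ker_rangeRestrict]
    refine (Cores.isPGroup_pCore 2 ↥H).to_le fun g hg => hH (mem_centralizer_iff.2 fun y hy => ?_)
    have := congrArg (fun e : MulAut _ => ((e ⟨y, hy⟩ : ↥(Cfsg.pCore 2 ↥H)) : ↥H))
      ((MonoidHom.mem_ker).1 hg)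
    simp only [hφ, MulAut.conjNormal_apply, MulAut.one_apply] at this
    exact (mul_inv_eq_iff_eq_mul.1 this).symm
  have hmem : φ.rangeRestrict ⟨x, hx⟩ ∈ Cfsg.pCore 2 φ.range := by
    refine FusionChain.mem_pCore_of_stabilizes_chain (Cores.isPGroup_pCore 2 ↥H) φ.range 4 U rfl
      rfl ?_ ?_ _ ?_
    · intro i hi
      match i with
      | 0 => exact bot_le
      | 1 => exact comap_mono h12
      | 2 => exact comap_mono h23
      | 3 => exact le_top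
    · rintro _ ⟨g, rfl⟩ i hi r hr
      match i with
      | 0 =>
        rw [show U 0 = ⊥ from rfl, mem_bot] at hr ⊢
        rw [hr, map_one]
      | 1 => exact mem_comap.2 (hιφ g r ▸ conj_mem_of (n₁ g.2) hr)
      | 2 => exact mem_comap.2 (hιφ g r ▸ conj_mem_of (n₂ g.2) hr)
      | 3 => exact mem_comap.2 (hιφ g r ▸ conj_mem_of (n₃ g.2) hr)
      | 4 => trivial
    · intro i hi r hr
      show r⁻¹ * φ ⟨x, hx⟩ r ∈ U i
      have e : ι (r⁻¹ * φ ⟨x, hx⟩ r) = (ι r)⁻¹ * (x * ι r * x⁻¹) := by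
        rw [map_mul, map_inv, hιφ]
      match i with
      | 0 =>
        refine mem_bot.2 (Subtype.ext (Subtype.ext ?_))
        show ι (r⁻¹ * φ ⟨x, hx⟩ r) = 1
        rw [e, s₁ _ hr, inv_mul_cancel]
      | 1 => exact mem_comap.2 (e ▸ s₂ _ hr)
      | 2 => exact mem_comap.2 (e ▸ s₃ _ hr)
      | 3 => exact mem_comap.2 (e ▸ s₄ _ ⟨r.1, r.2, rfl⟩)
  exact ⟨⟨x, hx⟩, Cores.comap_pCore_le φ.rangeRestrict hker hmem, rfl⟩

namespace Hyp

variable {D : Data F G} (h : Hyp D) {H : Subgroup G} (hJH : D.J ≤ H)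
include h hJH

theorem O2_le_normalizer_J : O2 H ≤ normalizer (D.J : Set G) :=
  le_sup_left.trans (h.le_normalizer_J ((isPGroup_O2 H).to_sup_of_normal_left'
    D.isPGroup_J (hJH.trans (le_normalizer_O2 H))) le_sup_right)

theorem comm_mem {j r : G} (hj : j ∈ D.J) (hr : r ∈ O2 H) :
    r⁻¹ * (j * r * j⁻¹) ∈ O2 H ⊓ D.J := by
  refine ⟨(O2 H).mul_mem ((O2 H).inv_mem hr) (conj_mem_O2 (hJH hj) hr), ?_⟩
  have := conj_mem_inv (h.O2_le_normalizer_J hJH hr) hj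
  rw [show r⁻¹ * (j * r * j⁻¹) = r⁻¹ * j * r * j⁻¹ by group]
  exact D.J.mul_mem this (D.J.inv_mem hj)

omit h in
/-- `Z` is inside `O₂(H)` once `O₂(H)` contains an element of `J` outside it. -/
theorem inf_le_O2_of {a₀ s t : F} (hw : D.jel a₀ s t ∈ O2 H) (hne : s ≠ 0 ∨ t ≠ 0) :
    D.P₁.V ⊓ D.P₂.V ≤ O2 H := by
  intro v hv
  obtain ⟨a, rfl⟩ := D.mem_inf.1 hv
  have key : ∀ j ∈ D.J, j * D.jel a₀ s t * j⁻¹ * (D.jel a₀ s t)⁻¹ ∈ O2 H := fun j hj =>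
    (O2 H).mul_mem (conj_mem_O2 (hJH hj) hw) ((O2 H).inv_mem hw)
  rcases hne with hs | ht
  · have := key _ (D.jel_mem 0 0 (a / s))
    rwa [D.comm_jel, mul_zero, add_zero, div_mul_cancel₀ a hs] at this
  · have := key _ (D.jel_mem 0 (a / t) 0)
    rwa [D.comm_jel, zero_mul, zero_add, mul_div_cancel₀ a ht] at this

/-- Otherwise `O₂(H) ≤ J`. -/
theorem O2_le_J_of (hA : O2 H ⊓ D.J ≤ D.P₁.V ⊓ D.P₂.V) : O2 H ≤ D.J := by
  intro r hr
  have hrJ := h.O2_le_normalizer_J hJH hr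
  have key : ∀ j ∈ D.J, ∃ a, r⁻¹ * j * r = D.z a * j := fun j hj => by
    obtain ⟨a, ha⟩ := D.mem_inf.1 (hA (h.comm_mem hJH hj hr))
    exact ⟨a, by rw [ha]; group⟩
  have key' : ∀ j ∈ D.J, ∃ a, r * j * r⁻¹ = D.z a * j := fun j hj => by
    obtain ⟨a, ha⟩ := key _ (conj_mem_of hrJ hj)
    refine ⟨a, ?_⟩
    rw [show r⁻¹ * (r * j * r⁻¹) * r = j by group] at ha
    conv_rhs => rw [ha, ← mul_assoc, D.z_add, CharTwo.add_self_eq_zero, D.z_zero, one_mul]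
  have hV : r ∈ normalizer (D.P₁.V : Set G) := mem_normalizer_of fun v hv => by
    obtain ⟨a, ha⟩ := key' v (mem_sup_left hv)
    rw [ha]; exact D.P₁.V.mul_mem (D.P₁.el_mem _) hv
  obtain ⟨σ, b, c, hb, hc, hz, hj⟩ := D.exists_straight_maps hrJ hV
  have hst : ∀ s t, b * σ s = s ∧ c * σ t = t := fun s t => by
    obtain ⟨k, hk⟩ := hj 0 s t
    obtain ⟨a, ha⟩ := key' _ (D.jel_mem 0 s t)
    rw [ha, D.z_eq, D.jel_mul] at hk
    obtain ⟨-, e1, e2⟩ := D.jel_inj hk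
    simp at e1 e2
    exact ⟨e1.symm, e2.symm⟩
  have hb1 : b = 1 := by simpa using (hst 1 1).1
  have hc1 : c = 1 := by simpa using (hst 1 1).2
  refine h.mem_J_of_trivial hV (fun a => ?_) fun s => ?_
  · have := (hst a a).1
    rw [hb1, one_mul] at this
    rw [hz, hb1, hc1, one_mul, one_mul, this]
  · exact key' _ (D.y₁_eq s ▸ D.jel_mem _ _ _)

variable (hH : Cfsg.IsOfCharacteristicTwo ↥H)
include hH

theorem exists_notMem_inf : ¬O2 H ⊓ D.J ≤ D.P₁.V ⊓ D.P₂.V := by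
  intro hA
  have hle := h.O2_le_J_of hJH hA
  have h1 : D.jel 0 1 0 ∈ O2 H := mem_O2_of_centralizes hH (hJH (D.jel_mem _ _ _)) fun v hv => by
    obtain ⟨a, rfl⟩ := D.mem_inf.1 (hA ⟨hv, hle hv⟩)
    rw [mem_centralizer_iff.1 (D.z_mem_center a) _ (D.jel_mem 0 1 0), mul_inv_cancel_right]
  obtain ⟨a, ha⟩ := D.mem_inf.1 (hA ⟨h1, D.jel_mem _ _ _⟩)
  rw [D.z_eq] at ha
  exact one_ne_zero (D.jel_inj ha).2.1.symm

theorem inf_le_O2 : D.P₁.V ⊓ D.P₂.V ≤ O2 H := by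
  obtain ⟨w, hw, hwn⟩ := SetLike.not_le_iff_exists.1 (h.exists_notMem_inf hJH hH)
  obtain ⟨a, s, t, rfl⟩ := D.mem_J.1 hw.2
  refine inf_le_O2_of hJH hw.1 ?_
  by_contra hc
  push Not at hc
  exact hwn (D.mem_inf.2 ⟨a, by rw [hc.1, hc.2, D.z_eq]⟩)

end Hyp

end Cfsg.Agent.TwoNatural
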