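import Cfsg.Agent.Lib.TwoNatural.Centralizer

/-!
# Two natural parabolics: elements diagonal on `J` (S3091)

* `Diag`: exact diagonal action; `exists_diag`: any straight element without field part is one up to `J`
* `Tor`: two commuting diagonal elements `la`, `lb`; `Tor.InT`, `exists_tor`
-/

set_option autoImplicit false
set_option linter.unusedSectionVars false

open Matrix Cfsg.Agent.SL2Module Subgroup

namespace Cfsg.Agent.TwoNatural

variable {F : Type*} [Field F] [Fintype F] [CharP F 2] {G : Type*} [Group G] [Finite G]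

/-- A cube not fixed by any field automorphism. -/
theorem exists_cube_gen (hq8 : 8 ≤ Fintype.card F) :
    ∃ w : Fˣ, ((w : F) ^ 3 ≠ 1) ∧ ∀ σ : F ≃+* F, σ ((w : F) ^ 3) = (w : F) ^ 3 → σ = 1 := by
  classical
  obtain ⟨g, hg⟩ := IsCyclic.exists_generator (α := Fˣ)
  have hord : orderOf g = Fintype.card F - 1 := by
    rw [orderOf_eq_card_of_forall_mem_zpowers hg, Nat.card_units, Nat.card_eq_fintype_card]
  refine ⟨g, fun h => ?_, fun σ hσ => by_contra fun hne => ?_⟩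
  · have h' : g ^ 3 = 1 := Units.ext (by simpa using h)
    have := Nat.le_of_dvd (by norm_num) (orderOf_dvd_of_pow_eq_one h')
    omega
  · set n := orderOf (g ^ 3)
    have hn : Fintype.card F - 1 ≤ 3 * n := by
      rw [← hord]
      refine Nat.le_of_dvd (Nat.mul_pos (by norm_num) (orderOf_pos _)) (orderOf_dvd_of_pow_eq_one ?_)
      rw [pow_mul, pow_orderOf_eq_one]
    have hfix : ∀ i : ℕ, σ ((((g ^ 3) ^ i : Fˣ)) : F) = (((g ^ 3) ^ i : Fˣ) : F) := fun i => by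
      rw [Units.val_pow_eq_pow_val, map_pow, Units.val_pow_eq_pow_val, hσ]
    have hle : n + 1 ≤ Nat.card {x : F // σ x = x} := by
      have e : Nat.card (Option (Fin n)) = n + 1 := by simp
      rw [← e]
      refine Nat.card_le_card_of_injective (fun o => match o with
        | none => ⟨0, map_zero σ⟩
        | some i => ⟨_, hfix i⟩) ?_
      rintro (_ | i) (_ | j) hij
      · rfl
      · have e' : (0 : F) = (((g ^ 3) ^ (j : ℕ) : Fˣ) : F) :=
          congrArg (fun y : {x : F // σ x = x} => y.1) hij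
        exact absurd e'.symm (Units.ne_zero _)
      · have e' : (((g ^ 3) ^ (i : ℕ) : Fˣ) : F) = 0 :=
          congrArg (fun y : {x : F // σ x = x} => y.1) hij
        exact absurd e' (Units.ne_zero _)
      · have h' : (g ^ 3) ^ (i : ℕ) = (g ^ 3) ^ (j : ℕ) :=
          Units.ext (congrArg (fun y : {x : F // σ x = x} => y.1) hij)
        exact congrArg some (Fin.ext (pow_injOn_Iio_orderOf i.2 j.2 h'))
    have h2 := card_fixed_sq_le hne
    rw [Nat.card_eq_fintype_card (α := F)] at h2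
    have h3 : (n + 1) * (n + 1) ≤ Fintype.card F := by
      refine le_trans ?_ h2
      rw [sq]; exact Nat.mul_le_mul hle hle
    have h4 : Fintype.card F ≤ 3 * n + 1 := by omega
    nlinarith

namespace Data

variable (D : Data F G)

/-- Exact diagonal action on `J`. -/
def Diag (x : G) (b c : F) : Prop :=
  b ≠ 0 ∧ c ≠ 0 ∧ ∀ a s t, x * D.jel a s t * x⁻¹ = D.jel (b * c * a) (b * s) (c * t)

variable {D}

theorem Diag.one : D.Diag 1 1 1 := ⟨one_ne_zero, one_ne_zero, fun a s t => by simp⟩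

theorem Diag.mul {x y : G} {b c b' c' : F} (hx : D.Diag x b c) (hy : D.Diag y b' c') :
    D.Diag (x * y) (b * b') (c * c') := by
  refine ⟨mul_ne_zero hx.1 hy.1, mul_ne_zero hx.2.1 hy.2.1, fun a s t => ?_⟩
  rw [show x * y * D.jel a s t * (x * y)⁻¹ = x * (y * D.jel a s t * y⁻¹) * x⁻¹ by group, hy.2.2,
    hx.2.2]
  congr 1 <;> ring

theorem Diag.inv {x : G} {b c : F} (hx : D.Diag x b c) : D.Diag x⁻¹ b⁻¹ c⁻¹ := by
  obtain ⟨hb, hc, h⟩ := hx
  refine ⟨inv_ne_zero hb, inv_ne_zero hc, fun a s t => ?_⟩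
  have e := h (b⁻¹ * c⁻¹ * a) (b⁻¹ * s) (c⁻¹ * t)
  rw [show b * c * (b⁻¹ * c⁻¹ * a) = a by field_simp, show b * (b⁻¹ * s) = s by field_simp,
    show c * (c⁻¹ * t) = t by field_simp] at e
  rw [← e]; group

theorem Diag.z {x : G} {b c : F} (hx : D.Diag x b c) (a : F) :
    x * D.z a * x⁻¹ = D.z (b * c * a) := by
  rw [D.z_eq, hx.2.2, D.z_eq]; simp

theorem Diag.y₁ {x : G} {b c : F} (hx : D.Diag x b c) (s : F) :
    x * D.y₁ s * x⁻¹ = D.y₁ (b * s) := by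
  rw [D.y₁_eq, hx.2.2, D.y₁_eq]; simp

theorem Diag.y₂ {x : G} {b c : F} (hx : D.Diag x b c) (t : F) :
    x * D.y₂ t * x⁻¹ = D.y₂ (c * t) := by
  rw [D.y₂_eq, hx.2.2, D.y₂_eq]; simp

theorem Diag.mem_normalizer {x : G} {b c : F} (hx : D.Diag x b c) :
    x ∈ normalizer (D.J : Set G) ∧ x ∈ normalizer (D.P₁.V : Set G) := by
  refine ⟨mem_normalizer_of fun v hv => ?_, mem_normalizer_of fun v hv => ?_⟩
  · obtain ⟨a, s, t, rfl⟩ := D.mem_J.1 hv
    rw [hx.2.2]; exact D.jel_mem _ _ _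
  · obtain ⟨a, s, t, rfl⟩ := D.mem_J.1 (mem_sup_left hv : v ∈ D.J)
    rw [hx.2.2, D.jel_mem_V₁, D.jel_mem_V₁.1 hv, mul_zero]

theorem Diag.unique {x : G} {b c b' c' : F} (hx : D.Diag x b c) (hx' : D.Diag x b' c') :
    b = b' ∧ c = c' := by
  have h1 := (hx.2.2 0 1 1).symm.trans (hx'.2.2 0 1 1)
  obtain ⟨-, e1, e2⟩ := D.jel_inj h1
  exact ⟨by simpa using e1, by simpa using e2⟩

theorem jel_swap (D : Data F G) (a s t : F) : D.swap.jel a s t = D.jel (a + s * t) t s := by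
  have e : D.swap.jel a s t = D.P₂.el ![a, s] * D.y₁ t := rfl
  rw [e, D.el₂_eq, D.z_eq, D.y₁_eq, D.y₂_eq, D.jel_mul, D.jel_mul]
  simp

theorem Diag.swap {x : G} {b c : F} (hx : D.Diag x b c) : D.swap.Diag x c b := by
  refine ⟨hx.2.1, hx.1, fun a s t => ?_⟩
  rw [D.jel_swap, D.jel_swap, hx.2.2]
  congr 1
  ring

/-- The shear part of an element normalising `L₁` is linear. -/
theorem exists_linear {x : G} (hxL : x ∈ normalizer (D.P₁.L : Set G)) {k b : F}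
    (hk : k ≠ 0) (hz : ∀ a, x * D.z a * x⁻¹ = D.z (k * a))
    (hy : ∀ s, ∃ e, x * D.y₁ s * x⁻¹ = D.z e * D.y₁ (b * s)) :
    ∃ f, ∀ s, x * D.y₁ s * x⁻¹ = D.z (f * s) * D.y₁ (b * s) := by
  choose f hf using hy
  obtain ⟨⟨l, hl⟩, el⟩ := D.P₁.surj (lo 1)
  obtain ⟨N, hN⟩ : ∃ N, D.P₁.π ⟨x * l * x⁻¹, conj_mem_of hxL hl⟩ = N := ⟨_, rfl⟩
  have key : ∀ a, k * a + f a = N.1 0 0 * (k * a) := by
    intro a
    have h1 : x * (l * D.z a * l⁻¹) * x⁻¹ = D.P₁.el ![k * a + f a, b * a] := by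
      have e : l * D.z a * l⁻¹ = D.z a * D.y₁ a := by
        rw [← D.el₁_eq, z, D.P₁.act ⟨l, hl⟩, el, lo_mulVec]; simp
      rw [e, ← conj_mul, hz, hf, ← mul_assoc, D.z_add, ← D.el₁_eq]
    have h2 : x * (l * D.z a * l⁻¹) * x⁻¹ = D.P₁.el (N.1 *ᵥ ![k * a, 0]) := by
      rw [← hN, ← D.P₁.act ⟨_, conj_mem_of hxL hl⟩]
      show _ = x * l * x⁻¹ * D.z (k * a) * (x * l * x⁻¹)⁻¹
      rw [← hz]; group
    have := congrFun (D.P₁.el_inj (h1.symm.trans h2)) 0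
    simpa [Matrix.mulVec, dotProduct, Fin.sum_univ_two] using this
  refine ⟨(N.1 0 0 + 1) * k, fun s => ?_⟩
  rw [hf, show f s = (N.1 0 0 + 1) * k * s by
    linear_combination (norm := ring_nf) key s - (CharTwo.two_eq_zero (R := F)) * (k * s)]

end Data

namespace Hyp

variable {D : Data F G} (h : Hyp D)
include h

theorem diag_one {x : G} (hx : D.Diag x 1 1) : ∃ a, D.z a = x := by
  have hJ : x ∈ D.J := h.mem_J_of_trivial hx.mem_normalizer.2
    (fun a => by rw [hx.z, one_mul, one_mul])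
    fun s => ⟨0, by rw [hx.y₁, one_mul, D.z_zero, one_mul]⟩
  obtain ⟨a, s, t, rfl⟩ := D.mem_J.1 hJ
  have e1 := (D.jel_inj ((D.conj_jel a s t 0 1 0).symm.trans (hx.2.2 0 1 0))).1
  have e2 := (D.jel_inj ((D.conj_jel a s t 0 0 1).symm.trans (hx.2.2 0 0 1))).1
  simp at e1 e2
  exact ⟨a, by rw [D.z_eq, e1, e2]⟩

/-- A straight element without field part is diagonal up to `J`. -/
theorem exists_diag {x : G} (hx : x ∈ normalizer (D.J : Set G))
    (hV : x ∈ normalizer (D.P₁.V : Set G)) (hθ : D.fieldAut x = 1) :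
    ∃ j ∈ D.J, ∃ b c, D.Diag (j * x) b c ∧ ∀ a, x * D.z a * x⁻¹ = D.z (b * c * a) ∧
      ∀ s, ∃ k, x * D.y₁ s * x⁻¹ = D.z k * D.y₁ (b * s) := by
  obtain ⟨σ, b, c, hb, hc, hz, hj⟩ := D.exists_straight_maps hx hV
  have hσ : σ = 1 := by
    rw [← hθ]; exact (D.fieldAut_eq (mul_ne_zero hb hc) fun a => D.zmap_eq (hz a)).symm
  subst hσ
  simp only [RingAut.one_apply] at hz hj
  have hy1 : ∀ s, ∃ e, x * D.y₁ s * x⁻¹ = D.z e * D.y₁ (b * s) := fun s => by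
    obtain ⟨k, hk⟩ := hj 0 s 0
    exact ⟨k, by rw [D.y₁_eq, hk, D.y₁_eq, D.z_eq, D.jel_mul]; simp⟩
  have hy2 : ∀ t, ∃ e, x * D.swap.y₁ t * x⁻¹ = D.swap.z e * D.swap.y₁ (c * t) := fun t => by
    obtain ⟨k, hk⟩ := hj 0 0 t
    refine ⟨k, ?_⟩
    rw [D.swap_z]
    show x * D.y₂ t * x⁻¹ = D.z k * D.y₂ (c * t)
    rw [D.y₂_eq, hk, D.y₂_eq, D.z_eq, D.jel_mul]; simp
  have hL : x ∈ normalizer (D.P₁.L : Set G) := h.nor₁ ▸ hV
  have hbc := mul_ne_zero hb hc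
  obtain ⟨f, hf⟩ := Data.exists_linear hL hbc hz hy1
  obtain ⟨g, hg⟩ := Data.exists_linear (D := D.swap) (h.normalizes_L₂ hx hL) hbc
    (fun a => by rw [D.swap_z, D.swap_z]; exact hz a) hy2
  refine ⟨D.jel 0 (g / c) (f / b), D.jel_mem _ _ _, b, c, ⟨hb, hc, fun a s t => ?_⟩,
    fun a => ⟨hz a, hy1⟩⟩
  have hg' : x * D.y₂ t * x⁻¹ = D.z (g * t) * D.y₂ (c * t) := by
    have := hg t
    rwa [D.swap_z] at this
  have e : x * D.jel a s t * x⁻¹ = D.jel (b * c * a + f * s + g * t) (b * s) (c * t) := by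
    rw [D.jel_split a s t, ← conj_mul, ← conj_mul, hz, hf, hg', D.z_eq, D.z_eq, D.z_eq, D.y₁_eq,
      D.y₂_eq]
    simp [D.jel_mul]
  rw [show D.jel 0 (g / c) (f / b) * x * D.jel a s t * (D.jel 0 (g / c) (f / b) * x)⁻¹ =
    D.jel 0 (g / c) (f / b) * (x * D.jel a s t * x⁻¹) * (D.jel 0 (g / c) (f / b))⁻¹ by group, e,
    D.conj_jel]
  congr 1
  rw [← mul_assoc (f / b), div_mul_cancel₀ f hb, mul_comm (c * t), ← mul_assoc (g / c),
    div_mul_cancel₀ g hc]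
  linear_combination (norm := ring_nf) (CharTwo.two_eq_zero (R := F)) * (f * s + g * t)

/-- An element of `L₁` with diagonal image, made diagonal. -/
theorem exists_diag_L₁ (a : Fˣ) :
    ∃ x, D.Diag x ((a : F)⁻¹) ((a : F) * a) := by
  obtain ⟨l, hl, el⟩ := D.exists_torus a
  have hV : l ∈ normalizer (D.P₁.V : Set G) := D.P₁.le_normalizer hl
  have hz : ∀ k, D.zmap l k = (a : F) * k := fun k => D.zmap_eq (D.conj_z hl el k)
  have hθ : D.fieldAut l = 1 := D.fieldAut_eq a.ne_zero hz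
  obtain ⟨j, hj, b, c, hd, hzy⟩ := h.exists_diag (D.torus_normalizes el) hV hθ
  have hbc : b * c = (a : F) := by
    have := D.z_inj ((hzy 1).1.symm.trans (D.conj_z hl el 1))
    simpa using this
  have hb : b = (a : F)⁻¹ := by
    obtain ⟨k, hk⟩ := (hzy 1).2 1
    rw [show l * D.y₁ 1 * l⁻¹ = D.P₁.el ![0, (a : F)⁻¹] by
      rw [Data.y₁, D.P₁.act ⟨l, hl⟩, el, dg_mulVec]; simp] at hk
    rw [← D.el₁_eq] at hk
    simpa using (congrFun (D.P₁.el_inj hk) 1).symm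
  refine ⟨j * l, ?_⟩
  rwa [← hb, show (a : F) * a = c from ?_]
  rw [hb] at hbc
  have ha := a.ne_zero
  field_simp at hbc
  linear_combination -hbc

end Hyp

/-- Two commuting diagonal elements with the characters `(ρ,1)` and `(1,ρ)`. -/
structure Tor (D : Data F G) where
  ρ : F
  ne : ρ ≠ 1
  gen : ∀ σ : F ≃+* F, σ ρ = ρ → σ = 1
  la : G
  lb : G
  da : D.Diag la ρ 1
  db : D.Diag lb 1 ρ
  comm : la * lb = lb * la

namespace Tor

variable {D : Data F G} (τ : Tor D)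

/-- Exchanging the parabolics. -/
def swap : Tor D.swap := ⟨τ.ρ, τ.ne, τ.gen, τ.lb, τ.la, τ.db.swap, τ.da.swap, τ.comm.symm⟩

theorem ρ_ne_zero : τ.ρ ≠ 0 := τ.da.1

theorem one_add_ne : (1 : F) + τ.ρ ≠ 0 := fun e => τ.ne (CharTwo.add_eq_zero.1 e).symm

theorem eq_one_of_diag_one (h : Hyp D) {x : G} (hx : D.Diag x 1 1)
    (hc : x * τ.la = τ.la * x ∨ x * τ.lb = τ.lb * x) : x = 1 := by
  obtain ⟨a, rfl⟩ := h.diag_one hx
  suffices ha : τ.ρ * a = a by
    have : (1 + τ.ρ) * a = 0 := by rw [add_mul, one_mul, ha, CharTwo.add_self_eq_zero]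
    rw [(mul_eq_zero.1 this).resolve_left τ.one_add_ne, D.z_zero]
  rcases hc with e | e
  · have := τ.da.z a
    rw [← e, mul_inv_cancel_right, mul_one] at this
    exact (D.z_inj this).symm
  · have := τ.db.z a
    rw [← e, mul_inv_cancel_right, one_mul] at this
    exact (D.z_inj this).symm

/-- The torus. -/
def InT (x : G) : Prop :=
  (∃ b c, D.Diag x b c) ∧ x * τ.la = τ.la * x ∧ x * τ.lb = τ.lb * x

theorem inT_la : τ.InT τ.la := ⟨⟨_, _, τ.da⟩, rfl, τ.comm⟩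

theorem inT_lb : τ.InT τ.lb := ⟨⟨_, _, τ.db⟩, τ.comm.symm, rfl⟩

theorem inT_swap {x : G} (hx : τ.InT x) : τ.swap.InT x := by
  obtain ⟨⟨b, c, hd⟩, h1, h2⟩ := hx
  exact ⟨⟨c, b, hd.swap⟩, h2, h1⟩

theorem inT_mul {x y : G} (hx : τ.InT x) (hy : τ.InT y) : τ.InT (x * y) := by
  obtain ⟨⟨b, c, hd⟩, h1, h2⟩ := hx
  obtain ⟨⟨b', c', hd'⟩, h1', h2'⟩ := hy
  refine ⟨⟨_, _, hd.mul hd'⟩, ?_, ?_⟩
  · rw [mul_assoc, h1', ← mul_assoc, h1, mul_assoc]
  · rw [mul_assoc, h2', ← mul_assoc, h2, mul_assoc]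

theorem inT_inv {x : G} (hx : τ.InT x) : τ.InT x⁻¹ := by
  obtain ⟨⟨b, c, hd⟩, h1, h2⟩ := hx
  exact ⟨⟨_, _, hd.inv⟩, (Commute.inv_left h1).eq, (Commute.inv_left h2).eq⟩

theorem eq_of_diag (h : Hyp D) {x y : G} {b c : F} (hx : τ.InT x) (hy : τ.InT y)
    (dx : D.Diag x b c) (dy : D.Diag y b c) : x = y := by
  have hxy := τ.inT_mul (τ.inT_inv hx) hy
  have hd := dx.inv.mul dy
  rw [inv_mul_cancel₀ dx.1, inv_mul_cancel₀ dx.2.1] at hd
  exact inv_mul_eq_one.1 (τ.eq_one_of_diag_one h hd (Or.inl hxy.2.1))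

/-- Commuting with either of the two elements suffices. -/
theorem inT_of (h : Hyp D) {x : G} {b c : F} (hd : D.Diag x b c)
    (hc : x * τ.la = τ.la * x ∨ x * τ.lb = τ.lb * x) : τ.InT x := by
  have key : ∀ l bl cl, D.Diag l bl cl → D.Diag (x * l * x⁻¹ * l⁻¹) 1 1 := fun l bl cl hl => by
    have := ((hd.mul hl).mul hd.inv).mul hl.inv
    have e1 : b * bl * b⁻¹ * bl⁻¹ = 1 := by
      have h1 := hd.1
      have h2 := hl.1
      field_simp
    have e2 : c * cl * c⁻¹ * cl⁻¹ = 1 := by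
      have h1 := hd.2.1
      have h2 := hl.2.1
      field_simp
    rwa [e1, e2] at this
  have fin : ∀ l, x * l * x⁻¹ * l⁻¹ = 1 → x * l = l * x := fun l e =>
    mul_inv_eq_iff_eq_mul.1 (mul_inv_eq_one.1 e)
  have hab := τ.comm
  rcases hc with e | e
  · refine ⟨⟨b, c, hd⟩, e, fin _ (τ.eq_one_of_diag_one h (key _ _ _ τ.db) (Or.inl ?_))⟩
    have c1 : Commute τ.la x := e.symm
    have c2 : Commute τ.la τ.lb := hab
    exact (((c1.mul_right c2).mul_right c1.inv_right).mul_right c2.inv_right).symm.eq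
  · refine ⟨⟨b, c, hd⟩, fin _ (τ.eq_one_of_diag_one h (key _ _ _ τ.da) (Or.inr ?_)), e⟩
    have c1 : Commute τ.lb x := e.symm
    have c2 : Commute τ.lb τ.la := hab.symm
    exact (((c1.mul_right c2).mul_right c1.inv_right).mul_right c2.inv_right).symm.eq

/-- A diagonal element lies in the torus up to `Z`. -/
theorem exists_inT (h : Hyp D) {x : G} {b c : F} (hd : D.Diag x b c) :
    ∃ d, τ.InT (D.z d * x) ∧ D.Diag (D.z d * x) b c := by
  have hz : ∀ d, D.Diag (D.z d * x) b c := fun d => by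
    refine ⟨hd.1, hd.2.1, fun a s t => ?_⟩
    rw [show D.z d * x * D.jel a s t * (D.z d * x)⁻¹ = D.z d * (x * D.jel a s t * x⁻¹) * (D.z d)⁻¹
      by group, hd.2.2, D.z_eq, D.conj_jel]
    simp
  have h1 : D.Diag (τ.lb * x * τ.lb⁻¹ * x⁻¹) 1 1 := by
    have := ((τ.db.mul hd).mul τ.db.inv).mul hd.inv
    have e1 : (1 : F) * b * 1⁻¹ * b⁻¹ = 1 := by have := hd.1; field_simp
    have e2 : τ.ρ * c * τ.ρ⁻¹ * c⁻¹ = 1 := by
      have := hd.2.1; have := τ.ρ_ne_zero; field_simp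
    rwa [e1, e2] at this
  obtain ⟨e, he⟩ := h.diag_one h1
  have he' : τ.lb * x * τ.lb⁻¹ = D.z e * x := by rw [he]; group
  refine ⟨e / (1 + τ.ρ), τ.inT_of h (hz _) (Or.inr ?_), hz _⟩
  refine (mul_inv_eq_iff_eq_mul.1 ?_).symm
  rw [← conj_mul, τ.db.z, he', one_mul, ← mul_assoc, D.z_add]
  congr 2
  have := τ.one_add_ne
  field_simp
  linear_combination (norm := ring_nf) (CharTwo.two_eq_zero (R := F)) * e * τ.ρ * 0
  simp [CharTwo.two_eq_zero]

end Tor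

namespace Hyp

variable {D : Data F G} (h : Hyp D)
include h

theorem exists_tor (hq8 : 8 ≤ Fintype.card F) : Nonempty (Tor D) := by
  obtain ⟨w, hw, hgen⟩ := exists_cube_gen (F := F) hq8
  have key : ∀ D' : Data F G, Hyp D' →
      ∃ x, D'.Diag x ((w : F) ^ 3) 1 := by
    intro D' h'
    obtain ⟨x, hx⟩ := h'.exists_diag_L₁ w
    obtain ⟨y, hy⟩ := h'.swap.exists_diag_L₁ (w * w)
    have hy' : D'.Diag y (((w * w : Fˣ) : F) * ((w * w : Fˣ) : F)) (((w * w : Fˣ) : F)⁻¹) := hy.swap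
    have := hx.mul hy'
    refine ⟨x * y, ?_⟩
    convert this using 1 <;>
    · have := w.ne_zero
      simp only [Units.val_mul]
      field_simp
  obtain ⟨x₀, hx₀⟩ := key D h
  obtain ⟨y₀, hy₀⟩ := key D.swap h.swap
  have hb : D.Diag y₀ 1 ((w : F) ^ 3) := hy₀.swap
  have hne : (1 : F) + (w : F) ^ 3 ≠ 0 := fun e => hw (CharTwo.add_eq_zero.1 e).symm
  have h1 : D.Diag (y₀ * x₀ * y₀⁻¹ * x₀⁻¹) 1 1 := by
    have := ((hb.mul hx₀).mul hb.inv).mul hx₀.inv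
    have := w.ne_zero
    have e1 : (1 : F) * (w : F) ^ 3 * 1⁻¹ * ((w : F) ^ 3)⁻¹ = 1 := by field_simp
    have e2 : (w : F) ^ 3 * 1 * ((w : F) ^ 3)⁻¹ * 1⁻¹ = 1 := by field_simp
    simp_all
  obtain ⟨e, he⟩ := h.diag_one h1
  have he' : y₀ * x₀ * y₀⁻¹ = D.z e * x₀ := by rw [he]; group
  set d := e / (1 + (w : F) ^ 3)
  refine ⟨⟨(w : F) ^ 3, hw, hgen, D.z d * x₀, y₀, ?_, hb, ?_⟩⟩
  · refine ⟨hx₀.1, hx₀.2.1, fun a s t => ?_⟩
    rw [show D.z d * x₀ * D.jel a s t * (D.z d * x₀)⁻¹ =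
      D.z d * (x₀ * D.jel a s t * x₀⁻¹) * (D.z d)⁻¹ by group, hx₀.2.2, D.z_eq, D.conj_jel]
    simp
  · refine (mul_inv_eq_iff_eq_mul.1 ?_).symm
    rw [← conj_mul, hb.z, he', one_mul, ← mul_assoc, D.z_add]
    congr 2
    simp only [d]
    field_simp
    linear_combination (norm := ring_nf) (CharTwo.two_eq_zero (R := F)) * e * 0
    simp [CharTwo.two_eq_zero]

end Hyp

end Cfsg.Agent.TwoNatural
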