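import Cfsg.Agent.Lib.TwoNatural.Centralizer
import Cfsg.Agent.Lib.AutPSL.Count

/-!
# Two natural parabolics: involutions of `N(J)` outside `J` are not conjugate into `Z` (S3091)

* `exists_conj_z`: `L₁` is transitive on `V₁ ∖ 1`
* `card_centralizer_J_ge`: an involution of `N(J) ∖ J` centralises at least `q` elements of `J`
* `not_conj_z`
-/

set_option autoImplicit false
set_option linter.unusedSectionVars false

open Matrix Cfsg.Agent.SL2Module Subgroup

namespace Cfsg.Agent.TwoNatural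

variable {F : Type*} [Field F] [Fintype F] [CharP F 2] {G : Type*} [Group G] [Finite G]

theorem finite_ringAut : Finite (F ≃+* F) :=
  Finite.of_injective (fun e => (e : F → F)) DFunLike.coe_injective

theorem two_mul_card_ringAut_lt (hq8 : 8 ≤ Fintype.card F) :
    2 * Nat.card (F ≃+* F) < Fintype.card F := by
  obtain ⟨n, hp, hn⟩ := FiniteField.card F 2
  haveI := Fact.mk hp
  rw [(AutPSL.fieldAut_facts (F := F) 2 n n.2 hn).2, hn]
  have h3 : 3 ≤ (n : ℕ) := by
    by_contra h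
    have := Nat.pow_le_pow_right (show 0 < 2 by norm_num) (show (n : ℕ) ≤ 2 by omega)
    omega
  generalize (n : ℕ) = m at h3 ⊢
  induction m, h3 using Nat.le_induction with
  | base => norm_num
  | succ m hm ih => rw [pow_succ]; omega

namespace Data

variable (D : Data F G)

/-- `L₁` is transitive on `V₁ ∖ 1`. -/
theorem exists_conj_z {w : G} (hw : w ∈ D.P₁.V) (hw1 : w ≠ 1) :
    ∃ l ∈ D.P₁.L, ∃ a, a ≠ 0 ∧ l * w * l⁻¹ = D.z a := by
  obtain ⟨v, rfl⟩ := D.P₁.el_surj w hw
  by_cases h1 : v 1 = 0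
  · refine ⟨1, D.P₁.L.one_mem, v 0, fun h0 => hw1 ?_, ?_⟩
    · rw [vec2_eta v, h0, h1, D.P₁.el_eq_one]; ext i; fin_cases i <;> rfl
    · rw [one_mul, inv_one, mul_one, z, vec2_eta v, h1]; rfl
  · obtain ⟨⟨l, hl⟩, e⟩ := D.P₁.surj (wm * up (v 0 / v 1))
    refine ⟨l, hl, v 1, h1, ?_⟩
    rw [D.P₁.act ⟨l, hl⟩, e, z, Matrix.SpecialLinearGroup.coe_mul, ← Matrix.mulVec_mulVec,
      up_mulVec, wm_mulVec]
    simp [div_mul_cancel₀ _ h1, CharTwo.add_self_eq_zero]

end Data

variable {D : Data F G}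

namespace Hyp

variable (h : Hyp D)
include h

/-- An involution of `N(J)` outside `J` centralises at least `q` elements of `J`. -/
theorem card_centralizer_J_ge {x : G} (hx : x ∈ normalizer (D.J : Set G)) (hx2 : x * x = 1)
    (hxJ : x ∉ D.J) :
    Fintype.card F ≤ Nat.card ↥(D.J ⊓ centralizer ({x} : Set G)) := by
  have hxi : x⁻¹ = x := inv_eq_of_mul_eq_one_right hx2
  have hmem : ∀ j ∈ D.J, x * j * x⁻¹ = j → j ∈ D.J ⊓ centralizer ({x} : Set G) := fun j hj e =>
    ⟨hj, mem_centralizer_singleton_iff.2 (mul_inv_eq_iff_eq_mul.1 e).symm⟩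
  by_cases hV : x ∈ normalizer (D.P₁.V : Set G)
  · obtain ⟨σ, b, c, hb, hc, hz, hj⟩ := D.exists_straight_maps hx hV
    choose f hf using fun w : Fin 2 → F => D.P₁.el_surj _ (conj_mem_of hV (D.P₁.el_mem w))
    let ε : (Fin 2 → F) →+ (Fin 2 → F) := AddMonoidHom.mk' f fun u v => D.P₁.el_inj (by
      rw [D.P₁.el_add, hf, hf, hf, D.P₁.el_add, conj_mul])
    have h1 := card_le_sq_of_invol (fun a => funext fun i => CharTwo.add_self_eq_zero (a i)) ε
      fun a => D.P₁.el_inj (by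
        show D.P₁.el (f (f a)) = _
        rw [hf, hf, show x * (x * D.P₁.el a * x⁻¹) * x⁻¹ = x * x * D.P₁.el a * (x * x)⁻¹ by group,
          hx2, one_mul, inv_one, mul_one])
    rw [Nat.card_fun, Nat.card_eq_fintype_card (α := F), Nat.card_eq_fintype_card (α := Fin 2),
      Fintype.card_fin] at h1
    have h2 : Fintype.card F ≤ Nat.card {a // ε a = a} :=
      le_of_pow_le_pow_left₀ two_ne_zero (Nat.zero_le _) h1
    refine le_trans h2 (Nat.card_le_card_of_injective (fun a => (⟨D.P₁.el a.1,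
      hmem _ (mem_sup_left (D.P₁.el_mem _)) (by
        rw [← hf]; exact congrArg D.P₁.el a.2)⟩ : ↥(D.J ⊓ centralizer ({x} : Set G))))
      fun a a' e => Subtype.ext (D.P₁.el_inj (congrArg
        (fun y : ↥(D.J ⊓ centralizer ({x} : Set G)) => (y : G)) e)))
  · obtain ⟨σ, b, c, hb, hc, hz, hj⟩ := D.exists_swap_maps hx hV
    have hinv : ∀ y, x * (x * y * x⁻¹) * x⁻¹ = y := fun y => by
      rw [show x * (x * y * x⁻¹) * x⁻¹ = x * x * y * (x * x)⁻¹ by group, hx2, one_mul, inv_one,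
        mul_one]
    have hcb : ∀ s, c * σ (b * σ s) = s := by
      intro s
      obtain ⟨k, hk⟩ := hj 0 s 0
      obtain ⟨k', hk'⟩ := hj k (c * σ 0) (b * σ s)
      rw [← hk, hinv] at hk'
      exact (D.jel_inj hk').2.1.symm
    by_cases hσ : σ = 1
    · subst hσ
      simp only [RingAut.one_apply] at hz hcb
      have hbc : b * c = 1 := by linear_combination hcb 1
      rw [← Nat.card_eq_fintype_card]
      refine Nat.card_le_card_of_injective (fun a => (⟨D.z a, hmem _ (D.z_mem_J a) (by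
        rw [hz, hbc, one_mul])⟩ : ↥(D.J ⊓ centralizer ({x} : Set G)))) fun a a' e => D.z_inj
          (congrArg (fun y : ↥(D.J ⊓ centralizer ({x} : Set G)) => (y : G)) e)
    · let f : F →+ F := AddMonoidHom.mk' (fun a => b * c * σ a + a) fun u v => by
        rw [map_add]; ring
      have hrk : f.range ≤ f.ker := by
        rintro _ ⟨a, rfl⟩
        rw [AddMonoidHom.mem_ker]
        show b * c * σ (b * c * σ a + a) + (b * c * σ a + a) = 0
        have h1 : b * c * σ (b * c * σ a) = a := D.z_inj (by rw [← hz, ← hz, hinv])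
        rw [map_add, mul_add, h1]
        linear_combination (norm := ring_nf) (CharTwo.two_eq_zero (R := F)) * (a + b * c * σ a)
      have hker : Nat.card f.ker ^ 2 ≤ Fintype.card F := by
        rw [← Nat.card_eq_fintype_card]
        refine le_trans (Nat.pow_le_pow_left (Nat.card_le_card_of_injective (fun s : f.ker =>
          (⟨s.1, CharTwo.add_eq_zero.1 (AddMonoidHom.mem_ker.1 s.2)⟩ :
            {a : F // b * c * σ a = a})) fun s t hst => ?_) 2) (card_semifix_sq_le hσ _)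
        exact Subtype.ext (congrArg (fun y : {a : F // b * c * σ a = a} => y.1) hst)
      have hmul : Nat.card f.ker * Nat.card f.range = Fintype.card F := by
        rw [← AddSubgroup.index_ker, AddSubgroup.card_mul_index, Nat.card_eq_fintype_card]
      have hpos : 0 < Nat.card f.ker := Nat.card_pos
      have heq : f.range = f.ker := AddSubgroup.eq_of_le_of_card_ge hrk (by nlinarith)
      have hfix : ∀ s, b * σ s * s ∈ f.ker := fun s => by
        rw [AddMonoidHom.mem_ker]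
        show b * c * σ (b * σ s * s) + b * σ s * s = 0
        rw [map_mul σ (b * σ s) s]
        linear_combination (norm := ring_nf) b * σ s * hcb s +
          (CharTwo.two_eq_zero (R := F)) * (b * σ s * s)
      rw [← Nat.card_eq_fintype_card]
      have hex : ∀ s, ∃ k, D.jel k s (b * σ s) ∈ D.J ⊓ centralizer ({x} : Set G) := by
        intro s
        obtain ⟨m, hm⟩ := (heq.symm ▸ hfix s : b * σ s * s ∈ f.range)
        change b * c * σ m + m = b * σ s * s at hm
        obtain ⟨k, hk⟩ := hj 0 s 0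
        rw [map_zero, mul_zero] at hk
        refine ⟨m + k, hmem _ (D.jel_mem _ _ _) ?_⟩
        have e : D.jel (m + k) s (b * σ s) = D.z m * (D.jel 0 s 0 * D.jel k 0 (b * σ s)) := by
          rw [D.z_eq, D.jel_mul, D.jel_mul]; simp
        rw [e, ← conj_mul, ← conj_mul, hz, hk, show x * D.jel k 0 (b * σ s) * x⁻¹ = D.jel 0 s 0 by
          rw [← hk, hinv], D.z_eq, D.z_eq, D.jel_mul, D.jel_mul, D.jel_mul, D.jel_mul]
        congr 1
        · linear_combination (norm := ring_nf) hm +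
            (CharTwo.two_eq_zero (R := F)) * (b * σ s * s) - (CharTwo.two_eq_zero (R := F)) * m
        all_goals ring
      choose k hk using hex
      refine Nat.card_le_card_of_injective (fun s => (⟨_, hk s⟩ :
        ↥(D.J ⊓ centralizer ({x} : Set G)))) fun s s' e => ?_
      exact (D.jel_inj (congrArg (fun y : ↥(D.J ⊓ centralizer ({x} : Set G)) => (y : G)) e)).2.1

/-- A `2`-subgroup of `N(J)` of order at least `q` meets `J`. -/
theorem exists_mem_J_of_card (hq8 : 8 ≤ Fintype.card F) {P : Subgroup G} (hP : IsPGroup 2 P)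
    (hPN : P ≤ normalizer (D.J : Set G)) (hc : Fintype.card F ≤ Nat.card P) :
    ∃ u ∈ P, u ∈ D.J ∧ u ≠ 1 := by
  by_contra hcon
  push Not at hcon
  haveI := finite_ringAut (F := F)
  have h1 := card_all_le (D := D) hPN
  have h2 : Nat.card ↥(P ⊓ normalizer (D.P₁.V : Set G)) ≤ Nat.card (F ≃+* F) := by
    refine Nat.card_le_card_of_injective (fun u => D.fieldAut (u : G)) fun u v e => Subtype.ext ?_
    have hJ := h.inv_mul_mem_J hP hPN u.2.1 v.2.1 u.2.2 v.2.2 e
    exact inv_mul_eq_one.1 (hcon _ (P.mul_mem (P.inv_mem u.2.1) v.2.1) hJ)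
  have := two_mul_card_ringAut_lt (F := F) hq8
  omega

/-- An involution of `N(J)` outside `J` is not conjugate into `Z`. -/
theorem not_conj_z (hq8 : 8 ≤ Fintype.card F) {g : G} {a : F} (ha : a ≠ 0)
    (hx : g * D.z a * g⁻¹ ∈ normalizer (D.J : Set G)) : g * D.z a * g⁻¹ ∈ D.J := by
  by_contra hxJ
  set x := g * D.z a * g⁻¹ with hxdef
  have hx2 : x * x = 1 := by
    rw [hxdef, conj_mul, D.P₁.sqV (show D.z a ∈ D.P₁.V from D.P₁.el_mem _)]; simp
  set P := (D.J ⊓ centralizer ({x} : Set G)).map (MulAut.conj g⁻¹).toMonoidHom with hPdef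
  have hPN : P ≤ normalizer (D.J : Set G) := by
    rintro _ ⟨v, hv, rfl⟩
    refine h.centralizer_z_le hq8 ha (mem_centralizer_singleton_iff.2 ?_)
    have hvx := mem_centralizer_singleton_iff.1 hv.2
    show g⁻¹ * v * g⁻¹⁻¹ * D.z a = D.z a * (g⁻¹ * v * g⁻¹⁻¹)
    rw [show D.z a = g⁻¹ * x * g by rw [hxdef]; group]
    calc g⁻¹ * v * g⁻¹⁻¹ * (g⁻¹ * x * g) = g⁻¹ * (v * x) * g := by group
      _ = g⁻¹ * (x * v) * g := by rw [hvx]
      _ = _ := by group
  have hP2 : IsPGroup 2 P := (D.isPGroup_J.to_le inf_le_left).map _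
  have hPc : Fintype.card F ≤ Nat.card P := by
    rw [hPdef, Subgroup.card_map_of_injective (MulAut.conj g⁻¹).injective]
    exact h.card_centralizer_J_ge hx hx2 hxJ
  obtain ⟨u, huP, huJ, hu1⟩ := h.exists_mem_J_of_card hq8 hP2 hPN hPc
  obtain ⟨u, huP, huJ, hu1, hu2⟩ : ∃ u, u ∈ P ∧ u ∈ D.J ∧ u ≠ 1 ∧ u * u = 1 := by
    by_cases h2 : u * u = 1
    · exact ⟨u, huP, huJ, hu1, h2⟩
    · refine ⟨u * u, P.mul_mem huP huP, D.J.mul_mem huJ huJ, h2, ?_⟩
      obtain ⟨b, s, t, rfl⟩ := D.mem_J.1 huJ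
      rw [D.jel_sq]; exact D.P₁.sqV (D.P₁.el_mem _)
  obtain ⟨w, hw, hwu⟩ := huP
  change g⁻¹ * w * g⁻¹⁻¹ = u at hwu
  have hwg : w = g * u * g⁻¹ := by rw [← hwu]; group
  have hw1 : w ≠ 1 := fun e => hu1 (by rw [← hwu, e]; group)
  have hw2 : w * w = 1 := by rw [hwg, conj_mul, hu2]; simp
  -- an elementary group of order `q²` through `w` and `x`
  obtain ⟨P', huV, hzV⟩ : ∃ P' : Par F G, u ∈ P'.V ∧ D.z a ∈ P'.V := by
    rcases D.mem_V_or huJ hu2 with h' | h'
    · exact ⟨D.P₁, h', D.P₁.el_mem _⟩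
    · exact ⟨D.P₂, h', D.swap_z a ▸ D.P₂.el_mem _⟩
  have fin : ∀ D' : Data F G, Hyp D' → D'.J = D.J → w ∈ D'.P₁.V → False := by
    intro D' h' hJ hwV
    obtain ⟨l, hl, b, hb, hlw⟩ := D'.exists_conj_z hwV hw1
    have hsub : ∀ v ∈ P'.V, l * g * v * (l * g)⁻¹ ∈ normalizer (D'.J : Set G) := by
      intro v hv
      refine h'.centralizer_z_le hq8 hb (mem_centralizer_singleton_iff.2 ?_)
      rw [← hlw, hwg, show l * (g * u * g⁻¹) * l⁻¹ = l * g * u * (l * g)⁻¹ by group, conj_mul,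
        conj_mul, P'.commV hv huV]
    have hxl : l * x * l⁻¹ ∈ D'.J := by
      have e : l * x * l⁻¹ = l * g * D.z a * (l * g)⁻¹ := by rw [hxdef]; group
      rcases h'.conj_V_eq hsub with e' | e'
      · exact mem_sup_left (e'.le ⟨_, hzV, e.symm⟩)
      · exact mem_sup_right (e'.le ⟨_, hzV, e.symm⟩)
    have hxL : x ∈ D'.P₁.L := by
      have := D'.P₁.L.mul_mem (D'.P₁.L.mul_mem (D'.P₁.L.inv_mem hl) (D'.J_le_L₁ hxl)) hl
      convert this using 1
      group
    have hQ : IsPGroup 2 ↥(D'.J ⊔ zpowers x) :=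
      D'.isPGroup_J.to_sup_of_normal_left' (fun ⟨y, hy⟩ => ⟨1, Subtype.ext (by
        obtain ⟨n, rfl⟩ := hy
        show (x ^ n) ^ 2 ^ 1 = 1
        rw [pow_one, sq, ← (Commute.refl x).mul_zpow, hx2, _root_.one_zpow])⟩)
        (zpowers_le.2 (hJ.symm ▸ hx))
    exact hxJ (hJ ▸ (D'.eq_J_of_le_L₁ hQ le_sup_left (sup_le D'.J_le_L₁ (zpowers_le.2 hxL))).le
      (mem_sup_right (mem_zpowers x)))
  rcases D.mem_V_or hw.1 hw2 with hwV | hwV
  · exact fin D h rfl hwV
  · exact fin D.swap h.swap D.swap_J hwV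

end Hyp

end Cfsg.Agent.TwoNatural
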