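import Cfsg.Agent.Lib.TwoNatural.Torus
import Cfsg.Agent.Lib.TwoNatural.Outer
import Cfsg.Agent.Lib.PGroup.Basic
import Cfsg.Agent.S0111

/-!
# Two natural parabolics: a normal subgroup of `C(la)` with small centralisers of involutions (S3091)

* `St`; `st_or_swap`: centralisers in `C(la)` of root involutions
* `exists_M`
-/

set_option autoImplicit false
set_option linter.unusedSectionVars false

open Matrix Cfsg.Agent.SL2Module Subgroup

namespace Cfsg.Agent.TwoNatural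

variable {F : Type*} [Field F] [Fintype F] [CharP F 2] {G : Type*} [Group G] [Finite G]

local notation "SL2F" => Matrix.SpecialLinearGroup (Fin 2) F

/-- The trace of a nontrivial semilinear involution reaches every fixed element. -/
theorem exists_trace_eq {σ : F ≃+* F} (hσ : σ ≠ 1) {e : F}
    (h2 : ∀ a, e * σ (e * σ a) = a) {a : F} (ha : e * σ a = a) : ∃ v, e * σ v + v = a := by
  let f : F →+ F := AddMonoidHom.mk' (fun v => e * σ v + v) fun u v => by rw [map_add]; ring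
  have hrk : f.range ≤ f.ker := by
    rintro _ ⟨v, rfl⟩
    rw [AddMonoidHom.mem_ker]
    show e * σ (e * σ v + v) + (e * σ v + v) = 0
    rw [map_add, mul_add, h2]
    linear_combination (norm := ring_nf) (CharTwo.two_eq_zero (R := F)) * (v + e * σ v)
  have hker : Nat.card f.ker ^ 2 ≤ Fintype.card F := by
    rw [← Nat.card_eq_fintype_card]
    refine le_trans (Nat.pow_le_pow_left (Nat.card_le_card_of_injective (fun s : f.ker =>
      (⟨s.1, CharTwo.add_eq_zero.1 (AddMonoidHom.mem_ker.1 s.2)⟩ :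
        {a : F // e * σ a = a})) fun s t hst => ?_) 2) (card_semifix_sq_le hσ _)
    exact Subtype.ext (congrArg (fun y : {a : F // e * σ a = a} => y.1) hst)
  have hmul : Nat.card f.ker * Nat.card f.range = Fintype.card F := by
    rw [← AddSubgroup.index_ker, AddSubgroup.card_mul_index, Nat.card_eq_fintype_card]
  have hpos : 0 < Nat.card f.ker := Nat.card_pos
  have heq : f.range = f.ker := AddSubgroup.eq_of_le_of_card_ge hrk (by nlinarith)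
  obtain ⟨v, hv⟩ : a ∈ f.range := by
    rw [heq, AddMonoidHom.mem_ker]
    show e * σ a + a = 0
    rw [ha, CharTwo.add_self_eq_zero]
  exact ⟨v, hv⟩

/-- The field has a generating cube, so an odd-order element's square map is onto. -/
theorem exists_sq_eq (s : F) : ∃ a, a * a = s := by
  obtain ⟨a, ha⟩ := FiniteField.isSquare_of_char_two (ringChar.eq F 2) s
  exact ⟨a, ha.symm⟩

namespace Tor

variable {D : Data F G} (τ : Tor D) (h : Hyp D)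

/-- Elements `y₂(a) · x₀` with `x₀` in the torus. -/
def St (x : G) : Prop := ∃ a x₀, τ.InT x₀ ∧ x = D.y₂ a * x₀

theorem St.mem_normalizer {x : G} (hx : τ.St x) (h : Hyp D) :
    x ∈ normalizer (D.P₁.L : Set G) ∧ x * τ.la = τ.la * x := by
  obtain ⟨a, x₀, ⟨⟨b, c, hd⟩, h1, h2⟩, rfl⟩ := hx
  refine ⟨mul_mem (Subgroup.le_normalizer (D.y₂_mem_L a)) (h.nor₁ ▸ hd.mem_normalizer.2), ?_⟩
  have c1 : Commute τ.la (D.y₂ a) := τ.φ_up h a ▸ τ.φ_comm h (up a)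
  exact (c1.mul_right h1.symm).symm.eq

theorem inT_one : τ.InT 1 := ⟨⟨1, 1, Data.Diag.one⟩, by simp, by simp⟩

theorem inT_pow_eq_one {x : G} (hx : τ.InT x) (h : Hyp D) :
    x ^ (Fintype.card F - 1) = 1 := by
  obtain ⟨b, c, hd⟩ := hx.1
  have key : ∀ n : ℕ, τ.InT (x ^ n) ∧ D.Diag (x ^ n) (b ^ n) (c ^ n) := by
    intro n
    induction n with
    | zero => rw [pow_zero, pow_zero, pow_zero]; exact ⟨τ.inT_one, Data.Diag.one⟩
    | succ n ih =>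
      rw [pow_succ, pow_succ, pow_succ]
      exact ⟨τ.inT_mul ih.1 hx, ih.2.mul hd⟩
  obtain ⟨h1, h2⟩ := key (Fintype.card F - 1)
  rw [FiniteField.pow_card_sub_one_eq_one b hd.1, FiniteField.pow_card_sub_one_eq_one c hd.2.1] at h2
  exact τ.eq_one_of_diag_one h h2 (Or.inl h1.2.1)

theorem St.mem_of_two {x : G} (hx : τ.St x) (h : Hyp D) {n : ℕ} (hn : x ^ 2 ^ n = 1) :
    ∃ a, D.y₂ a = x := by
  obtain ⟨a, x₀, hx₀, rfl⟩ := hx
  obtain ⟨b, c, hd⟩ := hx₀.1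
  have key : ∀ m : ℕ, ∃ a', (D.y₂ a * x₀) ^ m = D.y₂ a' * x₀ ^ m := by
    intro m
    induction m with
    | zero => exact ⟨0, by simp [D.y₂_zero]⟩
    | succ m ih =>
      obtain ⟨a', ha'⟩ := ih
      refine ⟨a + c * a', ?_⟩
      rw [pow_succ', ha', pow_succ']
      calc D.y₂ a * x₀ * (D.y₂ a' * x₀ ^ m)
          = D.y₂ a * (x₀ * D.y₂ a' * x₀⁻¹) * (x₀ * x₀ ^ m) := by group
        _ = _ := by rw [Data.Diag.y₂ hd, D.y₂_add]
  obtain ⟨a', ha'⟩ := key (2 ^ n)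
  rw [hn] at ha'
  have hpow : τ.InT (x₀ ^ 2 ^ n) := by
    clear ha' hn
    generalize 2 ^ n = m
    induction m with
    | zero => rw [pow_zero]; exact τ.inT_one
    | succ m ih => rw [pow_succ]; exact τ.inT_mul ih hx₀
  have e : x₀ ^ 2 ^ n = (D.y₂ a')⁻¹ := eq_inv_of_mul_eq_one_right ha'.symm
  have ha0 : a' = 0 := by
    have := hpow.2.2
    rw [e, Data.y₂, D.P₂.el_inv] at this
    have h1 := τ.db.y₂ a'
    rw [show τ.lb * D.y₂ a' * τ.lb⁻¹ = D.y₂ a' by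
      rw [Data.y₂, ← this, mul_inv_cancel_right]] at h1
    have h2 : (1 + τ.ρ) * a' = 0 := by
      rw [D.y₂_eq, D.y₂_eq] at h1
      rw [add_mul, one_mul, ← (D.jel_inj h1).2.2, CharTwo.add_self_eq_zero]
    exact (mul_eq_zero.1 h2).resolve_left τ.one_add_ne
  rw [ha0, D.y₂_zero, inv_one] at e
  have h0 : x₀ = 1 := by
    have hcop : Nat.Coprime (2 ^ n) (Fintype.card F - 1) := by
      refine Nat.Coprime.pow_left _ ((Nat.prime_two.coprime_iff_not_dvd).2 ?_)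
      obtain ⟨m, hp, hm⟩ := FiniteField.card F 2
      rw [hm]
      have : 2 ∣ 2 ^ (m : ℕ) := dvd_pow_self 2 m.2.ne'
      have := Nat.one_le_two_pow (n := (m : ℕ))
      omega
    have := Nat.Coprime.gcd_eq_one hcop
    have h3 := pow_gcd_eq_one.2 ⟨e, τ.inT_pow_eq_one hx₀ h⟩
    rwa [this, pow_one] at h3
  exact ⟨a, by rw [h0, mul_one]⟩

include h

theorem n₂_mul (x y : G) :
    τ.n₂ h * x * τ.n₂ h * (τ.n₂ h * y * τ.n₂ h) = τ.n₂ h * (x * y) * τ.n₂ h := by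
  calc τ.n₂ h * x * τ.n₂ h * (τ.n₂ h * y * τ.n₂ h)
      = τ.n₂ h * x * (τ.n₂ h * τ.n₂ h) * y * τ.n₂ h := by group
    _ = _ := by rw [τ.n₂_sq]; group

theorem n₂_inv_conj (x : G) : (τ.n₂ h * x * τ.n₂ h)⁻¹ = τ.n₂ h * x⁻¹ * τ.n₂ h := by
  refine inv_eq_of_mul_eq_one_right ?_
  rw [τ.n₂_mul, mul_inv_cancel, mul_one, τ.n₂_sq]

/-- An element of `C(la)` centralising `y₂(t)`, moved to `C(z)`. -/
theorem conj_mem_normalizer (hq8 : 8 ≤ Fintype.card F) {x : G} {t : F} (ht : t ≠ 0)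
    (hu : x * D.y₂ t = D.y₂ t * x) : τ.n₂ h * x * τ.n₂ h ∈ normalizer (D.J : Set G) := by
  refine h.centralizer_z_le hq8 ht (mem_centralizer_singleton_iff.2 ?_)
  rw [← τ.conj_n₂_y₂ h t, τ.n₂_mul, τ.n₂_mul, hu]

/-- `n₂ la n₂`. -/
theorem nu_spec : τ.InT (τ.n₂ h * τ.la * τ.n₂ h) ∧ D.Diag (τ.n₂ h * τ.la * τ.n₂ h) τ.ρ⁻¹ τ.ρ := by
  obtain ⟨h1, h2⟩ := τ.inT_conj_n₂ h τ.inT_la τ.da
  rw [one_mul] at h2
  exact ⟨h1, h2⟩

theorem st_or_swap (hq8 : 8 ≤ Fintype.card F) {x : G} (hx : x * τ.la = τ.la * x) {t : F}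
    (ht : t ≠ 0) (hu : x * D.y₂ t = D.y₂ t * x) :
    τ.St x ∨ τ.n₂ h * x * τ.n₂ h ∉ normalizer (D.P₁.V : Set G) := by
  by_cases hV : τ.n₂ h * x * τ.n₂ h ∈ normalizer (D.P₁.V : Set G)
  swap
  · exact Or.inr hV
  refine Or.inl ?_
  set x' := τ.n₂ h * x * τ.n₂ h with hx'
  set ν := τ.n₂ h * τ.la * τ.n₂ h with hν
  have hxN : x' ∈ normalizer (D.J : Set G) := τ.conj_mem_normalizer h hq8 ht hu
  have hxν : x' * ν = ν * x' := by rw [hx', hν, τ.n₂_mul, τ.n₂_mul, hx]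
  obtain ⟨hνT, hνd⟩ := τ.nu_spec h
  obtain ⟨σ, b, c, hb, hc, hz, hj⟩ := D.exists_straight_maps hxN hV
  have hσ : σ = 1 := τ.gen σ (by
    obtain ⟨k, hk⟩ := hj 0 (τ.ρ⁻¹ * 1) 0
    obtain ⟨k', hk'⟩ := hj 0 1 0
    have e := hνd.2.2 0 1 0
    rw [mul_zero, mul_zero] at e
    have key : x' * (ν * D.jel 0 1 0 * ν⁻¹) * x'⁻¹ = ν * (x' * D.jel 0 1 0 * x'⁻¹) * ν⁻¹ := by
      calc x' * (ν * D.jel 0 1 0 * ν⁻¹) * x'⁻¹ = (x' * ν) * D.jel 0 1 0 * (x' * ν)⁻¹ := by group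
        _ = (ν * x') * D.jel 0 1 0 * (ν * x')⁻¹ := by rw [hxν]
        _ = _ := by group
    rw [e, hk', hνd.2.2, hk] at key
    have e1 := (D.jel_inj key).2.1
    rw [mul_one, map_one, mul_one, map_inv₀, mul_comm b] at e1
    exact inv_inj.1 (mul_right_cancel₀ hb e1))
  have hθ : D.fieldAut x' = 1 := by
    rw [← hσ]; exact D.fieldAut_eq (mul_ne_zero hb hc) fun a => D.zmap_eq (hz a)
  obtain ⟨j, hj', b', c', hd, -⟩ := h.exists_diag hxN hV hθ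
  obtain ⟨d, hT, -⟩ := τ.exists_inT h hd
  set j' := D.z d * j with hj'def
  have hj'J : j' ∈ D.J := D.J.mul_mem (D.z_mem_J d) hj'
  have hTj : τ.InT (j' * x') := by rwa [hj'def, mul_assoc]
  have hjν : j' * ν = ν * j' := by
    obtain ⟨⟨b₀, c₀, hd₀⟩, -, -⟩ := id hTj
    have hTT : Commute (j' * x') ν := by
      have hd₁ := ((hd₀.mul hνd).mul hd₀.inv).mul hνd.inv
      have e1 : b₀ * τ.ρ⁻¹ * b₀⁻¹ * τ.ρ⁻¹⁻¹ = 1 := by
        have := hd₀.1; have := τ.ρ_ne_zero; field_simp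
      have e2 : c₀ * τ.ρ * c₀⁻¹ * τ.ρ⁻¹ = 1 := by
        have := hd₀.2.1; have := τ.ρ_ne_zero; field_simp
      rw [e1, e2] at hd₁
      have hT2 := τ.inT_mul (τ.inT_mul (τ.inT_mul hTj hνT) (τ.inT_inv hTj)) (τ.inT_inv hνT)
      have := τ.eq_one_of_diag_one h hd₁ (Or.inl hT2.2.1)
      exact mul_inv_eq_iff_eq_mul.1 (mul_inv_eq_one.1 this)
    have := hTT.mul_left (Commute.inv_left hxν)
    rwa [mul_inv_cancel_right] at this
  obtain ⟨a, s, u, he⟩ := D.mem_J.1 hj'J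
  have h3 := hνd.2.2 a s u
  rw [he, show ν * j' * ν⁻¹ = j' by rw [← hjν, mul_inv_cancel_right], ← he] at h3
  obtain ⟨-, hs, hu'⟩ := D.jel_inj h3
  have hρ1 : (1 : F) + τ.ρ⁻¹ ≠ 0 := fun e => τ.ne (inv_eq_one.1 (CharTwo.add_eq_zero.1 e).symm)
  have hs0 : s = 0 := (mul_eq_zero.1 (show (1 + τ.ρ⁻¹) * s = 0 by
    rw [add_mul, one_mul, ← hs, CharTwo.add_self_eq_zero])).resolve_left hρ1
  have hu0 : u = 0 := (mul_eq_zero.1 (show (1 + τ.ρ) * u = 0 by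
    rw [add_mul, one_mul, ← hu', CharTwo.add_self_eq_zero])).resolve_left τ.one_add_ne
  obtain ⟨⟨b₀, c₀, hd₀⟩, -, -⟩ := id hTj
  refine ⟨a, _, (τ.inT_conj_n₂ h hTj hd₀).1, ?_⟩
  rw [← τ.conj_n₂_z h a, τ.n₂_mul, ← mul_assoc]
  have : D.z a = j' := by rw [← he, hs0, hu0, D.z_eq]
  rw [this, mul_assoc (τ.n₂ h) j', ← mul_assoc j', show j' * j' = 1 by rw [← this]; exact D.P₁.sqV (D.P₁.el_mem _), one_mul, hx', τ.n₂_conj]

theorem swap_ρ (hq8 : 8 ≤ Fintype.card F) {x : G} (hx : x * τ.la = τ.la * x) {t : F}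
    (ht : t ≠ 0) (hu : x * D.y₂ t = D.y₂ t * x)
    (hV : τ.n₂ h * x * τ.n₂ h ∉ normalizer (D.P₁.V : Set G)) :
    D.fieldAut (τ.n₂ h * x * τ.n₂ h) ≠ 1 := by
  set x' := τ.n₂ h * x * τ.n₂ h with hx'
  set ν := τ.n₂ h * τ.la * τ.n₂ h with hν
  have hxν : x' * ν = ν * x' := by rw [hx', hν, τ.n₂_mul, τ.n₂_mul, hx]
  obtain ⟨-, hνd⟩ := τ.nu_spec h
  obtain ⟨σ, b, c, hb, hc, hz, hj⟩ := D.exists_swap_maps (τ.conj_mem_normalizer h hq8 ht hu) hV
  have hσ : D.fieldAut x' = σ := D.fieldAut_eq (mul_ne_zero hb hc) fun a => D.zmap_eq (hz a)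
  rw [hσ]
  intro h1
  subst h1
  obtain ⟨k, hk⟩ := hj 0 (τ.ρ⁻¹ * 1) 0
  obtain ⟨k', hk'⟩ := hj 0 1 0
  have e := hνd.2.2 0 1 0
  rw [mul_zero, mul_zero] at e
  have key : x' * (ν * D.jel 0 1 0 * ν⁻¹) * x'⁻¹ = ν * (x' * D.jel 0 1 0 * x'⁻¹) * ν⁻¹ := by
    calc x' * (ν * D.jel 0 1 0 * ν⁻¹) * x'⁻¹ = (x' * ν) * D.jel 0 1 0 * (x' * ν)⁻¹ := by group
      _ = (ν * x') * D.jel 0 1 0 * (ν * x')⁻¹ := by rw [hxν]
      _ = _ := by group
  rw [e, hk', hνd.2.2, hk] at key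
  have e1 := (D.jel_inj key).2.2
  simp only [RingAut.one_apply, mul_one] at e1
  rw [mul_comm b] at e1
  have e2 := mul_right_cancel₀ hb e1
  have hρ0 := τ.ρ_ne_zero
  refine τ.ne (eq_of_pow_two_eq_one (n := 1) ?_)
  rw [pow_one, sq]
  field_simp at e2
  linear_combination -e2

end Tor

end Cfsg.Agent.TwoNatural
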