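import Cfsg.Agent.Lib.TwoNatural.Centralizer
import Cfsg.Agent.Lib.AutPSL.Count
import Cfsg.Agent.Lib.Sectional.DirectFour

/-!
# Two natural parabolics over the field of four elements: sectional `2`-rank at most four (S3091)

* `sectional_four`
-/

set_option autoImplicit false
set_option linter.unusedSectionVars false

open Matrix Cfsg.Agent.SL2Module Subgroup

namespace Cfsg.Agent.TwoNatural

variable {F : Type*} [Field F] [Fintype F] [CharP F 2] {G : Type*} [Group G] [Finite G]

theorem ringAut_four_eq (h4 : Fintype.card F = 4) {σ τ : F ≃+* F} (hσ : σ ≠ 1) (hτ : τ ≠ 1) :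
    σ = τ := by
  haveI : Fact (Nat.Prime 2) := ⟨Nat.prime_two⟩
  have hc := (AutPSL.fieldAut_facts (F := F) 2 2 (by norm_num) h4).2
  haveI : Finite (F ≃+* F) := Finite.of_injective (fun e => (e : F → F)) DFunLike.coe_injective
  have key : ∀ ρ : F ≃+* F, ρ ≠ 1 → orderOf ρ = 2 := fun ρ hρ =>
    ((Nat.dvd_prime Nat.prime_two).1 (hc ▸ orderOf_dvd_natCard ρ)).resolve_left
      fun h1 => hρ (orderOf_eq_one_iff.1 h1)
  exact OrthEven.ringAut_involution_unique (key σ hσ) (key τ hτ)

/-- The additive coordinates outside the centre, on a subgroup of `J`. -/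
theorem exists_sHom (D : Data F G) {A : Subgroup G} (hA : A ≤ D.J) :
    ∃ f : A →* Multiplicative F, ∀ (v : A) a s t, D.jel a s t = (v : G) →
      f v = Multiplicative.ofAdd s := by
  choose a s t e using fun v : A => D.mem_J.1 (hA v.2)
  refine ⟨MonoidHom.mk' (fun v => Multiplicative.ofAdd (s v)) fun v w => ?_, fun v a' s' t' h => ?_⟩
  · have := e (v * w)
    rw [Subgroup.coe_mul, ← e v, ← e w, D.jel_mul] at this
    show Multiplicative.ofAdd (s (v * w)) = _
    rw [(D.jel_inj this).2.1]; rfl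
  · rw [← e v] at h
    show Multiplicative.ofAdd (s v) = _
    rw [(D.jel_inj h).2.1]

namespace Hyp

variable {D : Data F G} (h : Hyp D)
include h

theorem card_straight_four (h4 : Fintype.card F = 4) {S : Subgroup G} (hS : IsPGroup 2 S)
    (hSN : S ≤ normalizer (D.J : Set G)) :
    Nat.card ↥(S ⊓ normalizer (D.P₁.V : Set G)) ≤ 2 * Nat.card ↥(S ⊓ D.J) := by
  refine card_le_two_mul fun u hu v hv hu' hv' => ⟨S.mul_mem (S.inv_mem hu.1) hv.1, ?_⟩
  refine h.inv_mul_mem_J hS hSN hu.1 hv.1 hu.2 hv.2 (ringAut_four_eq h4 ?_ ?_)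
  · intro e
    obtain ⟨n, hn⟩ := hS ⟨u, hu.1⟩
    exact hu' ⟨hu.1, h.mem_J_of_kernel (hSN hu.1) hu.2 e (congrArg Subtype.val hn)⟩
  · intro e
    obtain ⟨n, hn⟩ := hS ⟨v, hv.1⟩
    exact hv' ⟨hv.1, h.mem_J_of_kernel (hSN hv.1) hv.2 e (congrArg Subtype.val hn)⟩

/-- Sections of a `2`-subgroup of `N(J)` when `q = 4`. -/
theorem card_le_four (h4 : Fintype.card F = 4) {H N : Subgroup G} (hH : IsPGroup 2 H)
    (hHN : H ≤ normalizer (D.J : Set G)) (hNH : N ≤ H) (hsq : ∀ x ∈ H, x * x ∈ N) :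
    Nat.card H ≤ 16 * Nat.card N := by
  classical
  haveI : Fact (Nat.Prime 2) := ⟨Nat.prime_two⟩
  set A := H ⊓ D.J with hA
  set B := H ⊓ normalizer (D.P₁.V : Set G) with hB
  have hHB : Nat.card H ≤ 2 * Nat.card B := card_all_le hHN
  have hBA : Nat.card B ≤ 2 * Nat.card A := h.card_straight_four h4 hH hHN
  have hcomm : ∀ x ∈ H, ∀ y ∈ H, x * y * x⁻¹ * y⁻¹ ∈ N := fun x hx y hy => by
    rw [show x * y * x⁻¹ * y⁻¹ =
      (x * y) * (x * y) * ((y⁻¹ * x⁻¹ * y) * (y⁻¹ * x⁻¹ * y)) * (y⁻¹ * y⁻¹) by group]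
    exact N.mul_mem (N.mul_mem (hsq _ (H.mul_mem hx hy))
      (hsq _ (H.mul_mem (H.mul_mem (H.inv_mem hy) (H.inv_mem hx)) hy))) (hsq _ (H.inv_mem hy))
  -- the elements needed when the bounds are tight
  have hswap : 2 * Nat.card A < Nat.card H → ∃ w ∈ H, w ∉ normalizer (D.P₁.V : Set G) := by
    intro hlt
    by_contra hc
    push Not at hc
    have : B = H := inf_eq_left.2 hc
    rw [this] at hBA
    omega
  have hfield : 2 * Nat.card A < Nat.card H →
      ∃ x ∈ H, x ∈ normalizer (D.P₁.V : Set G) ∧ x ∉ D.J := by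
    intro hlt
    by_contra hc
    push Not at hc
    have : Nat.card B ≤ Nat.card A := card_le_of_le fun x hx => ⟨hx.1, hc x hx.1 hx.2⟩
    omega
  have hpow : ∀ K : Subgroup G, K ≤ H → ∃ j : ℕ, Nat.card K = 2 ^ j := fun K hK =>
    (hH.to_le hK).exists_card_eq
  have hA64 : Nat.card A ≤ 64 := by
    refine (card_le_of_le (inf_le_right : A ≤ D.J)).trans_eq ?_
    rw [D.card_J, h4]; norm_num
  obtain ⟨jA, hjA⟩ := hpow A inf_le_left
  obtain ⟨jN, hjN⟩ := hpow N hNH
  have hjA6 : jA ≤ 6 := by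
    by_contra hc
    have := Nat.pow_le_pow_right (show 0 < 2 by norm_num) (show 7 ≤ jA by omega)
    omega
  rcases Nat.eq_zero_or_pos jN with hN0 | hN0
  · -- `H` is elementary abelian
    have hN1 : N = ⊥ := N.eq_bot_of_card_eq (by rw [hjN, hN0, pow_zero])
    have h2 : ∀ x ∈ H, x * x = 1 := fun x hx => by simpa [hN1] using hsq x hx
    have hc : ∀ u ∈ H, ∀ v ∈ H, u * v = v * u := fun u hu v hv => by
      have := hcomm u hu v hv
      rw [hN1, mem_bot, mul_inv_eq_one] at this
      exact mul_inv_eq_iff_eq_mul.1 this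
    rw [hjN, hN0, pow_zero, mul_one]
    by_cases hHJ : H ≤ D.J
    · rcases D.mem_V₁_or_le hHJ h2 with h' | h'
      · have := card_le_of_le h'; rw [D.P₁.card_V, h4] at this; omega
      · have := card_le_of_le h'; rw [D.P₂.card_V, h4] at this; omega
    · have := h.card_elem_le hHN h2 hc hHJ
      omega
  have hN2 : 2 ≤ Nat.card N := by
    rw [hjN]
    calc 2 = 2 ^ 1 := rfl
      _ ≤ 2 ^ jN := Nat.pow_le_pow_right (by norm_num) hN0
  rcases Nat.lt_or_ge jA 4 with hA3 | hA4
  · have := Nat.pow_le_pow_right (show 0 < 2 by norm_num) (show jA ≤ 3 by omega)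
    omega
  rcases Nat.lt_or_ge jA 5 with hA4' | hA5
  · -- `|A| = 16`
    have hjA4 : jA = 4 := by omega
    rw [hjA4] at hjA
    norm_num at hjA
    by_contra hcon
    push Not at hcon
    have hH64 : 2 * Nat.card A < Nat.card H := by omega
    have hNc : Nat.card N = 2 := by
      rcases Nat.lt_or_ge jN 2 with h1 | h1
      · rw [hjN, show jN = 1 by omega, pow_one]
      · have := Nat.pow_le_pow_right (show 0 < 2 by norm_num) h1
        omega
    obtain ⟨w, hw, hwV⟩ := hswap hH64
    obtain ⟨x, hx, hxV, hxJ⟩ := hfield hH64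
    by_cases hel : ∀ a ∈ A, a * a = 1
    · -- `A` would be `V₁` or `V₂`
      have hor := D.mem_V₁_or_le (inf_le_right : A ≤ D.J) hel
      have hsub := fix_le_inf (D := D) (hHN hw) hwV (A := ⊥) (Or.inl bot_le) (by simp)
      rcases hor with h' | h'
      · have e := eq_of_le_of_card_ge h' (by rw [D.P₁.card_V, h4, hjA]; norm_num)
        have hj : D.jel 0 1 0 ∈ A := e.ge (D.jel_mem_V₁.2 rfl)
        have hwj : w * D.jel 0 1 0 * w⁻¹ ∈ D.P₁.V := e.le
          (⟨H.mul_mem (H.mul_mem hw hj.1) (H.inv_mem hw), conj_mem_of (hHN hw) hj.2⟩ :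
            w * D.jel 0 1 0 * w⁻¹ ∈ A)
        exact one_ne_zero (D.jel_mem_V₂.1 (((D.not_V₁_iff (hHN hw) hwV).2 _).2 hwj))
      · have e := eq_of_le_of_card_ge h' (by rw [D.P₂.card_V, h4, hjA]; norm_num)
        have hj : D.jel 0 0 1 ∈ A := e.ge (D.jel_mem_V₂.2 rfl)
        have hwj : w * D.jel 0 0 1 * w⁻¹ ∈ D.P₂.V := e.le
          (⟨H.mul_mem (H.mul_mem hw hj.1) (H.inv_mem hw), conj_mem_of (hHN hw) hj.2⟩ :
            w * D.jel 0 0 1 * w⁻¹ ∈ A)
        exact one_ne_zero (D.jel_mem_V₁.1 (((D.not_V₁_iff (hHN hw) hwV).1 _).2 hwj))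
    · push Not at hel
      obtain ⟨a, ha, ha2⟩ := hel
      have hNZ : N ≤ D.P₁.V ⊓ D.P₂.V := by
        have haZ : a * a ∈ N ⊓ (D.P₁.V ⊓ D.P₂.V) := by
          refine ⟨hsq a ha.1, ?_⟩
          obtain ⟨k, s, t, rfl⟩ := D.mem_J.1 ha.2
          rw [D.jel_sq]; exact D.mem_inf.2 ⟨_, rfl⟩
        have h1 : 1 < Nat.card ↥(N ⊓ (D.P₁.V ⊓ D.P₂.V)) := by
          refine (one_lt_card_iff_ne_bot _).2 fun e => ha2 ?_
          rwa [e, mem_bot] at haZ
        exact (eq_of_le_of_card_ge inf_le_left (by omega)).ge.trans inf_le_right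
      obtain ⟨σ', b', c', hb', hc', -, hjw⟩ := D.exists_swap_maps (hHN hw) hwV
      obtain ⟨σ, b, c, hb, hc, hzx, hjx⟩ := D.exists_straight_maps (hHN hx) hxV
      have hσ : σ ≠ 1 := fun hσ => hxJ (by
        obtain ⟨n, hn⟩ := hH ⟨x, hx⟩
        refine h.mem_J_of_kernel (hHN hx) hxV ?_ (congrArg Subtype.val hn)
        rw [← hσ]
        exact D.fieldAut_eq (mul_ne_zero hb hc) fun a => D.zmap_eq (hzx a))
      choose k s t e using fun v : A => D.mem_J.1 (v.2.2)
      have hfix : ∀ v : A, b * σ (s v) = s v ∧ t v = b' * σ' (s v) := by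
        intro v
        obtain ⟨k₁, hk₁⟩ := hjx (k v) (s v) (t v)
        obtain ⟨k₂, hk₂⟩ := hjw (k v) (s v) (t v)
        rw [e v] at hk₁ hk₂
        have h1 := hNZ (hcomm x hx v v.2.1)
        have h2 := hNZ (hcomm w hw v v.2.1)
        rw [hk₁, ← e v, D.jel_inv, D.jel_mul, D.jel_mem_inf] at h1
        rw [hk₂, ← e v, D.jel_inv, D.jel_mul, D.jel_mem_inf] at h2
        exact ⟨CharTwo.add_eq_zero.1 h1.1, (CharTwo.add_eq_zero.1 h2.2).symm⟩
      have hle : Nat.card A ≤ Nat.card (F × {a : F // b * σ a = a}) := by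
        refine Nat.card_le_card_of_injective (fun v => (k v, ⟨s v, (hfix v).1⟩)) fun u v huv => ?_
        obtain ⟨e1, e2⟩ := Prod.ext_iff.1 huv
        have e3 : s u = s v := congrArg (fun y : {a : F // b * σ a = a} => y.1) e2
        exact Subtype.ext (by rw [← e u, ← e v, (hfix u).2, (hfix v).2, e3, show k u = k v from e1])
      have hfc := card_semifix_sq_le hσ b
      rw [Nat.card_prod] at hle
      rw [Nat.card_eq_fintype_card (α := F), h4] at hle hfc
      nlinarith
  -- now `|A| ≥ 32` and `Z ≤ N`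
  have hA32 : 32 ≤ Nat.card A := by
    rw [hjA]
    calc 32 = 2 ^ 5 := by norm_num
      _ ≤ 2 ^ jA := Nat.pow_le_pow_right (by norm_num) hA5
  have hZN : D.P₁.V ⊓ D.P₂.V ≤ N := by
    intro v hv
    obtain ⟨a, rfl⟩ := D.mem_inf.1 hv
    by_contra hcon
    obtain ⟨f, hf⟩ := exists_sHom D (inf_le_right : A ≤ D.J)
    have hNc : ∀ {k s t k' s' t'}, D.jel k s t ∈ A → D.jel k' s' t' ∈ A →
        D.z (t * s' + t' * s) ∈ N := fun hu hu' => D.comm_jel .. ▸ hcomm _ hu.1 _ hu'.1
    have hk : ∀ u : f.ker, ((u : A) : G) ∈ D.P₂.V := fun u => by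
      obtain ⟨k, s, t, e⟩ := D.mem_J.1 u.1.2.2
      rw [← e, D.jel_mem_V₂]
      exact Multiplicative.ofAdd.injective ((hf u.1 k s t e).symm.trans u.2)
    have hker : Nat.card f.ker ≤ 16 := by
      refine (Nat.card_le_card_of_injective (fun u : f.ker => (⟨_, hk u⟩ : D.P₂.V))
        fun u v huv => Subtype.ext (Subtype.ext (congrArg (fun y : D.P₂.V => (y : G)) huv))).trans_eq
        ?_
      rw [D.P₂.card_V, h4]; norm_num
    have hmul : Nat.card f.ker * Nat.card f.range = Nat.card A := by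
      rw [← Subgroup.index_ker, Subgroup.card_mul_index]
    have hrdvd : Nat.card f.range ∣ 4 := by
      have := Subgroup.card_subgroup_dvd_card f.range
      rwa [Nat.card_eq_fintype_card (α := Multiplicative F), Fintype.card_multiplicative, h4] at this
    by_cases ht0 : ∃ u : f.ker, ∀ k, ((u : A) : G) ≠ D.z k
    · obtain ⟨u, hu⟩ := ht0
      obtain ⟨k₀, s₀, t₀, e₀⟩ := D.mem_J.1 u.1.2.2
      have hs₀ : s₀ = 0 := D.jel_mem_V₂.1 (e₀ ▸ hk u)
      subst hs₀
      have ht₀ : t₀ ≠ 0 := fun h0 => hu k₀ (by rw [← e₀, h0, D.z_eq])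
      have hzr : ∀ m ∈ f.range, D.z (t₀ * Multiplicative.toAdd m) ∈ N := by
        rintro _ ⟨v, rfl⟩
        obtain ⟨k, s, t, e⟩ := D.mem_J.1 v.2.2
        have := hNc (e₀ ▸ u.1.2) (e ▸ v.2)
        rwa [mul_zero, add_zero, ← show Multiplicative.toAdd (f v) = s by rw [hf v k s t e]; rfl]
          at this
      have hr2 : Nat.card f.range ≤ 2 := by
        have hle := Nat.le_of_dvd (by norm_num) hrdvd
        have hne : Nat.card f.range ≠ 4 := fun h' => hcon (by
          have htop : f.range = ⊤ := eq_top_of_card_eq _ (by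
            rw [h', Nat.card_eq_fintype_card, Fintype.card_multiplicative, h4])
          have := hzr (Multiplicative.ofAdd (a / t₀)) (htop ▸ mem_top _)
          rwa [toAdd_ofAdd, mul_div_cancel₀ a ht₀] at this)
        rcases (by omega : Nat.card f.range ≤ 2 ∨ Nat.card f.range = 3) with h' | h'
        · exact h'
        · rw [h'] at hrdvd; norm_num at hrdvd
      have hfull : Nat.card f.ker = 16 ∧ Nat.card f.range = 2 := ⟨by nlinarith, by nlinarith⟩
      obtain ⟨m, hm, hm1⟩ := f.range.bot_or_exists_ne_one.resolve_left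
        fun e => by rw [e, card_bot] at hfull; omega
      obtain ⟨v, rfl⟩ := hm
      obtain ⟨k, s, t, e⟩ := D.mem_J.1 v.2.2
      have hs : s ≠ 0 := fun hs => hm1 (by rw [hf v k s t e, hs]; rfl)
      have hj : D.jel 0 0 (a / s) ∈ A := by
        have himg : ((f.ker.map A.subtype : Subgroup G)) = D.P₂.V :=
          eq_of_le_of_card_ge (by rintro _ ⟨u, hu, rfl⟩; exact hk ⟨u, hu⟩)
            (by rw [card_map_of_injective A.subtype_injective, D.P₂.card_V, h4, hfull.1]; norm_num)
        obtain ⟨u, -, hu⟩ := himg.ge (D.jel_mem_V₂.2 rfl : D.jel 0 0 (a / s) ∈ D.P₂.V)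
        exact hu ▸ u.2
      have := hNc hj (e ▸ v.2)
      rw [mul_zero, add_zero, div_mul_cancel₀ a hs] at this
      exact hcon this
    · push Not at ht0
      choose k hk' using ht0
      have hker4 : Nat.card f.ker ≤ 4 := by
        refine (Nat.card_le_card_of_injective k fun u v e => Subtype.ext (Subtype.ext (by
          rw [hk' u, hk' v, e]))).trans_eq ?_
        rw [Nat.card_eq_fintype_card, h4]
      have := Nat.le_of_dvd (by norm_num) hrdvd
      nlinarith
  have hN4 : 4 ≤ Nat.card N := by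
    refine le_trans (le_of_eq ?_) (card_le_of_le hZN)
    rw [card_inf, h4]
  rcases Nat.lt_or_ge jA 6 with hA5' | hA6
  · -- `|A| = 32`
    rw [show jA = 5 by omega] at hjA
    norm_num at hjA
    by_contra hcon
    push Not at hcon
    have hlt : 2 * Nat.card A < Nat.card H := by omega
    obtain ⟨w, hw, hwV⟩ := hswap hlt
    obtain ⟨σ, b, c, hb, hc, -, hj⟩ := D.exists_swap_maps (hHN hw) hwV
    have hNZ : N = D.P₁.V ⊓ D.P₂.V := by
      refine (eq_of_le_of_card_ge hZN ?_).symm
      rw [card_inf, h4]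
      obtain ⟨jj, hjj⟩ : ∃ jj, Nat.card N = 2 ^ jj := ⟨jN, hjN⟩
      rcases Nat.lt_or_ge jN 3 with h1 | h1
      · have := Nat.pow_le_pow_right (show 0 < 2 by norm_num) (show jN ≤ 2 by omega)
        omega
      · have := Nat.pow_le_pow_right (show 0 < 2 by norm_num) h1
        omega
    choose k s t e using fun v : A => D.mem_J.1 (v.2.2)
    have hfix : ∀ v : A, t v = b * σ (s v) := by
      intro v
      obtain ⟨k₂, hk₂⟩ := hj (k v) (s v) (t v)
      rw [e v] at hk₂
      have h2 := hNZ.le (hcomm w hw v v.2.1)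
      rw [hk₂, ← e v, D.jel_inv, D.jel_mul, D.jel_mem_inf] at h2
      exact (CharTwo.add_eq_zero.1 h2.2).symm
    have hle : Nat.card A ≤ Nat.card (F × F) := by
      refine Nat.card_le_card_of_injective (fun v => (k v, s v)) fun u v huv => ?_
      obtain ⟨e1, e2⟩ := Prod.ext_iff.1 huv
      exact Subtype.ext (by rw [← e u, ← e v, hfix u, hfix v, show k u = k v from e1,
        show s u = s v from e2])
    rw [Nat.card_prod, Nat.card_eq_fintype_card (α := F), h4] at hle
    omega
  -- `|A| = 64`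
  rw [show jA = 6 by omega] at hjA
  norm_num at hjA
  have hAJ : A = D.J := eq_of_le_of_card_ge inf_le_right (by rw [D.card_J, h4, hjA]; norm_num)
  have hJH : D.J ≤ H := hAJ ▸ inf_le_left
  by_cases hHJ : H ≤ D.J
  · have := card_le_of_le hHJ
    rw [D.card_J, h4] at this
    omega
  obtain ⟨x, hx, hxJ⟩ := SetLike.not_le_iff_exists.1 hHJ
  suffices h16 : 16 ≤ Nat.card N by omega
  have hjN' : ∀ k m n, D.jel k m n ∈ N → ∀ k', D.jel k' m n ∈ N := fun k m n hn k' => by
    have := N.mul_mem (hZN (D.mem_inf.2 ⟨k' + k, rfl⟩)) hn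
    rwa [D.z_eq, D.jel_mul, zero_mul, add_zero, add_assoc, CharTwo.add_self_eq_zero, add_zero,
      zero_add, zero_add] at this
  by_cases hxV : x ∈ normalizer (D.P₁.V : Set G)
  · obtain ⟨σ, b, c, hb, hc, hz, hj⟩ := D.exists_straight_maps (hHN hx) hxV
    have hσ : σ ≠ 1 := fun hσ => hxJ (by
      obtain ⟨n, hn⟩ := hH ⟨x, hx⟩
      refine h.mem_J_of_kernel (hHN hx) hxV ?_ (congrArg Subtype.val hn)
      rw [← hσ]
      exact D.fieldAut_eq (mul_ne_zero hb hc) fun a => D.zmap_eq (hz a))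
    have hne : ∀ e : F, ∃ s, e * σ s + s ≠ 0 := fun e => by
      by_contra hc
      push Not at hc
      have := card_semifix_sq_le hσ e
      rw [Nat.card_congr (Equiv.subtypeUnivEquiv fun a => CharTwo.add_eq_zero.1 (hc a)),
        Nat.card_eq_fintype_card, h4] at this
      norm_num at this
    obtain ⟨s, hs⟩ := hne b
    obtain ⟨t, ht⟩ := hne c
    have hcs : ∀ s t, ∀ k, D.jel k (b * σ s + s) (c * σ t + t) ∈ N := by
      intro s t
      obtain ⟨k, hk⟩ := hj 0 s t
      have := hcomm x hx _ (hJH (D.jel_mem 0 s t))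
      rw [hk, D.jel_inv, D.jel_mul] at this
      exact hjN' _ _ _ this
    let g : F × Bool × Bool → N := fun p =>
      ⟨D.jel p.1 (if p.2.1 then b * σ s + s else 0) (if p.2.2 then c * σ t + t else 0), by
        obtain ⟨k, i, j⟩ := p
        have h0 := hcs 0 0 k
        have h1 := hcs s 0 k
        have h2 := hcs 0 t k
        rw [map_zero, mul_zero, mul_zero, add_zero] at h0
        rw [map_zero, mul_zero, add_zero] at h1 h2
        cases i <;> cases j
        · exact h0
        · exact h2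
        · exact h1
        · exact hcs s t k⟩
    have hite : ∀ (v : F), v ≠ 0 → ∀ i j : Bool,
        (if i then v else 0) = (if j then v else 0) → i = j := fun v hv i j e => by
      cases i <;> cases j
      · rfl
      · exact absurd e.symm hv
      · exact absurd e hv
      · rfl
    have hg : Function.Injective g := fun p p' hkk => by
      obtain ⟨e1, e2, e3⟩ := D.jel_inj (congrArg (fun y : N => (y : G)) hkk)
      exact Prod.ext e1 (Prod.ext (hite _ hs _ _ e2) (hite _ ht _ _ e3))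
    have := Nat.card_le_card_of_injective g hg
    rw [Nat.card_prod, Nat.card_prod, Nat.card_eq_fintype_card, h4,
      Nat.card_eq_fintype_card (α := Bool), Fintype.card_bool] at this
    omega
  · obtain ⟨σ, b, c, hb, hc, hz, hj⟩ := D.exists_swap_maps (hHN hx) hxV
    have hcs : ∀ s k, D.jel k s (b * σ s) ∈ N := by
      intro s
      obtain ⟨k, hk⟩ := hj 0 s 0
      have := hcomm x hx _ (hJH (D.jel_mem 0 s 0))
      rw [hk, D.jel_inv, D.jel_mul] at this
      simp only [map_zero, mul_zero, zero_add, add_zero] at this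
      exact hjN' _ _ _ this
    have := Nat.card_le_card_of_injective (fun p : F × F => (⟨_, hcs p.2 p.1⟩ : N))
      fun p p' hp => by
        obtain ⟨e1, e2, -⟩ := D.jel_inj (congrArg (fun y : N => (y : G)) hp)
        exact Prod.ext e1 e2
    rw [Nat.card_prod, Nat.card_eq_fintype_card, h4] at this
    omega

/-- With `q = 4` the sectional `2`-rank is at most four. -/
theorem sectional_four (h4 : Fintype.card F = 4) : Cfsg.SectionalPRankLE 2 4 G := by
  haveI : Fact (Nat.Prime 2) := ⟨Nat.prime_two⟩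
  obtain ⟨S, hS⟩ := D.isPGroup_J.exists_le_sylow
  refine Sectional.sectional_of_sylow S (Sectional.sectionalPRankLE_of fun H N hNH hsq => ?_)
  have hSN : (S : Subgroup G) ≤ normalizer (D.J : Set G) := h.le_normalizer_J S.isPGroup' hS
  have := h.card_le_four h4 (H := H.map (S : Subgroup G).subtype)
    (N := N.map (S : Subgroup G).subtype) (S.isPGroup'.to_le (map_subtype_le _))
    ((map_subtype_le _).trans hSN) (map_mono hNH) (by
      rintro _ ⟨x, hx, rfl⟩
      exact ⟨x ^ 2, hsq x hx, by rw [pow_two]; rfl⟩)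
  rwa [card_map_of_injective (Subgroup.subtype_injective _),
    card_map_of_injective (Subgroup.subtype_injective _)] at this

end Hyp

end Cfsg.Agent.TwoNatural
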