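import Cfsg.Agent.Lib.TwoNatural.Transfer
import Cfsg.Agent.Lib.Bender.RankOneHalf
import Cfsg.Agent.Lib.Bender.Consumers
import Cfsg.Agent.Lib.Involution.StronglyEmbedded
import Cfsg.Agent.Lib.PSL2.Soluble

/-!
# Two natural parabolics: `C(la)` and the root group of `-α` (S3091)

* `mem_normalizer_L_of_mem_M`: `M ≤ N(L₁)`, by the strongly embedded subgroup theorem
* `Y_eq`: the two conjugates of the negative root groups agree
-/

set_option autoImplicit false
set_option linter.unusedSectionVars false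

open Matrix Cfsg.Agent.SL2Module Subgroup

namespace Cfsg.Agent.TwoNatural

universe u v

variable {F : Type v} [Field F] [Fintype F] [CharP F 2] {G : Type u} [Group G] [Finite G]

local notation "SL2F" => Matrix.SpecialLinearGroup (Fin 2) F

theorem not_isSolvable_SL2 (hq : 4 ≤ Fintype.card F) : ¬Group.IsSolvable SL2F := fun hs => by
  refine PSL2.not_isSolvable_psl (L := F) (by rwa [Nat.card_eq_fintype_card]) ?_
  exact Group.isSolvable_of_surjective (QuotientGroup.mk'_surjective _)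

/-- An involution of `SL₂(F)` is conjugate to `up 1`. -/
theorem exists_conj_up_one {A : SL2F} (h2 : A * A = 1) (h1 : A ≠ 1) :
    ∃ B : SL2F, B * A * B⁻¹ = up 1 := by
  obtain ⟨B, hB⟩ : ∃ B : SL2F, (B * A * B⁻¹).1 1 0 = 0 := by
    by_cases h10 : A.1 1 0 = 0
    · exact ⟨1, by simpa using h10⟩
    · refine ⟨wm * up ((A.1 0 0 + 1) / A.1 1 0), ?_⟩
      set v : Fin 2 → F := ![A.1 0 0 + 1, A.1 1 0] with hv
      set B : SL2F := wm * up ((A.1 0 0 + 1) / A.1 1 0)
      have hAv : A.1 *ᵥ v = v := by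
        have e : v = A.1 *ᵥ ![1, 0] + ![1, 0] := by
          ext i; fin_cases i <;> simp [hv, Matrix.mulVec, dotProduct, Fin.sum_univ_two]
        have hA : A.1 * A.1 = 1 := congrArg Subtype.val h2
        rw [e, Matrix.mulVec_add, Matrix.mulVec_mulVec, hA, Matrix.one_mulVec, add_comm]
      have hBv : B.1 *ᵥ v = ![A.1 1 0, 0] := by
        show (wm * up ((A.1 0 0 + 1) / A.1 1 0) : SL2F).1 *ᵥ v = _
        rw [Matrix.SpecialLinearGroup.coe_mul, ← Matrix.mulVec_mulVec, up_mulVec, wm_mulVec]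
        simp [hv, div_mul_cancel₀ _ h10, CharTwo.add_self_eq_zero]
      have e : (B * A * B⁻¹).1 *ᵥ (B.1 *ᵥ v) = B.1 *ᵥ v := by
        rw [Matrix.mulVec_mulVec, ← Matrix.SpecialLinearGroup.coe_mul, inv_mul_cancel_right,
          Matrix.SpecialLinearGroup.coe_mul, ← Matrix.mulVec_mulVec, hAv]
      rw [hBv] at e
      have := congrFun e 1
      simpa [Matrix.mulVec, dotProduct, Fin.sum_univ_two, h10] using this
  set N := B * A * B⁻¹ with hN
  have hN2 : N * N = 1 := by rw [hN, conj_mul, h2, mul_one, mul_inv_cancel]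
  have hN1 : N ≠ 1 := fun e => h1 (conj_eq_one_iff.1 e)
  have hNm : N.1 * N.1 = 1 := congrArg Subtype.val hN2
  have e00 := congrFun (congrFun hNm 0) 0
  have e11 := congrFun (congrFun hNm 1) 1
  simp [Matrix.mul_apply, Fin.sum_univ_two, hB] at e00 e11
  have h00 : N.1 0 0 = 1 := eq_of_pow_two_eq_one (n := 1) (by rw [pow_one, sq]; exact e00)
  have h11 : N.1 1 1 = 1 := eq_of_pow_two_eq_one (n := 1) (by rw [pow_one, sq]; exact e11)
  have hNu : N = up (N.1 0 1) := by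
    refine Subtype.ext ?_
    ext i j; fin_cases i <;> fin_cases j <;> simp [up_val, h00, h11, hB]
  have hs : N.1 0 1 ≠ 0 := fun e => hN1 (by rw [hNu, e, up_zero])
  obtain ⟨a, ha⟩ := exists_sq_eq (N.1 0 1)⁻¹
  have ha0 : a ≠ 0 := fun e => inv_ne_zero hs (by rw [← ha, e, mul_zero])
  refine ⟨dg (Units.mk0 a ha0) * B, ?_⟩
  rw [show dg (Units.mk0 a ha0) * B * A * (dg (Units.mk0 a ha0) * B)⁻¹ =
    dg (Units.mk0 a ha0) * N * (dg (Units.mk0 a ha0))⁻¹ by rw [hN]; group, hNu, dg_up,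
    mul_inv_cancel_right]
  congr 1
  show a * a * _ = 1
  rw [ha, inv_mul_cancel₀ hs]

/-- An additive map commuting with a generator of the field is linear. -/
theorem linear_of_comm {ρ : F} (hgen : ∀ σ : F ≃+* F, σ ρ = ρ → σ = 1) (m : F →+ F)
    (hm : ∀ t, m (ρ * t) = ρ * m t) : ∀ t, m t = m 1 * t := by
  classical
  let E : Subfield F :=
    { carrier := {r | ∀ t, m (r * t) = r * m t}
      mul_mem' := fun {a b} ha hb t => by rw [mul_assoc, ha, hb, mul_assoc]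
      one_mem' := fun t => by rw [one_mul, one_mul]
      add_mem' := fun {a b} ha hb t => by rw [add_mul, map_add, ha, hb, add_mul]
      zero_mem' := fun t => by rw [zero_mul, zero_mul, map_zero]
      neg_mem' := fun {a} ha t => by rw [CharTwo.neg_eq]; exact ha t
      inv_mem' := fun a ha t => by
        rcases eq_or_ne a 0 with rfl | h0
        · rw [_root_.inv_zero, zero_mul, zero_mul, map_zero]
        · have := ha (a⁻¹ * t)
          rw [mul_inv_cancel_left₀ h0] at this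
          rw [this, inv_mul_cancel_left₀ h0] }
  suffices hall : ∀ r, r ∈ E by
    intro t
    have := hall t 1
    rw [mul_one] at this
    rw [this, mul_comm]
  haveI : CharP E 2 := E.subtype.charP E.subtype.injective 2
  obtain ⟨d, -, hd⟩ := FiniteField.card E 2
  have hfix : ∀ x ∈ E, x ^ 2 ^ (d : ℕ) = x := fun x hx => by
    have := congrArg Subtype.val (FiniteField.pow_card (⟨x, hx⟩ : E))
    rwa [hd] at this
  have hσ : iterateFrobeniusEquiv F 2 d = 1 := hgen _ (by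
    rw [iterateFrobeniusEquiv_def]; exact hfix ρ hm)
  have hroot : ∀ x : F, x ^ 2 ^ (d : ℕ) = x := fun x => by
    have := congrArg (fun σ : F ≃+* F => σ x) hσ
    rwa [iterateFrobeniusEquiv_def, RingAut.one_apply] at this
  obtain ⟨g, hg⟩ := IsCyclic.exists_generator (α := Fˣ)
  have hord : orderOf g = Fintype.card F - 1 := by
    rw [orderOf_eq_card_of_forall_mem_zpowers hg, Nat.card_units, Nat.card_eq_fintype_card]
  have h2d : 2 ≤ 2 ^ (d : ℕ) := le_trans (le_of_eq rfl) (Nat.pow_le_pow_right two_pos d.2)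
  have hdvd : orderOf g ∣ 2 ^ (d : ℕ) - 1 := by
    refine orderOf_dvd_of_pow_eq_one (Units.ext ?_)
    rw [Units.val_pow_eq_pow_val, Units.val_one]
    refine mul_right_cancel₀ g.ne_zero ?_
    rw [← pow_succ, Nat.sub_add_cancel (by omega), one_mul, hroot]
  have hle : Fintype.card F ≤ Fintype.card E := by
    have := Nat.le_of_dvd (by omega) hdvd
    omega
  intro r
  have hbij := (Fintype.bijective_iff_injective_and_card (E.subtype : E → F)).2
    ⟨E.subtype.injective, le_antisymm (Fintype.card_le_of_injective _ E.subtype.injective) hle⟩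
  obtain ⟨r', rfl⟩ := hbij.2 r
  exact r'.2

namespace Tor

variable {D : Data F G} (τ : Tor D) (h : Hyp D)

theorem mem_range_φ {l : G} (hl : l ∈ D.P₁.L) (c : τ.la * l = l * τ.la) : l ∈ (τ.φ h).range :=
  ⟨D.P₁.π ⟨l, hl⟩, τ.φ_eq h hl rfl c⟩

include h

/-- `M ≤ N(L₁)`. -/
theorem mem_normalizer_L_of_mem_M (hq8 : 8 ≤ Fintype.card F) {M : Subgroup G}
    (hMC : M ≤ centralizer ({τ.la} : Set G)) (hφM : ∀ A : SL2F, τ.φ h A ∈ M)
    (hTM : ∀ x, τ.InT x → x ∈ M)
    (hM : ∀ x ∈ M, ∀ t : F, t ≠ 0 → x * D.y₂ t = D.y₂ t * x → τ.St x) :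
    M ≤ normalizer (D.P₁.L : Set G) ∧
      ∀ x ∈ M, x * x = 1 → x ∈ (τ.φ h).range := by
  set N₁ := normalizer (D.P₁.L : Set G) with hN₁
  have hφN : ∀ A, τ.φ h A ∈ N₁ := fun A => Subgroup.le_normalizer (τ.φ_mem h A)
  have hla : ∀ {x}, x ∈ M → x * τ.la = τ.la * x := fun hx =>
    mem_centralizer_singleton_iff.1 (hMC hx)
  have hconjR : ∀ x ∈ M ⊓ N₁, ∀ k ∈ (τ.φ h).range, x * k * x⁻¹ ∈ (τ.φ h).range := by
    rintro x hx _ ⟨A, rfl⟩
    refine τ.mem_range_φ h (conj_mem_of hx.2 (τ.φ_mem h A)) ?_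
    have c1 : Commute τ.la x := (hla hx.1).symm
    exact ((c1.mul_right (τ.φ_comm h A)).mul_right c1.inv_right).eq
  -- moving a conjugate of `y₂(1)` back
  have hdec : ∀ x ∈ M ⊓ N₁, ∃ B, τ.St (τ.φ h B * x) := by
    intro x hx
    obtain ⟨A, hA⟩ := hconjR x hx (D.y₂ 1) ⟨up 1, τ.φ_up h 1⟩
    have hA2 : A * A = 1 := τ.φ_injective h (by
      rw [map_mul, hA, conj_mul, D.y₂_add, CharTwo.add_self_eq_zero, D.y₂_zero, mul_one,
        mul_inv_cancel, map_one])
    have hA1 : A ≠ 1 := fun e => one_ne_zero (D.y₂_inj (by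
      rw [e, map_one] at hA
      rw [D.y₂_zero]
      exact conj_eq_one_iff.1 hA.symm))
    obtain ⟨B, hB⟩ := exists_conj_up_one hA2 hA1
    refine ⟨B, hM _ (M.mul_mem (hφM B) hx.1) 1 one_ne_zero ?_⟩
    refine mul_inv_eq_iff_eq_mul.1 ?_
    rw [show τ.φ h B * x * D.y₂ 1 * (τ.φ h B * x)⁻¹ =
      τ.φ h B * (x * D.y₂ 1 * x⁻¹) * (τ.φ h B)⁻¹ by group, ← hA, ← map_inv, ← map_mul, ← map_mul,
      hB, τ.φ_up]
  have hinv : ∀ x ∈ M ⊓ N₁, x * x = 1 → x ∈ (τ.φ h).range := by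
    intro x hx hx2
    obtain ⟨B, a, x₀, hx₀, e⟩ := hdec x hx
    have hx₀M : x₀ ∈ M ⊓ N₁ :=
      ⟨hTM x₀ hx₀, h.nor₁.ge hx₀.1.choose_spec.choose_spec.mem_normalizer.2⟩
    have hxe : x = τ.φ h B⁻¹ * D.y₂ a * x₀ := by rw [map_inv, mul_assoc, ← e, inv_mul_cancel_left]
    have hk : τ.φ h B⁻¹ * D.y₂ a ∈ (τ.φ h).range :=
      mul_mem ⟨_, rfl⟩ ⟨up a, τ.φ_up h a⟩
    have key : ∀ n : ℕ, x ^ n * (x₀ ^ n)⁻¹ ∈ (τ.φ h).range := by
      intro n
      induction n with
      | zero => simp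
      | succ n ih =>
        rw [pow_succ', pow_succ', show x * x ^ n * (x₀ * x₀ ^ n)⁻¹ =
          x * (x₀⁻¹ * (x₀ * (x ^ n * (x₀ ^ n)⁻¹) * x₀⁻¹)) by group, ← mul_assoc]
        refine mul_mem ?_ (hconjR x₀ hx₀M _ ih)
        rw [hxe, mul_inv_cancel_right]; exact hk
    have := key (Fintype.card F - 1)
    rw [τ.inT_pow_eq_one hx₀ h, inv_one, mul_one] at this
    obtain ⟨m, hp, hm⟩ := FiniteField.card F 2
    have he : ∃ i, Fintype.card F - 1 = 2 * i + 1 := by
      refine ⟨2 ^ ((m : ℕ) - 1) - 1, ?_⟩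
      have e2 : Fintype.card F = 2 * 2 ^ ((m : ℕ) - 1) := by
        rw [hm, ← pow_succ', Nat.sub_add_cancel (show 1 ≤ (m : ℕ) from m.2)]
      have := Nat.one_le_two_pow (n := (m : ℕ) - 1)
      omega
    obtain ⟨i, hi⟩ := he
    rwa [hi, pow_succ, pow_mul, sq, hx2, one_pow, one_mul] at this
  have hall : M ≤ N₁ := by
    by_contra hne
    set H := N₁.subgroupOf M with hH
    have hy : D.y₂ 1 ∈ M ⊓ N₁ := ⟨τ.φ_up h 1 ▸ hφM _, τ.φ_up h 1 ▸ hφN _⟩
    have hy1 : D.y₂ (1 : F) ≠ 1 := fun e => one_ne_zero (D.y₂_inj (e.trans D.y₂_zero.symm))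
    have hse : Cfsg.IsStronglyEmbedded H := by
      refine Involution.isStronglyEmbedded_iff_forall.2 ⟨fun e => hne (subgroupOf_eq_top.1 e),
        ?_, ?_⟩
      · have ho : orderOf (⟨⟨D.y₂ 1, hy.1⟩, mem_subgroupOf.2 hy.2⟩ : H) = 2 := by
          refine orderOf_eq_prime ?_ fun e => hy1 (congrArg (fun y : H => ((y : M) : G)) e)
          rw [sq]
          refine Subtype.ext (Subtype.ext ?_)
          show D.y₂ 1 * D.y₂ 1 = 1
          exact D.P₂.el_sq _
        exact even_iff_two_dvd.2 (ho ▸ orderOf_dvd_natCard _)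
      · intro g t ht htH hgt
        have ht2 : (t : G) * t = 1 := by
          have := pow_orderOf_eq_one t
          rw [ht, sq] at this
          exact congrArg Subtype.val this
        have ht1 : (t : G) ≠ 1 := fun e => by
          rw [show t = 1 from Subtype.ext e, orderOf_one] at ht
          omega
        obtain ⟨A, hA⟩ := hinv t ⟨t.2, htH⟩ ht2
        obtain ⟨A', hA'⟩ := hinv ((g : G) * t * (g : G)⁻¹) ⟨(g * t * g⁻¹).2, hgt⟩
          (by rw [conj_mul, ht2, mul_one, mul_inv_cancel])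
        have inv_ne : ∀ (X : SL2F) (x : G), τ.φ h X = x → x * x = 1 → x ≠ 1 →
            X * X = 1 ∧ X ≠ 1 := fun X x e e2 e1 =>
          ⟨τ.φ_injective h (by rw [map_mul, e, e2, map_one]), fun e' => e1 (by rw [← e, e', map_one])⟩
        obtain ⟨a2, a1⟩ := inv_ne A t hA ht2 ht1
        obtain ⟨b2, b1⟩ := inv_ne A' _ hA' (by rw [conj_mul, ht2, mul_one, mul_inv_cancel])
          (fun e => ht1 (conj_eq_one_iff.1 e))
        obtain ⟨B, hB⟩ := exists_conj_up_one a2 a1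
        obtain ⟨B', hB'⟩ := exists_conj_up_one b2 b1
        have hS : τ.St (τ.φ h B' * g * (τ.φ h B)⁻¹) := by
          refine hM _ (M.mul_mem (M.mul_mem (hφM B') g.2) (M.inv_mem (hφM B))) 1 one_ne_zero
            (mul_inv_eq_iff_eq_mul.1 ?_)
          have e1 : (τ.φ h B)⁻¹ * D.y₂ 1 * τ.φ h B = t := by
            rw [← hA, ← τ.φ_up h 1, ← hB, map_mul, map_mul, map_inv]; group
          calc τ.φ h B' * g * (τ.φ h B)⁻¹ * D.y₂ 1 * (τ.φ h B' * g * (τ.φ h B)⁻¹)⁻¹
              = τ.φ h B' * (g * ((τ.φ h B)⁻¹ * D.y₂ 1 * τ.φ h B) * (g : G)⁻¹) * (τ.φ h B')⁻¹ := by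
                group
            _ = D.y₂ 1 := by rw [e1, ← hA', ← map_inv, ← map_mul, ← map_mul, hB', τ.φ_up]
        have := N₁.mul_mem (N₁.mul_mem (N₁.inv_mem (hφN B')) (Tor.St.mem_normalizer τ hS h).1) (hφN B)
        rw [show (τ.φ h B')⁻¹ * (τ.φ h B' * g * (τ.φ h B)⁻¹) * τ.φ h B = g by group] at this
        exact this
    have hsol : Group.IsSolvable H := by
      refine Bender.solvable_of_stronglyEmbedded Bender.rankOneHalf hse ?_
      obtain ⟨ω, hω⟩ := exists_unit_ne_one (F := F) h.hq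
      refine ⟨⟨D.y₂ 1, hy.1⟩, ⟨D.y₂ ω, τ.φ_up h ω ▸ hφM _⟩, ?_, ?_, ?_, ?_, ?_, ?_⟩
      · exact fun e => hy1 (congrArg (fun y : M => (y : G)) e)
      · exact fun e => ω.ne_zero (D.y₂_inj ((congrArg (fun y : M => (y : G)) e).trans D.y₂_zero.symm))
      · exact fun e => hω (Units.ext (D.y₂_inj (congrArg (fun y : M => (y : G)) e)).symm)
      · exact Subtype.ext (D.P₂.el_sq _)
      · exact Subtype.ext (D.P₂.el_sq _)
      · refine Subtype.ext ?_
        show D.y₂ 1 * D.y₂ ω = D.y₂ ω * D.y₂ 1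
        rw [D.y₂_add, D.y₂_add, add_comm]
    refine not_isSolvable_SL2 (F := F) h.hq ?_
    let ψ : SL2F →* H :=
      ((τ.φ h).codRestrict M hφM).codRestrict H fun A => mem_subgroupOf.2 (hφN A)
    refine Group.isSolvable_of_ker_le_range (1 : PUnit.{1} →* SL2F) ψ fun x hx => ?_
    refine ⟨1, ?_⟩
    rw [MonoidHom.one_apply]
    exact (τ.φ_injective h ((congrArg (fun y : H => ((y : M) : G)) hx).trans (map_one _).symm)).symm
  exact ⟨hall, fun x hx => hinv x ⟨hx, hall hx⟩⟩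

theorem Y_sq (t : F) : τ.Y h t * τ.Y h t = 1 := by
  have h0 : τ.Y h 0 = 1 := by
    have := τ.Y_add h 0 0
    rw [add_zero] at this
    exact mul_eq_left.1 this
  rw [τ.Y_add, CharTwo.add_self_eq_zero, h0]

theorem inT_φ_dg (a : Fˣ) :
    τ.InT (τ.φ h (dg a)) ∧ D.Diag (τ.φ h (dg a)) (a : F)⁻¹ ((a : F) * a) := by
  have ha := a.ne_zero
  have hd : D.Diag (τ.φ h (dg a)) (a : F)⁻¹ ((a : F) * a) := by
    refine D.diag_of (inv_ne_zero ha) (mul_ne_zero ha ha) (fun k => ?_) (fun s => ?_) fun t => ?_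
    · rw [Data.z, τ.φ_act, dg_mulVec, Data.z]
      congr 1
      ext i
      fin_cases i <;> simp [ha]
    · rw [Data.y₁, τ.φ_act, dg_mulVec, Data.y₁]
      simp
    · rw [← τ.φ_up h t, ← τ.φ_up h, ← map_inv, ← map_mul, ← map_mul, dg_up, mul_inv_cancel_right]
  exact ⟨τ.inT_of h hd (Or.inl (τ.φ_comm h _).symm), hd⟩

/-- `Y(t) = a₋α(p t)` for some `p`. -/
theorem exists_Y_eq (hq8 : 8 ≤ Fintype.card F) :
    ∃ p : F, p ≠ 0 ∧ ∀ t, τ.Y h t = τ.a10 h (p * t) := by
  obtain ⟨M, hMC, hMn, hφM, hTM, hM⟩ := τ.exists_M h hq8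
  obtain ⟨-, hinv⟩ := τ.mem_normalizer_L_of_mem_M h hq8 hMC hφM hTM hM
  have hρ := τ.ρ_ne_zero
  have hne : (1 : F) + τ.ρ⁻¹ ≠ 0 := fun e => τ.ne (inv_eq_one.1 (CharTwo.add_eq_zero.1 e).symm)
  have hYM : ∀ t, τ.Y h t ∈ M := by
    intro t
    obtain ⟨t', rfl⟩ : ∃ t', (1 + τ.ρ⁻¹) * t' = t := ⟨t / (1 + τ.ρ⁻¹), mul_div_cancel₀ t hne⟩
    have hYC : τ.Y h t' ∈ centralizer ({τ.la} : Set G) :=
      mem_centralizer_singleton_iff.2 (τ.Y_commute h t').symm
    have hlb := hTM _ τ.inT_lb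
    have e : τ.Y h ((1 + τ.ρ⁻¹) * t') =
        τ.lb * (τ.Y h t' * τ.lb⁻¹ * (τ.Y h t')⁻¹) := by
      rw [inv_eq_of_mul_eq_one_right (τ.Y_sq h t'),
        show τ.lb * (τ.Y h t' * τ.lb⁻¹ * τ.Y h t') = τ.lb * τ.Y h t' * τ.lb⁻¹ * τ.Y h t' by group,
        τ.Y_conj h τ.inT_lb τ.db, τ.Y_add]
      congr 1
      ring
    rw [e]
    exact M.mul_mem hlb (hMn _ hYC _ (M.inv_mem hlb))
  have hex : ∀ t, ∃ w, τ.Y h t = τ.a10 h w := by
    intro t
    obtain ⟨A, hA⟩ := hinv _ (hYM t) (τ.Y_sq h t)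
    obtain ⟨ω, hω⟩ := exists_unit_ne_one (F := F) h.hq
    obtain ⟨hTω, hdω⟩ := τ.inT_φ_dg h ω
    have hconj := τ.Y_conj h hTω hdω t
    rw [← hA, ← map_inv, ← map_mul, ← map_mul] at hconj
    have hcom : A * (dg ω * A * (dg ω)⁻¹) = dg ω * A * (dg ω)⁻¹ * A := τ.φ_injective h (by
      rw [map_mul, map_mul (τ.φ h) _ A, hconj, hA, τ.Y_add, τ.Y_add, add_comm])
    have hA2 : A * A = 1 := τ.φ_injective h (by rw [map_mul, hA, τ.Y_sq, map_one])
    have hdi : (dg ω : SL2F)⁻¹ = dg ω⁻¹ := by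
      refine inv_eq_of_mul_eq_one_right ?_
      rw [dg_mul, mul_inv_cancel, dg_one]
    rw [hdi] at hcom
    have h00 := congrFun (congrFun (congrArg Subtype.val hcom) 0) 0
    simp [dg_val, Matrix.mul_apply, Matrix.vecMul, dotProduct, Fin.sum_univ_two] at h00
    have hA2' : A.1 * A.1 = 1 := congrArg Subtype.val hA2
    have e00 := congrFun (congrFun hA2' 0) 0
    have e11 := congrFun (congrFun hA2' 1) 1
    simp [Matrix.mul_apply, Fin.sum_univ_two] at e00 e11
    have hrs : A.1 0 1 * A.1 1 0 = 0 := by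
      have hω4 : ((ω : F) * ω) * ((ω : F) * ω) ≠ 1 := fun e => hω (Units.ext (by
        simpa using eq_of_pow_two_eq_one (n := 2) (a := (ω : F)) (by
          rw [show (2 : ℕ) ^ 2 = 4 from rfl]; linear_combination e)))
      have hw := ω.ne_zero
      field_simp at h00
      refine (mul_eq_zero.1 (show A.1 0 1 * A.1 1 0 * ((ω : F) * ω * ((ω : F) * ω) - 1) = 0 from
        ?_)).resolve_right (sub_ne_zero.2 hω4)
      first
        | linear_combination h00
        | linear_combination -h00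
    have h10' : A.1 1 0 * A.1 0 1 = 0 := by rw [mul_comm]; exact hrs
    rw [hrs, add_zero] at e00
    rw [h10', zero_add] at e11
    have d00 : A.1 0 0 = 1 := eq_of_pow_two_eq_one (n := 1) (by rw [pow_one, sq]; exact e00)
    have d11 : A.1 1 1 = 1 := eq_of_pow_two_eq_one (n := 1) (by rw [pow_one, sq]; exact e11)
    rcases mul_eq_zero.1 hrs with h01 | h10
    · refine ⟨A.1 1 0, ?_⟩
      rw [← hA, a10]
      congr 1
      refine Subtype.ext ?_
      ext i j; fin_cases i <;> fin_cases j <;> simp [lo_val, d00, d11, h01]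
    · -- `Y(t)` would lie in the root group of `α`
      have hAu : A = up (A.1 0 1) := by
        refine Subtype.ext ?_
        ext i j; fin_cases i <;> fin_cases j <;> simp [up_val, d00, d11, h10]
      rw [hAu, τ.φ_up] at hA
      set r := A.1 0 1
      have e1 : τ.n₁ h * τ.a21 h t * τ.n₁ h = D.z r := by
        rw [← τ.n₂_conj h (τ.n₁ h * τ.a21 h t * τ.n₁ h)]
        show τ.n₂ h * τ.Y h t * τ.n₂ h = _
        rw [← hA, τ.conj_n₂_y₂]
      have e2 : τ.a21 h t = D.y₁ r := by rw [← τ.n₁_conj h (τ.a21 h t), e1, τ.conj_n₁_z]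
      have e3 : (lo t : SL2F) = up r := τ.swap.φ_injective h.swap (e2.trans (τ.swap.φ_up h.swap r).symm)
      have hr : r = 0 := by
        simpa [lo_val, up_val] using (congrFun (congrFun (congrArg Subtype.val e3) 0) 1).symm
      refine ⟨0, ?_⟩
      rw [← hA, hr, D.y₂_zero, a10, show (lo (0 : F) : SL2F) = 1 from Subtype.ext (by
        ext i j; fin_cases i <;> fin_cases j <;> simp [lo_val]), map_one]
  choose m hm using hex
  have hinj : ∀ {a b}, τ.a10 h a = τ.a10 h b → a = b := fun e => by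
    simpa [lo_val] using congrFun (congrFun (congrArg Subtype.val (τ.φ_injective h e)) 1) 0
  let mm : F →+ F := AddMonoidHom.mk' m fun s t => hinj (by
    rw [← hm, ← τ.Y_add, hm, hm, a10, a10, a10, ← map_mul, lo_mul])
  have hlin : ∀ t, mm (τ.ρ * t) = τ.ρ * mm t := by
    intro t
    have e : ∀ u, m (τ.ρ⁻¹ * u) = τ.ρ⁻¹ * m u := fun u => hinj (by
      rw [← hm, ← τ.Y_conj h τ.inT_lb τ.db, hm, τ.conj_a10 h τ.db τ.inT_lb.2.1])
    have := e (τ.ρ * t)
    rw [inv_mul_cancel_left₀ hρ] at this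
    show m (τ.ρ * t) = τ.ρ * m t
    rw [this, mul_inv_cancel_left₀ hρ]
  have hp := linear_of_comm τ.gen mm hlin
  refine ⟨m 1, fun h0 => ?_, fun t => by rw [hm]; exact congrArg _ (hp t)⟩
  have h1 : τ.Y h 1 = τ.Y h 0 := by
    rw [hm 1, hm 0, h0, show m 0 = 0 from map_zero mm]
  exact one_ne_zero (τ.Y_inj h h1)

end Tor

end Cfsg.Agent.TwoNatural
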