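import Cfsg.Agent.Lib.TwoNatural.Setup
import Cfsg.Agent.Lib.Cores.Basic

/-!
# Two natural parabolics: the normalisers are `V_i`-constrained (S3091)

* `Hyp`: the hypotheses; `Hyp.swap`
* `exists_z_mul_mem_centralizer`: what centralises `J` and normalises `L₁` centralises it up to `Z`
* `centralizer_V₁`: `C_G(V₁) = V₁`; `mem_J_of_trivial`
-/

set_option autoImplicit false
set_option linter.unusedSectionVars false

open Matrix Cfsg.Agent.SL2Module Subgroup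

namespace Cfsg.Agent.TwoNatural

variable {F : Type*} [Field F] [Fintype F] [CharP F 2] {G : Type*} [Group G] [Finite G]

local notation "SL2F" => Matrix.SpecialLinearGroup (Fin 2) F

theorem mem_normalizer_of {H : Subgroup G} {x : G} (h : ∀ v ∈ H, x * v * x⁻¹ ∈ H) :
    x ∈ normalizer (H : Set G) := Subgroup.mem_normalizer_fintype h

theorem conj_mem_of {H : Subgroup G} {x v : G} (hx : x ∈ normalizer (H : Set G)) (hv : v ∈ H) :
    x * v * x⁻¹ ∈ H := (mem_normalizer_iff.1 hx v).1 hv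

theorem conj_mem_inv {H : Subgroup G} {x v : G} (hx : x ∈ normalizer (H : Set G)) (hv : v ∈ H) :
    x⁻¹ * v * x ∈ H := by simpa using conj_mem_of (inv_mem hx) hv

theorem eq_of_pow_two_eq_one {a : F} {n : ℕ} (h : a ^ 2 ^ n = 1) : a = 1 := by
  induction n with
  | zero => simpa using h
  | succ m ih =>
    refine ih ?_
    rw [pow_succ, pow_mul] at h
    have h2 : (a ^ 2 ^ m - 1) ^ 2 = 0 := by
      rw [sub_eq_add_neg, CharTwo.neg_eq, add_sq, h, one_pow]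
      linear_combination (norm := ring_nf) (CharTwo.two_eq_zero (R := F)) * (1 + a ^ 2 ^ m)
    exact sub_eq_zero.1 (pow_eq_zero_iff two_ne_zero |>.1 h2)

theorem exists_unit_ne_one (hq : 4 ≤ Fintype.card F) : ∃ a : Fˣ, a ≠ 1 := by
  classical
  have : 1 < Fintype.card Fˣ := by rw [Fintype.card_units]; omega
  exact Fintype.exists_ne_of_one_lt_card this 1

theorem wm_mulVec (w : Fin 2 → F) : (wm : SL2F).1 *ᵥ w = ![w 1, w 0] := by
  ext i; fin_cases i <;> simp [wm_val, Matrix.mulVec, dotProduct, Fin.sum_univ_two]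

namespace Data

variable (D : Data F G)

theorem exists_torus (a : Fˣ) : ∃ l, ∃ h : l ∈ D.P₁.L, D.P₁.π ⟨l, h⟩ = dg a := by
  obtain ⟨⟨l, h⟩, e⟩ := D.P₁.surj (dg a); exact ⟨l, h, e⟩

theorem exists_weyl : ∃ l, ∃ h : l ∈ D.P₁.L, D.P₁.π ⟨l, h⟩ = wm := by
  obtain ⟨⟨l, h⟩, e⟩ := D.P₁.surj (wm); exact ⟨l, h, e⟩

theorem π_mul {l m : G} (hl : l ∈ D.P₁.L) (hm : m ∈ D.P₁.L) :
    D.P₁.π ⟨l * m, D.P₁.L.mul_mem hl hm⟩ = D.P₁.π ⟨l, hl⟩ * D.P₁.π ⟨m, hm⟩ :=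
  map_mul D.P₁.π ⟨l, hl⟩ ⟨m, hm⟩

theorem π_conj {l m : G} (hl : l ∈ D.P₁.L) (hm : m ∈ D.P₁.L) :
    D.P₁.π ⟨l * m * l⁻¹, D.P₁.L.mul_mem (D.P₁.L.mul_mem hl hm) (D.P₁.L.inv_mem hl)⟩ =
      D.P₁.π ⟨l, hl⟩ * D.P₁.π ⟨m, hm⟩ * (D.P₁.π ⟨l, hl⟩)⁻¹ := by
  rw [← map_mul, ← map_inv, ← map_mul]; rfl

theorem dg_conj_up (a : Fˣ) (t : F) : dg a * up t * (dg a)⁻¹ = (up ((a : F) * a * t) : SL2F) := by
  rw [dg_up, mul_inv_cancel_right]

theorem torus_normalizes {l : G} {hl : l ∈ D.P₁.L} {a : Fˣ} (e : D.P₁.π ⟨l, hl⟩ = dg a) :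
    l ∈ normalizer (D.J : Set G) := by
  refine mem_normalizer_of fun v hv => ?_
  obtain ⟨t, ht⟩ := D.π_of_mem_J hv
  refine D.mem_J_of_π (D.P₁.L.mul_mem (D.P₁.L.mul_mem hl (D.J_le_L₁ hv)) (D.P₁.L.inv_mem hl))
    (t := (a : F) * a * t) ?_
  rw [D.π_conj hl (D.J_le_L₁ hv), e, ht, dg_conj_up]

theorem L₁_le_sup {w : G} {hw : w ∈ D.P₁.L} (e : D.P₁.π ⟨w, hw⟩ = wm) :
    D.P₁.L ≤ D.J ⊔ zpowers w := by
  intro l hl
  set K := D.J ⊔ zpowers w
  have hmap : (K.subgroupOf D.P₁.L).map D.P₁.π = ⊤ := by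
    rw [eq_top_iff, ← closure_eq_top, closure_le]
    rintro _ (⟨t, rfl⟩ | rfl)
    · exact ⟨⟨D.y₂ t, D.y₂_mem_L t⟩, mem_sup_left (mem_sup_right (D.P₂.el_mem _)), D.π_y₂ t⟩
    · exact ⟨⟨w, hw⟩, mem_sup_right (mem_zpowers w), e⟩
  obtain ⟨m, hm, hml⟩ := (hmap ▸ mem_top (D.P₁.π ⟨l, hl⟩) :
    D.P₁.π ⟨l, hl⟩ ∈ (K.subgroupOf D.P₁.L).map D.P₁.π)
  have h1 := (D.P₁.π_eq_iff m ⟨l, hl⟩).1 hml
  have : l = (m : G) * ((m : G)⁻¹ * l) := by group
  rw [this]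
  exact K.mul_mem hm (mem_sup_left (mem_sup_left h1))

theorem mem_centralizer_sup {w x : G} {hw : w ∈ D.P₁.L} (e : D.P₁.π ⟨w, hw⟩ = wm)
    (hJ : x ∈ centralizer (D.J : Set G)) (hxw : x * w = w * x) :
    x ∈ centralizer (D.P₁.L : Set G) := by
  have : D.J ⊔ zpowers w ≤ centralizer ({x} : Set G) := by
    refine sup_le (fun j hj => ?_) (zpowers_le.2 ?_)
    · exact mem_centralizer_singleton_iff.2 (mem_centralizer_iff.1 hJ j hj)
    · exact mem_centralizer_singleton_iff.2 hxw.symm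
  refine mem_centralizer_iff.2 fun l hl => ?_
  exact mem_centralizer_singleton_iff.1 (this (D.L₁_le_sup e hl))

theorem conj_z {l : G} (hl : l ∈ D.P₁.L) {a : Fˣ} (e : D.P₁.π ⟨l, hl⟩ = dg a) (c : F) :
    l * D.z c * l⁻¹ = D.z ((a : F) * c) := by
  rw [z, D.P₁.act ⟨l, hl⟩, e, dg_mulVec, z]; simp

theorem z_mem_J (k : F) : D.z k ∈ D.J := D.z_eq k ▸ D.jel_mem k 0 0

theorem z_mem_center (k : F) : D.z k ∈ centralizer (D.J : Set G) := by
  refine mem_centralizer_iff.2 fun j hj => ?_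
  obtain ⟨a, s, t, rfl⟩ := D.mem_J.1 hj
  rw [D.z_eq, D.jel_mul, D.jel_mul]; simp [add_comm]

theorem z_inv (k : F) : (D.z k)⁻¹ = D.z k := D.P₁.el_inv _

/-- What centralises `J` and normalises `L₁` centralises `L₁` up to an element of `Z`. -/
theorem exists_z_mul_mem_centralizer (hq : 4 ≤ Fintype.card F) {x : G}
    (hx : x ∈ normalizer (D.P₁.L : Set G)) (hJ : x ∈ centralizer (D.J : Set G)) :
    ∃ k, D.z k * x ∈ centralizer (D.P₁.L : Set G) := by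
  obtain ⟨a, ha⟩ := exists_unit_ne_one (F := F) hq
  obtain ⟨l, hl, el⟩ := D.exists_torus a
  obtain ⟨w, hw, ew⟩ := D.exists_weyl
  have key : ∀ y ∈ normalizer (D.P₁.L : Set G), y ∈ centralizer (D.J : Set G) →
      ∀ m, m ∈ D.P₁.L → ∃ u, D.P₁.el u = m⁻¹ * (y * m * y⁻¹) := by
    intro y hy hyJ m hm
    refine D.P₁.el_surj _ (D.P₁.mem_V_of_commute
      (D.P₁.L.mul_mem (D.P₁.L.inv_mem hm) (conj_mem_of hy hm)) fun v hv => ?_)
    have hc : ∀ j ∈ D.P₁.V, y * j = j * y := fun j hj =>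
      (mem_centralizer_iff.1 hyJ j (mem_sup_left hj)).symm
    have hc' : y⁻¹ * v * y = v := by rw [mul_assoc, ← hc v hv, inv_mul_cancel_left]
    have h1 := hc _ (D.P₁.conj_mem hm hv)
    calc m⁻¹ * (y * m * y⁻¹) * v
        = m⁻¹ * (y * (m * (y⁻¹ * v * y) * m⁻¹)) * m * y⁻¹ := by group
      _ = m⁻¹ * (y * (m * v * m⁻¹)) * m * y⁻¹ := by rw [hc']
      _ = v * (m⁻¹ * (y * m * y⁻¹)) := by rw [h1]; group
  obtain ⟨u, hu⟩ := key x hx hJ l hl
  have hlx : x * l * x⁻¹ = l * D.P₁.el u := by rw [hu]; group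
  have hu1 : u 1 = 0 := by
    have hc : ∀ j ∈ D.J, x * j * x⁻¹ = j := fun j hj => by
      rw [← mem_centralizer_iff.1 hJ j hj, mul_inv_cancel_right]
    have hj : D.y₂ 1 ∈ D.J := mem_sup_right (D.P₂.el_mem _)
    have h1 : x * (l * D.y₂ 1 * l⁻¹) * x⁻¹ = l * D.y₂ 1 * l⁻¹ :=
      hc _ (conj_mem_of (D.torus_normalizes el) hj)
    rw [show x * (l * D.y₂ 1 * l⁻¹) * x⁻¹ =
      x * l * x⁻¹ * (x * D.y₂ 1 * x⁻¹) * (x * l * x⁻¹)⁻¹ by group, hc _ hj, hlx] at h1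
    have h2 : D.P₁.el u * D.y₂ 1 * (D.P₁.el u)⁻¹ = D.y₂ 1 := by
      refine mul_left_cancel (a := l) (mul_right_cancel (b := l⁻¹) ?_)
      rw [← h1]; group
    have h3 : D.y₂ 1 * D.P₁.el u * (D.y₂ 1)⁻¹ = D.P₁.el u :=
      mul_inv_eq_iff_eq_mul.2 (mul_inv_eq_iff_eq_mul.1 h2).symm
    rw [vec2_eta u, D.conj_y₂] at h3
    simpa using congrFun (D.P₁.el_inj h3) 0
  have hne : ((a⁻¹ : Fˣ) : F) + 1 ≠ 0 := fun h => ha (inv_eq_one.1 (Units.ext (by
    have := eq_neg_of_add_eq_zero_left h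
    rwa [CharTwo.neg_eq] at this)))
  set k := u 0 / (((a⁻¹ : Fˣ) : F) + 1) with hk
  have hxl : D.z k * x * l = l * (D.z k * x) := by
    have e1 : D.z k * l = l * D.z (((a⁻¹ : Fˣ) : F) * k) := by
      have := D.conj_z hl el (((a⁻¹ : Fˣ) : F) * k)
      rw [← mul_assoc, ← Units.val_mul, mul_inv_cancel, Units.val_one, one_mul] at this
      exact (mul_inv_eq_iff_eq_mul.1 this).symm
    have e2 : x * l = l * D.z (u 0) * x := by
      rw [mul_inv_eq_iff_eq_mul.1 hlx, vec2_eta u, hu1]; rfl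
    rw [mul_assoc, e2, ← mul_assoc, ← mul_assoc, e1, mul_assoc l, D.z_add, ← mul_assoc l]
    congr 3
    rw [hk]
    field_simp
    linear_combination (norm := ring_nf) (CharTwo.two_eq_zero (R := F)) * u 0 * 0
    simp [CharTwo.two_eq_zero]
  set x' := D.z k * x with hx'
  have hx'J : x' ∈ centralizer (D.J : Set G) := mul_mem (D.z_mem_center k) hJ
  have hx'N : x' ∈ normalizer (D.P₁.L : Set G) :=
    mul_mem (Subgroup.le_normalizer (D.J_le_L₁ (D.z_mem_J k))) hx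
  obtain ⟨v, hv⟩ := key x' hx'N hx'J w hw
  have hr : w * l * w⁻¹ * l ∈ D.P₁.V := by
    refine (D.P₁.ker ⟨_, D.P₁.L.mul_mem (D.P₁.L.mul_mem (D.P₁.L.mul_mem hw hl)
      (D.P₁.L.inv_mem hw)) hl⟩).1 ?_
    rw [D.π_mul (D.P₁.L.mul_mem (D.P₁.L.mul_mem hw hl) (D.P₁.L.inv_mem hw)) hl, D.π_conj hw hl,
      ew, el, wm_dg, mul_inv_cancel_right, dg_mul, inv_mul_cancel, dg_one]
  have hwx : x' * w * x'⁻¹ = w * D.P₁.el v := by rw [hv]; group
  have hlx' : x' * l * x'⁻¹ = l := by rw [hxl, mul_inv_cancel_right]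
  have hvl : D.P₁.el v * l * (D.P₁.el v)⁻¹ = l := by
    have h1 : x' * (w * l * w⁻¹ * l) * x'⁻¹ = w * l * w⁻¹ * l := by
      rw [← mem_centralizer_iff.1 hx'J _ (mem_sup_left hr), mul_inv_cancel_right]
    rw [show x' * (w * l * w⁻¹ * l) * x'⁻¹ =
      (x' * w * x'⁻¹) * (x' * l * x'⁻¹) * (x' * w * x'⁻¹)⁻¹ * (x' * l * x'⁻¹) by group, hwx,
      hlx'] at h1
    refine mul_left_cancel (a := w) (mul_right_cancel (b := w⁻¹ * l) ?_)
    rw [← mul_assoc (w * l), ← h1]; group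
  have hv0 : v = 0 := by
    have h2 : l * D.P₁.el v * l⁻¹ = D.P₁.el v :=
      mul_inv_eq_iff_eq_mul.2 (mul_inv_eq_iff_eq_mul.1 hvl).symm
    rw [D.P₁.act ⟨l, hl⟩, el, dg_mulVec] at h2
    have h3 := D.P₁.el_inj h2
    ext i
    fin_cases i
    · have := congrFun h3 0
      by_contra h0
      exact ha (Units.ext (mul_eq_right₀ h0 |>.1 (by simpa using this)))
    · have := congrFun h3 1
      by_contra h0
      refine ha (inv_eq_one.1 (Units.ext (mul_eq_right₀ h0 |>.1 ?_)))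
      simpa using this
  refine ⟨k, D.mem_centralizer_sup ew hx'J ?_⟩
  rw [hv0, D.P₁.el_zero, mul_one] at hwx
  exact mul_inv_eq_iff_eq_mul.1 hwx

/-- A `2`-subgroup of `L₁` containing `J` is `J`. -/
theorem eq_J_of_le_L₁ {Q : Subgroup G} (hQ : IsPGroup 2 Q) (hJQ : D.J ≤ Q) (hQL : Q ≤ D.P₁.L) :
    Q = D.J := by
  haveI : Fact (Nat.Prime 2) := ⟨Nat.prime_two⟩
  refine le_antisymm ?_ hJQ
  by_contra hne
  haveI := hQ.isNilpotent
  have hlt : D.J.subgroupOf Q < ⊤ := lt_top_iff_ne_top.2 fun h => hne (subgroupOf_eq_top.1 h)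
  obtain ⟨⟨x, hxQ⟩, hxN, hxJ⟩ :=
    SetLike.exists_of_lt (Group.normalizerCondition_of_isNilpotent _ hlt)
  refine hxJ (mem_subgroupOf.2 ?_)
  have hxn : ∀ j ∈ D.J, x * j * x⁻¹ ∈ D.J := fun j hj =>
    (mem_normalizer_iff.1 hxN ⟨j, hJQ hj⟩).1 hj
  set M := D.P₁.π ⟨x, hQL hxQ⟩ with hM
  obtain ⟨t, ht⟩ := D.π_of_mem_J (hxn _ (mem_sup_right (D.P₂.el_mem ![0, 1])))
  rw [D.π_conj (hQL hxQ) (D.J_le_L₁ (mem_sup_right (D.P₂.el_mem _))),
    show (⟨D.P₂.el ![0, 1], _⟩ : D.P₁.L) = ⟨D.y₂ 1, D.y₂_mem_L 1⟩ from rfl, D.π_y₂, ← hM,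
    mul_inv_eq_iff_eq_mul] at ht
  have h10 : M.1 1 0 = 0 := by
    have := congrFun (congrFun (congrArg Subtype.val ht) 1) 1
    simpa [up_val, Matrix.mul_apply, Fin.sum_univ_two] using this
  have h00 : ∀ n : ℕ, (M.1 ^ n) 0 0 = M.1 0 0 ^ n ∧ (M.1 ^ n) 1 0 = 0 := by
    intro n
    induction n with
    | zero => simp
    | succ n ih =>
      constructor <;> simp [pow_succ, Matrix.mul_apply, Fin.sum_univ_two, ih.1, ih.2, h10]
  obtain ⟨n, hn⟩ := hQ ⟨x, hxQ⟩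
  have hMn : M ^ 2 ^ n = 1 := by
    rw [hM, ← map_pow, ← map_one D.P₁.π]
    congr 1
    exact Subtype.ext (congrArg (fun y : Q => (y : G)) hn)
  have ha : M.1 0 0 = 1 := eq_of_pow_two_eq_one (n := n) (by
    rw [← (h00 _).1, ← Matrix.SpecialLinearGroup.coe_pow, hMn]; simp)
  have hd : M.1 1 1 = 1 := by
    have := M.2
    rw [Matrix.det_fin_two, h10, ha] at this
    simpa using this
  refine D.mem_J_of_π (hQL hxQ) (t := M.1 0 1) (Subtype.ext ?_)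
  ext i j; fin_cases i <;> fin_cases j <;> simp [up_val, ha, hd, h10, ← hM]

theorem mem_V₁_or_le {A : Subgroup G} (hA : A ≤ D.J) (h2 : ∀ a ∈ A, a * a = 1) :
    A ≤ D.P₁.V ∨ A ≤ D.P₂.V := by
  by_contra h
  obtain ⟨h1, h2'⟩ := not_or.1 h
  obtain ⟨a, ha, ha'⟩ := SetLike.not_le_iff_exists.1 h1
  obtain ⟨b, hb, hb'⟩ := SetLike.not_le_iff_exists.1 h2'
  have haV : a ∈ D.P₂.V := (D.mem_V_or (hA ha) (h2 a ha)).resolve_left ha'
  have hbV : b ∈ D.P₁.V := (D.mem_V_or (hA hb) (h2 b hb)).resolve_right hb'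
  rcases D.mem_V_or (hA (A.mul_mem ha hb)) (h2 _ (A.mul_mem ha hb)) with h | h
  · exact ha' (by simpa using D.P₁.V.mul_mem h (D.P₁.V.inv_mem hbV))
  · exact hb' (by simpa using D.P₂.V.mul_mem (D.P₂.V.inv_mem haV) h)

/-- An element normalising `J` fixes or exchanges `V₁` and `V₂`. -/
theorem normalizer_J_cases {x : G} (hx : x ∈ normalizer (D.J : Set G)) :
    (x ∈ normalizer (D.P₁.V : Set G) ∧ x ∈ normalizer (D.P₂.V : Set G)) ∨
      ((∀ v, v ∈ D.P₁.V ↔ x * v * x⁻¹ ∈ D.P₂.V) ∧ ∀ v, v ∈ D.P₂.V ↔ x * v * x⁻¹ ∈ D.P₁.V) := by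
  set f := (MulAut.conj x).toMonoidHom with hf
  have hinj : Function.Injective f := (MulAut.conj x).injective
  have hmem : ∀ {H : Subgroup G} {v : G}, x * v * x⁻¹ ∈ H.map f ↔ v ∈ H := fun {H v} =>
    Subgroup.mem_map_iff_mem hinj
  have hor : ∀ P : Par F G, P.V ≤ D.J → P.V.map f = D.P₁.V ∨ P.V.map f = D.P₂.V := by
    intro P hP
    have hle : P.V.map f ≤ D.J := by
      rintro _ ⟨v, hv, rfl⟩; exact conj_mem_of hx (hP hv)
    have hsq : ∀ a ∈ P.V.map f, a * a = 1 := by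
      rintro _ ⟨v, hv, rfl⟩; rw [← map_mul, P.sqV hv, map_one]
    have hc : Nat.card (P.V.map f) = Fintype.card F ^ 2 := by
      rw [Subgroup.card_map_of_injective hinj, P.card_V]
    rcases D.mem_V₁_or_le hle hsq with h | h
    · exact Or.inl (Subgroup.eq_of_le_of_card_ge h (by rw [hc, D.P₁.card_V]))
    · exact Or.inr (Subgroup.eq_of_le_of_card_ge h (by rw [hc, D.P₂.card_V]))
  have hne : D.P₁.V ≠ D.P₂.V := fun e => by
    have : D.jel 0 1 0 ∈ D.P₂.V := e ▸ D.jel_mem_V₁.2 rfl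
    exact one_ne_zero (D.jel_mem_V₂.1 this)
  rcases hor D.P₁ le_sup_left, hor D.P₂ le_sup_right with ⟨h1 | h1, h2 | h2⟩
  · exact absurd (Subgroup.map_injective hinj (h1.trans h2.symm)) hne
  · exact Or.inl ⟨mem_normalizer_iff.2 fun v => by rw [← hmem (v := v) (H := D.P₁.V), h1],
      mem_normalizer_iff.2 fun v => by rw [← hmem (v := v) (H := D.P₂.V), h2]⟩
  · exact Or.inr ⟨fun v => by rw [← hmem (v := v) (H := D.P₁.V), h1],
      fun v => by rw [← hmem (v := v) (H := D.P₂.V), h2]⟩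
  · exact absurd (Subgroup.map_injective hinj (h1.trans h2.symm)) hne

theorem normalizes_V₂ {x : G} (hx : x ∈ normalizer (D.J : Set G))
    (h1 : x ∈ normalizer (D.P₁.V : Set G)) : x ∈ normalizer (D.P₂.V : Set G) := by
  rcases D.normalizer_J_cases hx with h | h
  · exact h.2
  · exfalso
    have hv : D.jel 0 1 0 ∈ D.P₁.V := D.jel_mem_V₁.2 rfl
    have h3 : x * D.jel 0 1 0 * x⁻¹ ∈ D.P₁.V := conj_mem_of h1 hv
    have h4 : D.jel 0 1 0 ∈ D.P₂.V := (h.2 _).2 h3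
    exact one_ne_zero (D.jel_mem_V₂.1 h4)

end Data

/-- The hypotheses. -/
structure Hyp {F : Type*} [Field F] [Fintype F] [CharP F 2] {G : Type*} [Group G]
    (D : Data F G) : Prop where
  hq : 4 ≤ Fintype.card F
  char2 : Cfsg.IsCharacteristicTwoType G
  nor₁ : normalizer (D.P₁.L : Set G) = normalizer (D.P₁.V : Set G)
  nor₂ : normalizer (D.P₂.L : Set G) = normalizer (D.P₂.V : Set G)
  exT : ∃ T : Subgroup G, IsPGroup 2 T ∧ D.J ≤ T ∧ T ≤ normalizer (D.P₁.L : Set G) ∧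
    (∀ Q : Subgroup G, IsPGroup 2 Q → T ≤ Q → Q ≤ normalizer (D.P₁.L : Set G) → Q = T) ∧
    ∀ R : Subgroup G, IsPGroup 2 R → R ≤ T ⊔ D.P₁.L ⊔ D.P₂.L →
      T ⊔ D.P₁.L ⊔ D.P₂.L ≤ normalizer (R : Set G) → R = ⊥

namespace Hyp

variable {D : Data F G} (h : Hyp D)
include h

omit h in
theorem conj_J_mem {T : Subgroup G} (hT : IsPGroup 2 T) (hJT : D.J ≤ T)
    (hTN : T ≤ normalizer (D.P₁.L : Set G)) : T ≤ normalizer (D.J : Set G) := by
  have e : T ⊓ D.P₁.L = D.J := D.eq_J_of_le_L₁ (hT.to_le inf_le_left)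
    (le_inf hJT D.J_le_L₁) inf_le_right
  intro x hx
  refine mem_normalizer_of fun v hv => ?_
  rw [← e] at hv ⊢
  exact ⟨T.mul_mem (T.mul_mem hx hv.1) (T.inv_mem hx), conj_mem_of (hTN hx) hv.2⟩

theorem normalizes_L₂ {x : G} (hxJ : x ∈ normalizer (D.J : Set G))
    (hx : x ∈ normalizer (D.P₁.L : Set G)) : x ∈ normalizer (D.P₂.L : Set G) := by
  rw [h.nor₂]; rw [h.nor₁] at hx
  exact D.normalizes_V₂ hxJ hx

theorem swap : Hyp D.swap := by
  obtain ⟨T, hT, hJT, hTN, hmax, hcore⟩ := h.exT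
  have hTJ := conj_J_mem hT hJT hTN
  refine ⟨h.hq, h.char2, h.nor₂, h.nor₁, T, hT, D.swap_J ▸ hJT,
    fun x hx => h.normalizes_L₂ (hTJ hx) (hTN hx), fun Q hQ hTQ hQN => ?_,
    fun R hR h1 h2 => hcore R hR (by rwa [sup_assoc, sup_comm D.P₁.L, ← sup_assoc])
      (by rwa [sup_assoc, sup_comm D.P₁.L, ← sup_assoc])⟩
  refine hmax Q hQ hTQ fun x hx => ?_
  have hQJ : x ∈ normalizer (D.J : Set G) :=
    D.swap_J ▸ conj_J_mem (D := D.swap) hQ (D.swap_J ▸ hJT.trans hTQ) hQN hx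
  rw [h.nor₁]
  exact D.swap.normalizes_V₂ (D.swap_J.symm ▸ hQJ) (h.nor₂ ▸ hQN hx)

theorem centralizer_J_le {T : Subgroup G} (hT : IsPGroup 2 T) (hJT : D.J ≤ T)
    (hTN : T ≤ normalizer (D.P₁.L : Set G))
    (hcore : ∀ R : Subgroup G, IsPGroup 2 R → R ≤ T ⊔ D.P₁.L ⊔ D.P₂.L →
      T ⊔ D.P₁.L ⊔ D.P₂.L ≤ normalizer (R : Set G) → R = ⊥) :
    ∀ x ∈ T, x ∈ centralizer (D.J : Set G) → x ∈ D.P₁.V ⊓ D.P₂.V := by
  intro x hxT hxJ
  have hTJ := conj_J_mem hT hJT hTN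
  have hTN2 : T ≤ normalizer (D.P₂.L : Set G) := fun y hy => h.normalizes_L₂ (hTJ hy) (hTN hy)
  obtain ⟨k, hk⟩ := D.swap.exists_z_mul_mem_centralizer h.hq (hTN2 hxT) (D.swap_J.symm ▸ hxJ)
  rw [D.swap_z] at hk
  set x' := D.z k * x with hx'
  have hx'T : x' ∈ T := T.mul_mem (hJT (D.z_mem_J k)) hxT
  have hx'J : x' ∈ centralizer (D.J : Set G) := mul_mem (D.z_mem_center k) hxJ
  obtain ⟨c, hc⟩ := D.exists_z_mul_mem_centralizer h.hq (hTN hx'T) hx'J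
  obtain ⟨a, ha⟩ := exists_unit_ne_one (F := F) h.hq
  obtain ⟨l, hl, el⟩ := D.exists_torus a
  have hlJ := D.torus_normalizes el
  have hl2 : l ∈ normalizer (D.P₂.L : Set G) :=
    h.normalizes_L₂ hlJ (Subgroup.le_normalizer hl)
  have h1 : l * x' * l⁻¹ = D.z ((a : F) * c + c) * x' := by
    have e0 : D.z c * x' * l = l * (D.z c * x') := (mem_centralizer_iff.1 hc l hl).symm
    have e1 : x' = D.z c * (D.z c * x') := by
      rw [← mul_assoc, D.z_add, CharTwo.add_self_eq_zero, D.z_zero, one_mul]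
    calc l * x' * l⁻¹ = l * D.z c * l⁻¹ * (l * (D.z c * x') * l⁻¹) := by
          conv_lhs => rw [e1]
          group
      _ = D.z ((a : F) * c) * (D.z c * x') := by
          rw [D.conj_z hl el, ← e0, mul_inv_cancel_right]
      _ = _ := by rw [← mul_assoc, D.z_add]
  have h2 : D.z ((a : F) * c + c) ∈ centralizer (D.P₂.L : Set G) := by
    have hconj : l * x' * l⁻¹ ∈ centralizer (D.P₂.L : Set G) := by
      refine mem_centralizer_iff.2 fun m hm => ?_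
      have := mem_centralizer_iff.1 hk _ (conj_mem_inv hl2 hm)
      calc m * (l * x' * l⁻¹) = l * (l⁻¹ * m * l * x') * l⁻¹ := by group
        _ = l * (x' * (l⁻¹ * m * l)) * l⁻¹ := by rw [this]
        _ = l * x' * l⁻¹ * m := by group
    have := mul_mem hconj (inv_mem hk)
    rwa [h1, mul_inv_cancel_right] at this
  have hc0 : c = 0 := by
    obtain ⟨w, hw, ew⟩ := D.swap.exists_weyl
    have h3 : w * D.z ((a : F) * c + c) * w⁻¹ = D.z ((a : F) * c + c) :=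
      mul_inv_eq_iff_eq_mul.2 (mem_centralizer_iff.1 h2 w hw)
    rw [← D.swap_z, Data.z, D.swap.P₁.act ⟨w, hw⟩, ew] at h3
    have := congrFun (D.swap.P₁.el_inj h3) 0
    simp [wm_val] at this
    rw [← add_one_mul] at this
    refine (mul_eq_zero.1 this.symm).resolve_left fun h0 => ha (Units.ext ?_)
    have := eq_neg_of_add_eq_zero_left h0
    rwa [CharTwo.neg_eq] at this
  rw [hc0, D.z_zero, one_mul] at hc
  set R := T ⊓ centralizer (D.P₁.L : Set G) ⊓ centralizer (D.P₂.L : Set G) with hR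
  have hR1 : R = ⊥ := by
    refine hcore R (hT.to_le (inf_le_left.trans inf_le_left))
      ((inf_le_left.trans inf_le_left).trans (le_sup_left.trans le_sup_left))
      (sup_le (sup_le (fun y hy => mem_normalizer_of fun r hr => ?_) ?_) ?_)
    · refine ⟨⟨T.mul_mem (T.mul_mem hy hr.1.1) (T.inv_mem hy), ?_⟩, ?_⟩
      · refine mem_centralizer_iff.2 fun m hm => ?_
        have := mem_centralizer_iff.1 hr.1.2 _ (conj_mem_inv (hTN hy) hm)
        calc m * (y * r * y⁻¹) = y * (y⁻¹ * m * y * r) * y⁻¹ := by group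
          _ = y * (r * (y⁻¹ * m * y)) * y⁻¹ := by rw [this]
          _ = y * r * y⁻¹ * m := by group
      · refine mem_centralizer_iff.2 fun m hm => ?_
        have := mem_centralizer_iff.1 hr.2 _ (conj_mem_inv (hTN2 hy) hm)
        calc m * (y * r * y⁻¹) = y * (y⁻¹ * m * y * r) * y⁻¹ := by group
          _ = y * (r * (y⁻¹ * m * y)) * y⁻¹ := by rw [this]
          _ = y * r * y⁻¹ * m := by group
    · exact fun y hy => mem_normalizer_of fun r hr => by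
        rw [mem_centralizer_iff.1 hr.1.2 y hy, mul_inv_cancel_right]; exact hr
    · exact fun y hy => mem_normalizer_of fun r hr => by
        rw [mem_centralizer_iff.1 hr.2 y hy, mul_inv_cancel_right]; exact hr
  have : x' = 1 := mem_bot.1 (hR1 ▸ (⟨⟨hx'T, hc⟩, hk⟩ : x' ∈ R))
  rw [hx', mul_eq_one_iff_eq_inv] at this
  refine D.mem_inf.2 ⟨k, ?_⟩
  have h4 := this
  rw [eq_comm, inv_eq_iff_eq_inv] at h4
  rw [h4, D.z_inv]

end Hyp

namespace Data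

variable (D : Data F G)

/-- An element normalising `L₁` that is trivial on `Z` and on `V₁/Z` centralises `V₁` up to `y₂`. -/
theorem exists_y₂_mul_mem_centralizer {x : G} (hxL : x ∈ normalizer (D.P₁.L : Set G))
    (hz : ∀ a, x * D.z a * x⁻¹ = D.z a) (hy : ∀ s, ∃ c, x * D.y₁ s * x⁻¹ = D.z c * D.y₁ s) :
    ∃ k, D.y₂ k * x ∈ centralizer (D.P₁.V : Set G) := by
  choose f hf using hy
  have hel : ∀ a s, x * D.P₁.el ![a, s] * x⁻¹ = D.P₁.el ![a + f s, s] := fun a s => by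
    rw [D.el₁_eq, D.el₁_eq, ← D.z_add, ← conj_mul, hz, hf, mul_assoc]
  have hel' : ∀ a s, x⁻¹ * D.P₁.el ![a, s] * x = D.P₁.el ![a + f s, s] := fun a s => by
    have := hel (a + f s) s
    rw [add_assoc, CharTwo.add_self_eq_zero, add_zero] at this
    rw [← this]; group
  obtain ⟨⟨l, hl⟩, el⟩ := D.P₁.surj (lo 1)
  obtain ⟨N, hN⟩ : ∃ N : SL2F, D.P₁.π ⟨x * l * x⁻¹, conj_mem_of hxL hl⟩ = N := ⟨_, rfl⟩
  have hlin : ∀ a, f a = a * f 1 := by
    have hact : ∀ a, D.P₁.el ![a + f a, a] = D.P₁.el (N.1 *ᵥ ![a, 0]) := by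
      intro a
      have hf0 : f 0 = 0 := by
        have := hf 0
        rw [D.y₁_zero, mul_one, mul_inv_cancel, mul_one, ← D.z_zero, D.z_eq, D.z_eq] at this
        exact (D.jel_inj this).1.symm
      rw [← hN, ← D.P₁.act ⟨_, conj_mem_of hxL hl⟩]
      show _ = x * l * x⁻¹ * D.P₁.el ![a, 0] * (x * l * x⁻¹)⁻¹
      rw [show x * l * x⁻¹ * D.P₁.el ![a, 0] * (x * l * x⁻¹)⁻¹ =
        x * (l * (x⁻¹ * D.P₁.el ![a, 0] * x) * l⁻¹) * x⁻¹ by group, hel', hf0, add_zero,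
        D.P₁.act ⟨l, hl⟩, el, lo_mulVec]
      simp [hel]
    intro a
    have h1 := congrFun (D.P₁.el_inj (hact a)) 0
    have h2 := congrFun (D.P₁.el_inj (hact 1)) 0
    simp [Matrix.mulVec, dotProduct, Fin.sum_univ_two] at h1 h2
    rw [← h2] at h1
    linear_combination h1
  refine ⟨f 1, mem_centralizer_iff.2 fun v hv => ?_⟩
  obtain ⟨w, rfl⟩ := D.P₁.el_surj v hv
  symm
  have e1 : x * D.P₁.el w = D.P₁.el ![w 0 + f (w 1), w 1] * x := by
    rw [← mul_inv_eq_iff_eq_mul, ← hel, ← vec2_eta]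
  have e2 : D.y₂ (f 1) * D.P₁.el ![w 0 + f (w 1), w 1] = D.P₁.el w * D.y₂ (f 1) := by
    rw [← mul_inv_eq_iff_eq_mul, D.conj_y₂, hlin (w 1), mul_comm (f 1), add_assoc,
      CharTwo.add_self_eq_zero, add_zero, ← vec2_eta]
  rw [mul_assoc, e1, ← mul_assoc, e2, mul_assoc]

end Data

namespace Hyp

variable {D : Data F G} (h : Hyp D)
include h

/-- `C_G(V₁) ≤ V₁`. -/
theorem centralizer_V₁ : centralizer (D.P₁.V : Set G) ≤ D.P₁.V := by
  obtain ⟨T, hT, hJT, hTN, hmax, hcore⟩ := h.exT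
  have hTJ := conj_J_mem hT hJT hTN
  haveI : Fact (Nat.Prime 2) := ⟨Nat.prime_two⟩
  have hCT : ∀ x ∈ T, x ∈ centralizer (D.P₁.V : Set G) → x ∈ D.P₁.V := by
    intro x hxT hxV
    have hx1 : ∀ v ∈ D.P₁.V, x * v * x⁻¹ = v := fun v hv => by
      rw [← mem_centralizer_iff.1 hxV v hv, mul_inv_cancel_right]
    have hxL2 := h.normalizes_L₂ (hTJ hxT) (hTN hxT)
    obtain ⟨k, hk⟩ := D.swap.exists_y₂_mul_mem_centralizer (x := x) hxL2
      (fun a => by rw [D.swap_z]; exact hx1 _ (D.P₁.el_mem _)) (fun t => by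
        have hxV2 : x * D.y₂ t * x⁻¹ ∈ D.P₂.V :=
          conj_mem_of (h.nor₂ ▸ hxL2) (D.P₂.el_mem _)
        obtain ⟨w, hw⟩ := D.P₂.el_surj _ hxV2
        refine ⟨w 0, ?_⟩
        show x * D.y₂ t * x⁻¹ = D.swap.z (w 0) * D.y₂ t
        rw [D.swap_z, ← hw, vec2_eta w, D.el₂_eq]
        congr 2
        have hs := D.y₁ 1
        have e1 : x * (D.y₂ t * D.y₁ 1 * (D.y₂ t)⁻¹) * x⁻¹ = D.y₂ t * D.y₁ 1 * (D.y₂ t)⁻¹ :=
          hx1 _ (D.P₁.conj_mem (D.y₂_mem_L t) (D.P₁.el_mem _))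
        rw [show x * (D.y₂ t * D.y₁ 1 * (D.y₂ t)⁻¹) * x⁻¹ =
          (x * D.y₂ t * x⁻¹) * (x * D.y₁ 1 * x⁻¹) * (x * D.y₂ t * x⁻¹)⁻¹ by group,
          hx1 (D.y₁ 1) (D.P₁.el_mem _), ← hw, vec2_eta w, D.el₂_eq,
          show D.z (w 0) * D.y₂ (w 1) * D.y₁ 1 * (D.z (w 0) * D.y₂ (w 1))⁻¹ =
            D.z (w 0) * (D.y₂ (w 1) * D.y₁ 1 * (D.y₂ (w 1))⁻¹) * (D.z (w 0))⁻¹ by group,
          Data.y₁, D.conj_y₂, D.conj_y₂, Data.z, D.P₁.commV (D.P₁.el_mem _) (D.P₁.el_mem _),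
          mul_inv_cancel_right] at e1
        have := congrFun (D.P₁.el_inj e1) 0
        simpa using this)
    change D.y₁ k * x ∈ centralizer (D.P₂.V : Set G) at hk
    have hk1 : D.y₁ k * x ∈ centralizer (D.P₁.V : Set G) := by
      refine mul_mem (mem_centralizer_iff.2 fun v hv => D.P₁.commV hv (D.P₁.el_mem _)) hxV
    have hkJ : D.y₁ k * x ∈ centralizer (D.J : Set G) := by
      refine mem_centralizer_iff.2 fun j hj => ?_
      have : D.J ≤ centralizer ({D.y₁ k * x} : Set G) :=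
        sup_le (fun v hv => mem_centralizer_singleton_iff.2 (mem_centralizer_iff.1 hk1 v hv))
          fun v hv => mem_centralizer_singleton_iff.2 (mem_centralizer_iff.1 hk v hv)
      exact mem_centralizer_singleton_iff.1 (this hj)
    have := (h.centralizer_J_le hT hJT hTN hcore _
      (T.mul_mem (hJT (mem_sup_left (D.P₁.el_mem _))) hxT) hkJ).1
    exact (D.P₁.V.mul_mem_cancel_left (D.P₁.el_mem ![0, k])).1 this
  set M := normalizer (D.P₁.V : Set G) with hM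
  have hMchar : Cfsg.IsOfCharacteristicTwo ↥M :=
    h.char2.2 D.P₁.V D.P₁.isPGroup_V fun e => by
      have := D.P₁.card_V
      rw [e, Subgroup.card_bot] at this
      have h4 := h.hq
      nlinarith
  set Q := (Cfsg.pCore 2 ↥M).map M.subtype with hQdef
  have hQ2 : IsPGroup 2 Q := (Cores.isPGroup_pCore 2 ↥M).map _
  have hQn : ∀ m ∈ M, m ∈ normalizer (Q : Set G) := fun m hm => mem_normalizer_of fun v hv => by
    obtain ⟨v', hv', rfl⟩ := hv
    exact ⟨⟨m, hm⟩ * v' * ⟨m, hm⟩⁻¹, (inferInstance : (Cfsg.pCore 2 ↥M).Normal).conj_mem _ hv' _,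
      rfl⟩
  have hTM : T ≤ M := hM ▸ h.nor₁ ▸ hTN
  have hQT : Q ≤ T := by
    have := hmax (T ⊔ Q) (hT.to_sup_of_normal_right' hQ2 fun t ht => hQn t (hTM ht)) le_sup_left
      (h.nor₁ ▸ sup_le hTM (map_subtype_le _))
    exact this ▸ le_sup_right
  have hQV : Q ≤ centralizer (D.P₁.V : Set G) := by
    intro x hx
    have hxL : x ∈ normalizer (D.P₁.L : Set G) := hTN (hQT hx)
    obtain ⟨w, hw, ew⟩ := D.exists_weyl
    have hπ : ∀ m (hm : m ∈ D.P₁.L),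
        D.P₁.π ⟨x * m * x⁻¹, conj_mem_of hxL hm⟩ = D.P₁.π ⟨m, hm⟩ := by
      intro m hm
      have hcV : x * m * x⁻¹ * m⁻¹ ∈ D.P₁.V := by
        have hQL : ∀ v ∈ Q, v ∈ D.P₁.L → ∃ t, ∃ hv : v ∈ D.P₁.L, D.P₁.π ⟨v, hv⟩ = up t := by
          intro v hv hvL
          have e : T ⊓ D.P₁.L = D.J := D.eq_J_of_le_L₁ (hT.to_le inf_le_left)
            (le_inf hJT D.J_le_L₁) inf_le_right
          obtain ⟨t, ht⟩ := D.π_of_mem_J (e.le ⟨hQT hv, hvL⟩)
          exact ⟨t, hvL, ht⟩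
        set c := x * m * x⁻¹ * m⁻¹ with hc
        have hcQ : c ∈ Q := by
          have := conj_mem_of (hQn m (hM ▸ D.P₁.le_normalizer hm)) (Q.inv_mem hx)
          rw [hc, show x * m * x⁻¹ * m⁻¹ = x * (m * x⁻¹ * m⁻¹) by group]
          exact Q.mul_mem hx this
        have hcL : c ∈ D.P₁.L := D.P₁.L.mul_mem (conj_mem_of hxL hm) (D.P₁.L.inv_mem hm)
        have hwc : w * c * w⁻¹ ∈ Q := conj_mem_of (hQn w (hM ▸ D.P₁.le_normalizer hw)) hcQ
        obtain ⟨t, h1, e1⟩ := hQL c hcQ hcL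
        obtain ⟨s, h2, e2⟩ := hQL _ hwc (D.P₁.L.mul_mem (D.P₁.L.mul_mem hw hcL) (D.P₁.L.inv_mem hw))
        rw [D.π_conj hw hcL, ew, e1, show (wm : SL2F)⁻¹ = wm from
          inv_eq_of_mul_eq_one_right wm_sq, wm_conj_up] at e2
        have : t = 0 := by simpa [lo_val, up_val] using congrFun (congrFun (congrArg Subtype.val e2) 1) 0
        exact (D.P₁.ker ⟨c, h1⟩).1 (by rw [e1, this, up_zero])
      rw [D.P₁.π_eq_iff]
      have := conj_mem_of (D.P₁.le_normalizer (D.P₁.L.inv_mem hm)) (D.P₁.V.inv_mem hcV)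
      show (x * m * x⁻¹)⁻¹ * m ∈ D.P₁.V
      convert this using 1
      group
    have hxV : x ∈ M := map_subtype_le _ hx
    have hcomm : ∀ m (hm : m ∈ D.P₁.L), ∀ w, ∀ u, x * D.P₁.el w * x⁻¹ = D.P₁.el u →
        x * D.P₁.el ((D.P₁.π ⟨m, hm⟩).1 *ᵥ w) * x⁻¹ = D.P₁.el ((D.P₁.π ⟨m, hm⟩).1 *ᵥ u) := by
      intro m hm w u hu
      rw [← D.P₁.act ⟨m, hm⟩, ← hπ m hm, ← D.P₁.act ⟨_, conj_mem_of hxL hm⟩, ← hu]
      group
    obtain ⟨u, hu⟩ := D.P₁.el_surj _ (conj_mem_of hxV (D.P₁.el_mem ![1, 0]))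
    have hxJ : x ∈ normalizer (D.J : Set G) := hTJ (hQT hx)
    have hu1 : u 1 = 0 := by
      have : D.P₁.el u ∈ D.P₁.V ⊓ D.P₂.V := by
        refine ⟨D.P₁.el_mem _, ?_⟩
        rw [hu]
        refine conj_mem_of (D.normalizes_V₂ hxJ hxV) ?_
        rw [← D.base]; exact D.P₂.el_mem _
      obtain ⟨a, ha⟩ := D.mem_inf.1 this
      simpa using (congrFun (D.P₁.el_inj ha) 1).symm
    have hall : ∀ a s, x * D.P₁.el ![a, s] * x⁻¹ = D.P₁.el ![a * u 0, s * u 0] := by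
      have hb : ∀ a, x * D.P₁.el ![a, 0] * x⁻¹ = D.P₁.el ![a * u 0, 0] := by
        intro a
        rcases eq_or_ne a 0 with rfl | ha
        · simp [show (![0, 0] : Fin 2 → F) = 0 by ext i; fin_cases i <;> rfl, D.P₁.el_zero]
        · obtain ⟨l, hl, el⟩ := D.exists_torus (Units.mk0 a ha)
          have := hcomm l hl _ _ hu.symm
          rw [el, dg_mulVec, dg_mulVec, hu1] at this
          simpa using this
      intro a s
      have hs := hcomm w hw _ _ (hb s)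
      rw [ew, wm_mulVec, wm_mulVec] at hs
      simp only [Matrix.cons_val_zero, Matrix.cons_val_one, Matrix.head_cons] at hs
      rw [show (![a, s] : Fin 2 → F) = ![a, 0] + ![0, s] by simp, D.P₁.el_add, ← conj_mul, hb, hs,
        ← D.P₁.el_add]
      simp
    obtain ⟨n, hn⟩ := hQ2 ⟨x, hx⟩
    have hn' : x ^ 2 ^ n = 1 := congrArg (fun y : Q => (y : G)) hn
    have hpow : ∀ m : ℕ, x ^ m * D.P₁.el ![1, 0] * (x ^ m)⁻¹ = D.P₁.el ![u 0 ^ m, 0] := by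
      intro m
      induction m with
      | zero => simp
      | succ m ih =>
        rw [pow_succ' x, _root_.mul_inv_rev, show x * x ^ m * D.P₁.el ![1, 0] * ((x ^ m)⁻¹ * x⁻¹) =
          x * (x ^ m * D.P₁.el ![1, 0] * (x ^ m)⁻¹) * x⁻¹ by group, ih, hall, zero_mul, pow_succ]
    have hu0 : u 0 = 1 := by
      refine eq_of_pow_two_eq_one (n := n) ?_
      have := hpow (2 ^ n)
      rw [hn', one_mul, inv_one, mul_one] at this
      simpa using (congrFun (D.P₁.el_inj this) 0).symm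
    refine mem_centralizer_iff.2 fun v hv => ?_
    obtain ⟨z, rfl⟩ := D.P₁.el_surj v hv
    have := hall (z 0) (z 1)
    rw [hu0, mul_one, mul_one, ← vec2_eta, mul_inv_eq_iff_eq_mul] at this
    exact this.symm
  have hQ1 : Q ≤ D.P₁.V := fun x hx => hCT x (hQT hx) (hQV hx)
  intro x hx
  have hxM : x ∈ M := centralizer_le_normalizer _ hx
  refine hQ1 ⟨⟨x, hxM⟩, hMchar (mem_centralizer_iff.2 fun y hy => Subtype.ext ?_), rfl⟩
  exact mem_centralizer_iff.1 hx y (hQ1 ⟨y, hy, rfl⟩)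

theorem centralizer_V₂ : centralizer (D.P₂.V : Set G) ≤ D.P₂.V := h.swap.centralizer_V₁

/-- An element normalising `V₁`, trivial on `Z` and on `V₁/Z`, lies in `J`. -/
theorem mem_J_of_trivial {x : G} (hxV : x ∈ normalizer (D.P₁.V : Set G))
    (hz : ∀ a, x * D.z a * x⁻¹ = D.z a) (hy : ∀ s, ∃ c, x * D.y₁ s * x⁻¹ = D.z c * D.y₁ s) :
    x ∈ D.J := by
  obtain ⟨k, hk⟩ := D.exists_y₂_mul_mem_centralizer (h.nor₁ ▸ hxV) hz hy
  have h1 : D.y₂ k * x ∈ D.J := mem_sup_left (h.centralizer_V₁ hk)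
  exact (D.J.mul_mem_cancel_left (mem_sup_right (D.P₂.el_mem ![0, k]))).1 h1

end Hyp

end Cfsg.Agent.TwoNatural
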