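import Cfsg.Agent.Lib.TwoNatural.Roots
import Cfsg.Agent.Lib.ONanLines.FStar
import Cfsg.Agent.Lib.Linear.SLn

/-!
# Two natural parabolics: the conclusion for `q ≥ 8` (S3091)

* `conj_z_mem_L₁`; `Hyp.genFitting_iso`
-/

set_option autoImplicit false
set_option linter.unusedSectionVars false

open Matrix Cfsg.Agent.SL2Module Subgroup

namespace Cfsg.Agent.TwoNatural

universe u v

variable {F : Type v} [Field F] [Fintype F] [CharP F 2] {G : Type u} [Group G] [Finite G]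

local notation "SL3F" => Matrix.SpecialLinearGroup (Fin 3) F

theorem normalizer_zpowers_invol {y : G} (h2 : y * y = 1) (h1 : y ≠ 1) :
    normalizer ((zpowers y : Subgroup G) : Set G) = centralizer ({y} : Set G) := by
  have hmem : ∀ v, v ∈ zpowers y → v = 1 ∨ v = y := by
    rintro _ ⟨n, rfl⟩
    have h2' : y ^ (2 : ℤ) = 1 := by rw [zpow_two]; exact h2
    rcases Int.even_or_odd n with ⟨m, rfl⟩ | ⟨m, rfl⟩
    · left; show y ^ (m + m) = 1
      rw [← two_mul, _root_.zpow_mul, h2', _root_.one_zpow]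
    · right; show y ^ (2 * m + 1) = y
      rw [_root_.zpow_add, _root_.zpow_mul, h2', _root_.one_zpow, one_mul, zpow_one]
  refine le_antisymm (fun g hg => mem_centralizer_singleton_iff.2 ?_) fun g hg =>
    mem_normalizer_of fun v hv => ?_
  · rcases hmem _ (conj_mem_of hg (mem_zpowers _)) with e | e
    · exact absurd (conj_eq_one_iff.1 e) h1
    · exact mul_inv_eq_iff_eq_mul.1 e
  · rcases hmem v hv with rfl | rfl
    · simp
    · rw [mem_centralizer_singleton_iff.1 hg, mul_inv_cancel_right]; exact mem_zpowers _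

theorem isPGroup_zpowers_invol {y : G} (h2 : y * y = 1) : IsPGroup 2 (zpowers y) :=
  fun ⟨v, hv⟩ => ⟨1, Subtype.ext (by
    obtain ⟨n, rfl⟩ := hv
    show (y ^ n) ^ 2 ^ 1 = 1
    rw [pow_one, sq, ← (Commute.refl y).mul_zpow, h2, _root_.one_zpow])⟩

namespace Hyp

variable {D : Data F G} (h : Hyp D)
include h

theorem exists_conj_into {H : Subgroup G} (hJH : D.J ≤ H) {y : G} (hy : y ∈ H) (h2 : y * y = 1) :
    ∃ k ∈ H, k⁻¹ * y * k ∈ normalizer (D.J : Set G) := by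
  haveI : Fact (Nat.Prime 2) := ⟨Nat.prime_two⟩
  obtain ⟨P, hP⟩ := (D.isPGroup_J.comap_of_injective H.subtype H.subtype_injective).exists_le_sylow
  obtain ⟨Q, hQ⟩ :=
    ((isPGroup_zpowers_invol h2).comap_of_injective H.subtype H.subtype_injective).exists_le_sylow
  have hPN : (P : Subgroup H).map H.subtype ≤ normalizer (D.J : Set G) :=
    h.le_normalizer_J (P.isPGroup'.map _) fun j hj => ⟨⟨j, hJH hj⟩, hP hj, rfl⟩
  obtain ⟨k, hk⟩ := MulAction.exists_smul_eq H P Q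
  have hyQ : (⟨y, hy⟩ : H) ∈ (Q : Subgroup H) := hQ (mem_zpowers y)
  rw [← hk, Sylow.coe_subgroup_smul, Subgroup.mem_pointwise_smul_iff_inv_smul_mem] at hyQ
  exact ⟨k, k.2, hPN ⟨_, hyQ, by simp [MulAut.smul_def]⟩⟩

/-- A conjugate of `z` normalising `L₁` lies in it. -/
theorem conj_z_mem_L₁ (hq8 : 8 ≤ Fintype.card F) {g : G} {a : F} (ha : a ≠ 0)
    (hx : g * D.z a * g⁻¹ ∈ normalizer (D.P₁.L : Set G)) : g * D.z a * g⁻¹ ∈ D.P₁.L := by
  obtain ⟨k, hk, hkN⟩ := h.exists_conj_into (D.J_le_L₁.trans Subgroup.le_normalizer) hx (by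
    rw [conj_mul, D.P₁.sqV (show D.z a ∈ D.P₁.V from D.P₁.el_mem _)]; simp)
  have e : k⁻¹ * (g * D.z a * g⁻¹) * k = k⁻¹ * g * D.z a * (k⁻¹ * g)⁻¹ := by group
  rw [e] at hkN
  have := conj_mem_of hk (D.J_le_L₁ (h.not_conj_z hq8 ha hkN))
  convert this using 1
  group

/-- `F*(G) ≅ L₃(q)`. -/
theorem genFitting_iso (hq8 : 8 ≤ Fintype.card F) :
    Nonempty (↥(Cfsg.generalizedFittingSubgroup G) ≃*
      Matrix.ProjectiveSpecialLinearGroup (Fin 3) F) := by
  haveI : Fact (Nat.Prime 2) := ⟨Nat.prime_two⟩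
  obtain ⟨τ⟩ := h.exists_tor hq8
  obtain ⟨Φ, hΦ⟩ := τ.exists_hom h hq8
  set X := Φ.range with hX
  have hy₂X : ∀ t, D.y₂ t ∈ X := fun t => ⟨_, (hΦ t).1⟩
  have ha10X : ∀ t, τ.a10 h t ∈ X := fun t => ⟨_, (hΦ t).2.1⟩
  have hzX : ∀ t, D.z t ∈ X := fun t => ⟨_, (hΦ t).2.2.1⟩
  have ha21X : ∀ t, τ.a21 h t ∈ X := fun t => ⟨_, (hΦ t).2.2.2.1⟩
  have hy₁X : ∀ t, D.y₁ t ∈ X := fun t => ⟨_, (hΦ t).2.2.2.2.1⟩
  have hL : ∀ (D' : Data F G) (τ' : Tor D') (h' : Hyp D'), (∀ t, D'.z t ∈ X) →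
      (∀ t, D'.y₁ t ∈ X) → (∀ t, D'.y₂ t ∈ X) → (∀ t, τ'.a10 h' t ∈ X) → D'.P₁.L ≤ X := by
    intro D' τ' h' hz hy1 hy2 hlo l hl
    have hV : D'.P₁.V ≤ X := fun v hv => by
      obtain ⟨w, rfl⟩ := D'.P₁.el_surj v hv
      rw [vec2_eta w, D'.el₁_eq]; exact X.mul_mem (hz _) (hy1 _)
    have hφ : ∀ A, τ'.φ h' A ∈ X := by
      intro A
      have : Subgroup.closure (Set.range (up : F → Matrix.SpecialLinearGroup (Fin 2) F) ∪ {wm}) ≤
          X.comap (τ'.φ h') := by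
        rw [closure_le]
        rintro _ (⟨s, rfl⟩ | rfl)
        · show τ'.φ h' (up s) ∈ X
          rw [τ'.φ_up]; exact hy2 s
        · have e : (wm : Matrix.SpecialLinearGroup (Fin 2) F) = up 1 * lo 1 * up 1 := by
            have := up_lo_up (K := F) 1
            rw [dg_one, one_mul, inv_one, Units.val_one] at this
            exact this.symm
          show τ'.φ h' wm ∈ X
          rw [e, map_mul, map_mul, τ'.φ_up]
          exact X.mul_mem (X.mul_mem (hy2 1) (hlo 1)) (hy2 1)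
      rw [closure_eq_top] at this
      exact this (mem_top A)
    have h1 := (D'.P₁.π_eq_iff ⟨_, τ'.φ_mem h' (D'.P₁.π ⟨l, hl⟩)⟩ ⟨l, hl⟩).1 (τ'.φ_π h' _)
    have e : l = τ'.φ h' (D'.P₁.π ⟨l, hl⟩) * ((τ'.φ h' (D'.P₁.π ⟨l, hl⟩))⁻¹ * l) := by group
    rw [e]
    exact X.mul_mem (hφ _) (hV h1)
  have hL₁ : D.P₁.L ≤ X := hL D τ h hzX hy₁X hy₂X ha10X
  have hL₂ : D.P₂.L ≤ X := hL D.swap τ.swap h.swap (fun t => D.swap_z t ▸ hzX t) hy₂X hy₁X ha21X
  have hJX : D.J ≤ X := D.J_le_L₁.trans hL₁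
  set Y := normalizer (X : Set G) with hY
  have hXY : X ≤ Y := Subgroup.le_normalizer
  have hn₁ : τ.n₁ h = D.y₂ 1 * τ.a10 h 1 * D.y₂ 1 := by
    rw [Tor.n₁, Tor.a10, ← τ.φ_up h (1 : F), ← map_mul, ← map_mul]
    congr 1
    have := up_lo_up (K := F) 1
    rw [dg_one, one_mul, inv_one, Units.val_one] at this
    exact this.symm
  -- `N(J)` normalises `X`
  have hNJ : normalizer (D.J : Set G) ≤ Y := by
    intro x hx
    set f := (MulAut.conj x).toMonoidHom with hf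
    have hJ' : ∀ v ∈ D.J, x * v * x⁻¹ ∈ X := fun v hv => hJX (conj_mem_of hx hv)
    have hy2' : ∀ t, x * D.y₂ t * x⁻¹ ∈ X := fun t => hJ' _ (D.y₂_eq t ▸ D.jel_mem _ _ _)
    have hneg : (∀ t, x * τ.a10 h t * x⁻¹ ∈ X) ∧ ∀ t, x * τ.a21 h t * x⁻¹ ∈ X := by
      by_cases hV : x ∈ normalizer (D.P₁.V : Set G)
      · have hxL : x ∈ normalizer (D.P₁.L : Set G) := h.nor₁ ▸ hV
        exact ⟨fun t => hL₁ (conj_mem_of hxL (τ.φ_mem h _)),
          fun t => hL₂ (conj_mem_of (h.normalizes_L₂ hx hxL) (τ.swap.φ_mem h.swap _))⟩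
      · have key : ∀ (D' : Data F G) (τ' : Tor D') (h' : Hyp D'), D'.P₂.L ≤ X →
            x ∈ normalizer (D'.J : Set G) → x ∉ normalizer (D'.P₁.V : Set G) →
            ∀ t, x * τ'.a10 h' t * x⁻¹ ∈ X := by
          intro D' τ' h' hLX hx' hV' t
          rcases eq_or_ne t 0 with rfl | ht
          · rw [τ'.a10_zero]; simpa using X.one_mem
          have hsw := D'.not_V₁_iff hx' hV'
          have hn2i : (τ'.n₂ h')⁻¹ = τ'.n₂ h' := inv_eq_of_mul_eq_one_right (τ'.n₂_sq h')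
          have e : x * τ'.a10 h' t * x⁻¹ =
              (x * τ'.n₁ h' * τ'.n₂ h') * D'.swap.z t * (x * τ'.n₁ h' * τ'.n₂ h')⁻¹ := by
            rw [← τ'.conj_n₁_y₂, ← τ'.conj_n₂_z h' t, D'.swap_z, _root_.mul_inv_rev,
              _root_.mul_inv_rev, hn2i, τ'.n₁_inv]
            group
          have hN : x * τ'.a10 h' t * x⁻¹ ∈ normalizer (D'.P₂.L : Set G) := by
            rw [h'.nor₂]
            refine mem_normalizer_of fun v hv => ?_
            have hv1 : x⁻¹ * v * x ∈ D'.P₁.V := by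
              refine (hsw.1 _).2 ?_
              convert hv using 1
              group
            have := (hsw.1 _).1 (D'.P₁.conj_mem (τ'.φ_mem h' (lo t)) hv1)
            convert this using 1
            show _ = x * (τ'.a10 h' t * _ * (τ'.a10 h' t)⁻¹) * x⁻¹
            group
          rw [e] at hN ⊢
          exact hLX (h'.swap.conj_z_mem_L₁ hq8 ht hN)
        exact ⟨key D τ h hL₂ hx hV, key D.swap τ.swap h.swap hL₁ (D.swap_J.symm ▸ hx)
          fun hV' => hV (D.swap.normalizes_V₂ (D.swap_J.symm ▸ hx) hV')⟩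
    have hn' : x * τ.n₁ h * x⁻¹ ∈ X := by
      rw [hn₁, ← conj_mul, ← conj_mul]
      exact X.mul_mem (X.mul_mem (hy2' 1) (hneg.1 1)) (hy2' 1)
    have hle : (⊤ : Subgroup SL3F) ≤ (X.comap f).comap Φ := by
      rw [← Linear.closure_slTvSet, closure_le]
      rintro _ ⟨i, j, hij, a, rfl⟩
      obtain ⟨h01, h10, h02, h21, h12, h20⟩ := hΦ a
      show x * Φ _ * x⁻¹ ∈ X
      fin_cases i <;> fin_cases j
      · exact absurd rfl hij
      · rw [h01]; exact hy2' a
      · rw [h02]; exact hJ' _ (D.z_mem_J a)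
      · rw [h10]; exact hneg.1 a
      · exact absurd rfl hij
      · rw [h12]; exact hJ' _ (D.y₁_eq a ▸ D.jel_mem _ _ _)
      · rw [h20, Tor.ξ, ← conj_mul, ← conj_mul]
        exact X.mul_mem (X.mul_mem hn' (hneg.2 a)) hn'
      · rw [h21]; exact hneg.2 a
      · exact absurd rfl hij
    refine mem_normalizer_of fun v hv => ?_
    obtain ⟨A, rfl⟩ := hv
    exact hle (mem_top A)
  have hCz : ∀ {a : F}, a ≠ 0 → centralizer ({D.z a} : Set G) ≤ Y := fun ha =>
    (h.centralizer_z_le hq8 ha).trans hNJ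
  -- involutions of `J` are conjugate into `Z` inside `X`
  have hJinv : ∀ v ∈ D.J, v * v = 1 → v ≠ 1 → ∃ l ∈ X, ∃ b, b ≠ 0 ∧ l * v * l⁻¹ = D.z b := by
    intro v hv hv2 hv1
    rcases D.mem_V_or hv hv2 with h' | h'
    · obtain ⟨l, hl, b, hb, e⟩ := D.exists_conj_z h' hv1
      exact ⟨l, hL₁ hl, b, hb, e⟩
    · obtain ⟨l, hl, b, hb, e⟩ := D.swap.exists_conj_z h' hv1
      exact ⟨l, hL₂ hl, b, hb, e.trans (D.swap_z b)⟩
  -- conjugating a `z` into `Y` takes an element of `Y`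
  have conjY : ∀ {g : G} {a : F}, a ≠ 0 → g * D.z a * g⁻¹ ∈ Y → g ∈ Y := by
    intro g a ha hg
    obtain ⟨k, hk, hkN⟩ := h.exists_conj_into (hJX.trans hXY) hg (by
      rw [conj_mul, D.P₁.sqV (show D.z a ∈ D.P₁.V from D.P₁.el_mem _)]; simp)
    have e : k⁻¹ * (g * D.z a * g⁻¹) * k = k⁻¹ * g * D.z a * (k⁻¹ * g)⁻¹ := by group
    rw [e] at hkN
    have hJm := h.not_conj_z hq8 ha hkN
    obtain ⟨l, hl, b, hb, hlb⟩ := hJinv _ hJm
      (by rw [conj_mul, D.P₁.sqV (show D.z a ∈ D.P₁.V from D.P₁.el_mem _)]; simp)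
      fun e => ha (D.z_inj ((conj_eq_one_iff.1 e).trans D.z_zero.symm))
    obtain ⟨t, ht, et⟩ := D.exists_torus (Units.mk0 a ha * (Units.mk0 b hb)⁻¹)
    have hc : t * l * k⁻¹ * g ∈ centralizer ({D.z a} : Set G) := by
      refine mem_centralizer_singleton_iff.2 (mul_inv_eq_iff_eq_mul.1 ?_)
      calc t * l * k⁻¹ * g * D.z a * (t * l * k⁻¹ * g)⁻¹
          = t * (l * (k⁻¹ * g * D.z a * (k⁻¹ * g)⁻¹) * l⁻¹) * t⁻¹ := by group
        _ = D.z a := by
          rw [hlb, D.conj_z ht et]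
          congr 1
          simp [hb]
    have h1 := Y.mul_mem (Y.mul_mem hk (Y.inv_mem (hXY (X.mul_mem (hL₁ ht) hl)))) (hCz ha hc)
    convert h1 using 1
    group
  -- a `z` commuting with an involution of `N(J)`
  have hfixz : ∀ i ∈ normalizer (D.J : Set G), i * i = 1 →
      ∃ a, a ≠ 0 ∧ i * D.z a * i⁻¹ = D.z a := by
    intro i hi hi2
    by_cases e1 : D.zmap i 1 = 1
    · exact ⟨1, one_ne_zero, by rw [← D.z_zmap hi, e1]⟩
    · refine ⟨D.zmap i 1 + 1, fun e => e1 (CharTwo.add_eq_zero.1 e), ?_⟩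
      rw [← D.z_add, ← conj_mul, ← D.z_zmap hi, ← D.z_zmap hi, ← D.zmap_comp hi hi, hi2,
        show D.zmap (1 : G) 1 = 1 from D.zmap_eq (by simp), D.z_add, D.z_add, add_comm]
  -- centralisers of involutions of `Y`
  have hCY : ∀ i ∈ normalizer (D.J : Set G), i * i = 1 → i ≠ 1 →
      centralizer ({i} : Set G) ≤ Y := by
    intro i hi hi2 hi1
    set H := centralizer ({i} : Set G) with hH
    have hH2 : Cfsg.IsOfCharacteristicTwo ↥H := by
      have := h.char2.2 (zpowers i) (isPGroup_zpowers_invol hi2) (by simpa using hi1)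
      rwa [normalizer_zpowers_invol hi2 hi1] at this
    obtain ⟨a, ha, hza⟩ := hfixz i hi hi2
    have hz0H : D.z a ∈ H := mem_centralizer_singleton_iff.2 (by
      have := mul_inv_eq_iff_eq_mul.1 hza; exact this.symm)
    set W := O2 H with hW
    have hQ : IsPGroup 2 ↥(W ⊔ zpowers (D.z a)) :=
      (isPGroup_O2 H).to_sup_of_normal_left'
        (isPGroup_zpowers_invol (D.P₁.sqV (D.P₁.el_mem _))) (zpowers_le.2 (le_normalizer_O2 H hz0H))
    obtain ⟨P, hP⟩ := hQ.exists_le_sylow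
    obtain ⟨S, hS⟩ := D.isPGroup_J.exists_le_sylow
    obtain ⟨g, hg⟩ := MulAction.exists_smul_eq G S P
    have hSN : (S : Subgroup G) ≤ normalizer (D.J : Set G) := h.le_normalizer_J S.isPGroup' hS
    have hback : ∀ v ∈ W ⊔ zpowers (D.z a), g⁻¹ * v * g ∈ normalizer (D.J : Set G) := fun v hv => by
      have hv' := hP hv
      rw [← hg, Sylow.coe_subgroup_smul, Subgroup.mem_pointwise_smul_iff_inv_smul_mem] at hv'
      simpa [MulAut.smul_def] using hSN hv'
    have hzJ : g⁻¹ * D.z a * g ∈ D.J := by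
      have := hback _ (mem_sup_right (mem_zpowers _))
      rw [show g⁻¹ * D.z a * g = g⁻¹ * D.z a * g⁻¹⁻¹ by group] at this ⊢
      exact h.not_conj_z hq8 ha this
    have hgY : g ∈ Y := by
      simpa using Y.inv_mem (conjY ha (g := g⁻¹) (by
        rw [inv_inv]; exact hXY (hJX hzJ)))
    have hWY : ∀ v ∈ W, v ∈ Y := fun v hv => by
      have := Y.mul_mem (Y.mul_mem hgY (hNJ (hback v (mem_sup_left hv)))) (Y.inv_mem hgY)
      convert this using 1
      group
    obtain ⟨d, hdW, hdJ, hd1⟩ : ∃ d ∈ W, g⁻¹ * d * g ∈ D.J ∧ d ≠ 1 := by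
      by_cases hcen : ∀ v ∈ W, D.z a * v * (D.z a)⁻¹ = v
      · exact ⟨D.z a, mem_O2_of_centralizes hH2 hz0H hcen, hzJ,
          fun e => ha (D.z_inj (e.trans D.z_zero.symm))⟩
      · push Not at hcen
        obtain ⟨v, hv, hne⟩ := hcen
        refine ⟨v * D.z a * v⁻¹ * (D.z a)⁻¹, ?_, ?_, fun e => hne ?_⟩
        · rw [show v * D.z a * v⁻¹ * (D.z a)⁻¹ = v * (D.z a * v⁻¹ * (D.z a)⁻¹) by group]
          exact W.mul_mem hv (conj_mem_O2 hz0H (W.inv_mem hv))
        · rw [show g⁻¹ * (v * D.z a * v⁻¹ * (D.z a)⁻¹) * g = (g⁻¹ * v * g) * (g⁻¹ * D.z a * g) *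
            (g⁻¹ * v * g)⁻¹ * (g⁻¹ * D.z a * g)⁻¹ by group]
          exact D.J.mul_mem (conj_mem_of (hback v (mem_sup_left hv)) hzJ) (D.J.inv_mem hzJ)
        · exact mul_inv_eq_iff_eq_mul.2 (mul_inv_eq_iff_eq_mul.1 (mul_inv_eq_one.1 e)).symm
    obtain ⟨d, hdW, hdJ, hd1, hd2⟩ :
        ∃ d ∈ W, g⁻¹ * d * g ∈ D.J ∧ d ≠ 1 ∧ g⁻¹ * d * g * (g⁻¹ * d * g) = 1 := by
      by_cases h2 : g⁻¹ * d * g * (g⁻¹ * d * g) = 1
      · exact ⟨d, hdW, hdJ, hd1, h2⟩
      · have e : g⁻¹ * (d * d) * g = g⁻¹ * d * g * (g⁻¹ * d * g) := by group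
        refine ⟨d * d, W.mul_mem hdW hdW, by rw [e]; exact D.J.mul_mem hdJ hdJ,
          fun h1 => h2 (by rw [← e, h1]; group), ?_⟩
        rw [e]
        obtain ⟨b, s, t, ej⟩ := D.mem_J.1 hdJ
        rw [← ej, D.jel_sq]
        exact D.P₁.sqV (D.P₁.el_mem _)
    obtain ⟨l, hl, b, hb, hlb⟩ := hJinv _ hdJ hd2 fun e => hd1 (by
      rw [show d = g * (g⁻¹ * d * g) * g⁻¹ by group, e]; group)
    intro c hc
    have hcd : c * g * l⁻¹ * D.z b * (c * g * l⁻¹)⁻¹ ∈ Y := by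
      rw [← hlb, show c * g * l⁻¹ * (l * (g⁻¹ * d * g) * l⁻¹) * (c * g * l⁻¹)⁻¹ = c * d * c⁻¹ by
        group]
      exact hWY _ (conj_mem_O2 hc hdW)
    have h1 := conjY hb hcd
    have := Y.mul_mem (Y.mul_mem h1 (hXY hl)) (Y.inv_mem hgY)
    convert this using 1
    group
  -- `X` is normal
  have hYtop : Y = ⊤ := by
    by_contra hne
    have hz1 : D.z (1 : F) ≠ 1 := fun e => one_ne_zero (D.z_inj (e.trans D.z_zero.symm))
    have hse : Cfsg.IsStronglyEmbedded Y := by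
      refine Involution.isStronglyEmbedded_iff_forall.2 ⟨hne, ?_, ?_⟩
      · have ho : orderOf (⟨D.z 1, hXY (hzX 1)⟩ : Y) = 2 := by
          refine orderOf_eq_prime ?_ fun e => hz1 (congrArg (fun y : Y => (y : G)) e)
          rw [sq]
          exact Subtype.ext (D.P₁.sqV (D.P₁.el_mem _))
        exact even_iff_two_dvd.2 (ho ▸ orderOf_dvd_natCard _)
      · intro g t ht htY hgt
        have ht2 : t * t = 1 := by rw [← sq, ← ht, pow_orderOf_eq_one]
        have ht1 : t ≠ 1 := fun e => by rw [e, orderOf_one] at ht; omega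
        obtain ⟨k, hk, hkN⟩ := h.exists_conj_into (hJX.trans hXY) htY ht2
        have hk2 : k⁻¹ * t * k * (k⁻¹ * t * k) = 1 := by
          rw [show k⁻¹ * t * k * (k⁻¹ * t * k) = k⁻¹ * (t * t) * k by group, ht2]; group
        obtain ⟨a, ha, hza⟩ := hfixz _ hkN hk2
        obtain ⟨k', hk', hk'N⟩ := h.exists_conj_into (hJX.trans hXY) hgt (by
          rw [conj_mul, ht2]; simp)
        set i := k'⁻¹ * (g * t * g⁻¹) * k' with hi
        have hi2 : i * i = 1 := by
          rw [hi, show k'⁻¹ * (g * t * g⁻¹) * k' * (k'⁻¹ * (g * t * g⁻¹) * k') =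
            k'⁻¹ * g * (t * t) * g⁻¹ * k' by group, ht2]; group
        have hi1 : i ≠ 1 := fun e => ht1 (by
          rw [show t = g⁻¹ * k' * i * k'⁻¹ * g by rw [hi]; group, e]; group)
        have hcomm : k'⁻¹ * g * k * D.z a * (k'⁻¹ * g * k)⁻¹ ∈ centralizer ({i} : Set G) := by
          refine mem_centralizer_singleton_iff.2 ?_
          have hz := mul_inv_eq_iff_eq_mul.1 hza
          have e : i = k'⁻¹ * g * k * (k⁻¹ * t * k) * (k'⁻¹ * g * k)⁻¹ := by rw [hi]; group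
          rw [e, conj_mul, conj_mul, hz]
        have h1 := conjY ha (hCY i hk'N hi2 hi1 hcomm)
        have := Y.mul_mem (Y.mul_mem hk' h1) (Y.inv_mem hk)
        convert this using 1
        group
    have hsol : Group.IsSolvable Y := by
      refine Bender.solvable_of_stronglyEmbedded Bender.rankOneHalf hse ?_
      obtain ⟨ω, hω⟩ := exists_unit_ne_one (F := F) h.hq
      exact ⟨D.z 1, D.z ω, hz1, fun e => ω.ne_zero (D.z_inj (e.trans D.z_zero.symm)),
        fun e => hω (Units.ext (D.z_inj e)).symm, D.P₁.sqV (D.P₁.el_mem _),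
        D.P₁.sqV (D.P₁.el_mem _), D.P₁.commV (D.P₁.el_mem _) (D.P₁.el_mem _)⟩
    refine not_isSolvable_SL2 (F := F) h.hq ?_
    refine Group.isSolvable_of_ker_le_range (1 : PUnit.{1} →* Matrix.SpecialLinearGroup (Fin 2) F)
      ((τ.φ h).codRestrict Y fun A => hXY (hL₁ (τ.φ_mem h A))) fun x hx => ⟨1, ?_⟩
    rw [MonoidHom.one_apply]
    exact (τ.φ_injective h ((congrArg (fun y : Y => (y : G)) hx).trans (map_one _).symm)).symm
  haveI hXn : X.Normal := normalizer_eq_top_iff.1 hYtop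
  -- `X` has trivial centraliser
  have hCX : centralizer (X : Set G) = ⊥ := by
    refine eq_bot_iff.2 fun c hc => ?_
    have hV : ∀ v ∈ D.J, v * c = c * v := fun v hv => mem_centralizer_iff.1 hc v (hJX hv)
    have h1 : c ∈ D.P₁.V := h.centralizer_V₁ (mem_centralizer_iff.2 fun v hv => hV v (mem_sup_left hv))
    have h2 : c ∈ D.P₂.V := h.centralizer_V₂ (mem_centralizer_iff.2 fun v hv => hV v (mem_sup_right hv))
    obtain ⟨a, rfl⟩ := D.mem_inf.1 ⟨h1, h2⟩
    have hn := τ.conj_n₁_z h a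
    rw [mem_centralizer_iff.1 hc (τ.n₁ h) (hL₁ (τ.φ_mem h _)), mul_assoc, τ.n₁_sq, mul_one, D.z_eq,
      D.y₁_eq] at hn
    rw [mem_bot, show a = 0 from (D.jel_inj hn).1, D.z_zero]
  -- the kernel of `Φ` is the centre
  have hsimp := Linear.isSimpleGroup_psl (ι := Fin 3) (F := F) (by simp)
  have hkne : Φ.ker ≠ ⊤ := fun e => by
    have h1 := (hΦ 1).2.2.1
    rw [MonoidHom.mem_ker.1 (e ▸ mem_top _)] at h1
    exact one_ne_zero (D.z_inj (h1.symm.trans D.z_zero.symm))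
  have hker : Φ.ker = center SL3F := by
    have hle : center SL3F ≤ Φ.ker := fun c hc => by
      have : Φ c ∈ centralizer (X : Set G) := mem_centralizer_iff.2 fun v hv => by
        obtain ⟨A, rfl⟩ := hv
        rw [← map_mul, ← map_mul, mem_center_iff.1 hc A]
      rw [hCX, mem_bot] at this
      exact this
    refine le_antisymm ?_ hle
    rcases Subgroup.Normal.eq_bot_or_eq_top
      ((inferInstance : Φ.ker.Normal).map (QuotientGroup.mk' (center SL3F))
        (QuotientGroup.mk'_surjective _)) with e | e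
    · rwa [Subgroup.map_eq_bot_iff, QuotientGroup.ker_mk'] at e
    · refine absurd ?_ hkne
      have := congrArg (Subgroup.comap (QuotientGroup.mk' (center SL3F))) e
      rwa [Subgroup.comap_map_eq, QuotientGroup.ker_mk', Subgroup.comap_top,
        sup_eq_left.2 hle] at this
  let ι : Matrix.ProjectiveSpecialLinearGroup (Fin 3) F ≃* X :=
    (QuotientGroup.quotientMulEquivOfEq hker.symm).trans (QuotientGroup.quotientKerEquivRange Φ)
  haveI := hsimp
  haveI : IsSimpleGroup X := ι.symm.isSimpleGroup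
  have hna : ¬IsMulCommutative X := fun hc => by
    have hc' := hc.is_comm.comm (⟨D.y₂ 1, hy₂X 1⟩ : X) ⟨D.y₁ 1, hy₁X 1⟩
    have := congrArg (fun y : X => (y : G)) hc'
    simp only [Subgroup.coe_mul] at this
    rw [D.y₂_eq, D.y₁_eq, D.commute_jel_iff] at this
    simp at this
  exact ⟨(MulEquiv.subgroupCongr (ONanLines.genFitting_eq_of_simple X hna hCX)).trans ι.symm⟩

end Hyp

end Cfsg.Agent.TwoNatural
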