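import Cfsg.Agent.Lib.TwoNatural.Local
import Cfsg.Agent.Lib.OrthEven.Field

/-!
# Two natural parabolics: the normaliser of `J = V₁V₂` (S3091)

* `zmap`, `fieldAut`: the action on the centre and its field automorphism; `fieldHom`
* `exists_straight_maps`, `exists_swap_maps`: the semilinear action on `J/Z`
* `mem_J_of_kernel`, `card_elem_le`, `elem_eq`, `le_normalizer_J`
-/

set_option autoImplicit false
set_option linter.unusedSectionVars false

open Matrix Cfsg.Agent.SL2Module Subgroup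

namespace Cfsg.Agent.TwoNatural

variable {F : Type*} [Field F] [Fintype F] [CharP F 2] {G : Type*} [Group G] [Finite G]

/-- Semilinear fixed points of a nontrivial automorphism. -/
theorem card_semifix_sq_le {σ : F ≃+* F} (hσ : σ ≠ 1) (e : F) :
    Nat.card {a : F // e * σ a = a} ^ 2 ≤ Nat.card F := by
  classical
  by_cases h : ∃ a : F, e * σ a = a ∧ a ≠ 0
  · obtain ⟨a, ha, ha0⟩ := h
    refine le_trans (Nat.pow_le_pow_left (Nat.card_le_card_of_injective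
      (fun b : {b : F // e * σ b = b} => (⟨b.1 / a, ?_⟩ : {x : F // σ x = x})) ?_) 2)
      (card_fixed_sq_le hσ)
    · have he : e ≠ 0 := fun h0 => ha0 (by rw [← ha, h0, zero_mul])
      have hb := b.2
      rw [map_div₀, div_eq_div_iff (by simpa using ha0) ha0]
      calc σ b.1 * a = σ b.1 * (e * σ a) := by rw [ha]
        _ = e * σ b.1 * σ a := by ring
        _ = b.1 * σ a := by rw [hb]
    · intro b b' hb
      exact Subtype.ext (div_left_inj' ha0 |>.1 (congrArg Subtype.val hb))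
  · haveI : Subsingleton {a : F // e * σ a = a} := ⟨fun a b => Subtype.ext (by
      have ha : a.1 = 0 := by_contra fun h0 => h ⟨_, a.2, h0⟩
      have hb : b.1 = 0 := by_contra fun h0 => h ⟨_, b.2, h0⟩
      rw [ha, hb])⟩
    calc Nat.card {a : F // e * σ a = a} ^ 2 ≤ 1 ^ 2 :=
          Nat.pow_le_pow_left (Finite.card_le_one_iff_subsingleton.2 ‹_›) _
      _ ≤ _ := by rw [one_pow]; exact Nat.card_pos

/-- If the elements outside `K` form a single coset then `K` has index at most two. -/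
theorem card_le_two_mul {W K : Subgroup G}
    (h : ∀ u ∈ W, ∀ v ∈ W, u ∉ K → v ∉ K → u⁻¹ * v ∈ K) :
    Nat.card W ≤ 2 * Nat.card K := by
  classical
  by_cases hW : ∀ u ∈ W, u ∈ K
  · exact le_trans (Subgroup.card_le_of_le hW) (Nat.le_mul_of_pos_left _ two_pos)
  · push Not at hW
    obtain ⟨u, hu, huK⟩ := hW
    let f : W → Bool × K := fun v =>
      if hv : (v : G) ∈ K then (true, ⟨v, hv⟩) else (false, ⟨u⁻¹ * v, h u hu v v.2 huK hv⟩)
    have hf : Function.Injective f := by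
      intro v w hvw
      by_cases hv : (v : G) ∈ K <;> by_cases hw : (w : G) ∈ K <;>
        simp [f, hv, hw] at hvw <;> first | exact hvw | exact Subtype.ext hvw
    exact (Nat.card_le_card_of_injective f hf).trans_eq (by
      rw [Nat.card_prod, Nat.card_eq_fintype_card (α := Bool), Fintype.card_bool])

namespace Data

variable (D : Data F G)

theorem z_inj : Function.Injective D.z := fun a b hab => by
  rw [D.z_eq, D.z_eq] at hab; exact (D.jel_inj hab).1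

theorem jel_split (a s t : F) : D.jel a s t = D.z a * D.y₁ s * D.y₂ t := by
  rw [jel, D.el₁_eq]

theorem not_V₁_iff {x : G} (hx : x ∈ normalizer (D.J : Set G)) (h : x ∉ normalizer (D.P₁.V : Set G)) :
    (∀ v, v ∈ D.P₁.V ↔ x * v * x⁻¹ ∈ D.P₂.V) ∧ ∀ v, v ∈ D.P₂.V ↔ x * v * x⁻¹ ∈ D.P₁.V :=
  (D.normalizer_J_cases hx).resolve_left fun h' => h h'.1

theorem inv_mul_straight {x y : G} (hx : x ∈ normalizer (D.J : Set G))
    (hy : y ∈ normalizer (D.J : Set G)) (hx' : x ∉ normalizer (D.P₁.V : Set G))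
    (hy' : y ∉ normalizer (D.P₁.V : Set G)) : x⁻¹ * y ∈ normalizer (D.P₁.V : Set G) := by
  refine mem_normalizer_of fun v hv => ?_
  have h1 := ((D.not_V₁_iff hy hy').1 v).1 hv
  refine ((D.not_V₁_iff hx hx').1 _).2 ?_
  convert h1 using 1
  group

theorem conj_inf {x : G} (hx : x ∈ normalizer (D.J : Set G)) (a : F) :
    ∃ b, D.z b = x * D.z a * x⁻¹ := by
  have ha := D.mem_inf.2 ⟨a, rfl⟩
  refine D.mem_inf.1 ?_
  rcases D.normalizer_J_cases hx with h | h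
  · exact ⟨conj_mem_of h.1 ha.1, conj_mem_of h.2 ha.2⟩
  · exact ⟨(h.2 _).1 ha.2, (h.1 _).1 ha.1⟩

/-- The action on the centre. -/
noncomputable def zmap (x : G) (a : F) : F := Function.invFun D.z (x * D.z a * x⁻¹)

theorem z_zmap {x : G} (hx : x ∈ normalizer (D.J : Set G)) (a : F) :
    D.z (D.zmap x a) = x * D.z a * x⁻¹ := Function.invFun_eq (D.conj_inf hx a)

theorem zmap_eq {x : G} {a b : F} (h : x * D.z a * x⁻¹ = D.z b) : D.zmap x a = b := by
  rw [zmap, h, Function.leftInverse_invFun D.z_inj b]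

/-- Additive coordinates of a homomorphism into `J`. -/
theorem exists_coord {P : F → G} (hP : ∀ s s', P (s + s') = P s * P s') (hm : ∀ s, P s ∈ D.J) :
    ∃ f g : F →+ F, ∀ s, ∃ k, P s = D.jel k (f s) (g s) := by
  choose k f g h using fun s => D.mem_J.1 (hm s)
  have key : ∀ s s', f (s + s') = f s + f s' ∧ g (s + s') = g s + g s' := by
    intro s s'
    have := h (s + s')
    rw [hP, ← h s, ← h s', D.jel_mul] at this
    exact ⟨(D.jel_inj this).2.1, (D.jel_inj this).2.2⟩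
  exact ⟨AddMonoidHom.mk' f fun s s' => (key s s').1, AddMonoidHom.mk' g fun s s' => (key s s').2,
    fun s => ⟨k s, (h s).symm⟩⟩

/-- The action of an element of `N(J)` on `J`. -/
theorem exists_maps {x : G} (hx : x ∈ normalizer (D.J : Set G)) :
    ∃ α f₁ g₁ f₂ g₂ : F →+ F, (∀ a, x * D.z a * x⁻¹ = D.z (α a)) ∧ Function.Injective α ∧
      (∀ s, ∃ k, x * D.y₁ s * x⁻¹ = D.jel k (f₁ s) (g₁ s)) ∧
      (∀ t, ∃ k, x * D.y₂ t * x⁻¹ = D.jel k (f₂ t) (g₂ t)) ∧
      ∀ s t, α (s * t) = g₂ t * f₁ s + g₁ s * f₂ t := by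
  obtain ⟨f₁, g₁, h₁⟩ := D.exists_coord (P := fun s => x * D.y₁ s * x⁻¹)
    (fun s s' => by rw [← D.y₁_add, conj_mul])
    (fun s => conj_mem_of hx (D.y₁_eq s ▸ D.jel_mem _ _ _))
  obtain ⟨f₂, g₂, h₂⟩ := D.exists_coord (P := fun s => x * D.y₂ s * x⁻¹)
    (fun s s' => by rw [← D.y₂_add, conj_mul])
    (fun s => conj_mem_of hx (D.y₂_eq s ▸ D.jel_mem _ _ _))
  have hα : ∀ a, x * D.z a * x⁻¹ = D.z (D.zmap x a) := fun a => (D.z_zmap hx a).symm
  refine ⟨AddMonoidHom.mk' (D.zmap x) fun a b => D.z_inj ?_, f₁, g₁, f₂, g₂, hα,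
    fun a b hab => D.z_inj ?_, h₁, h₂, fun s t => D.z_inj ?_⟩
  · rw [← D.z_add, D.z_zmap hx, D.z_zmap hx, D.z_zmap hx, ← D.z_add, conj_mul]
  · have : x * D.z a * x⁻¹ = x * D.z b * x⁻¹ := by rw [hα, hα]; exact congrArg D.z hab
    simpa using this
  · obtain ⟨k, hk⟩ := h₁ s
    obtain ⟨k', hk'⟩ := h₂ t
    have e : D.z (s * t) = D.y₂ t * D.y₁ s * (D.y₂ t)⁻¹ * (D.y₁ s)⁻¹ := by
      rw [D.y₁_eq, D.y₂_eq, D.comm_jel]; simp [mul_comm]
    show D.z (D.zmap x (s * t)) = _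
    rw [D.z_zmap hx, e, ← conj_mul, ← conj_mul, ← conj_mul, ← conj_inv, ← conj_inv, hk, hk',
      D.comm_jel]

/-- The action of an element normalising `V₁`. -/
theorem exists_straight_maps {x : G} (hx : x ∈ normalizer (D.J : Set G))
    (hV : x ∈ normalizer (D.P₁.V : Set G)) :
    ∃ (σ : F ≃+* F) (b c : F), b ≠ 0 ∧ c ≠ 0 ∧ (∀ a, x * D.z a * x⁻¹ = D.z (b * c * σ a)) ∧
      ∀ a s t, ∃ k, x * D.jel a s t * x⁻¹ = D.jel k (b * σ s) (c * σ t) := by
  obtain ⟨α, f₁, g₁, f₂, g₂, hα, hinj, h₁, h₂, hp⟩ := D.exists_maps hx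
  have hg : ∀ s, g₁ s = 0 := fun s => by
    obtain ⟨k, hk⟩ := h₁ s
    exact D.jel_mem_V₁.1 (hk ▸ conj_mem_of hV (D.P₁.el_mem _))
  have hf : ∀ t, f₂ t = 0 := fun t => by
    obtain ⟨k, hk⟩ := h₂ t
    exact D.jel_mem_V₂.1 (hk ▸ conj_mem_of (D.normalizes_V₂ hx hV) (D.P₂.el_mem _))
  have hp' : ∀ s t, α (s * t) = f₁ s * g₂ t := fun s t => by
    rw [hp, hg, zero_mul, add_zero, mul_comm]
  have h11 := hp' 1 1
  have hne : α 1 ≠ 0 := fun h => one_ne_zero (hinj (h.trans (map_zero α).symm))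
  rw [mul_one] at h11
  have hb : f₁ 1 ≠ 0 := fun h => hne (by rw [h11, h, zero_mul])
  have hc : g₂ 1 ≠ 0 := fun h => hne (by rw [h11, h, mul_zero])
  obtain ⟨σ, h3, h4, h5⟩ := exists_ringEquiv_of_pairing α f₁ g₂ hp' hb hc
  refine ⟨σ, f₁ 1, g₂ 1, hb, hc, fun a => by rw [hα, h5], fun a s t => ?_⟩
  obtain ⟨k, hk⟩ := h₁ s
  obtain ⟨k', hk'⟩ := h₂ t
  refine ⟨α a + k + k', ?_⟩
  rw [D.jel_split a s t, ← conj_mul, ← conj_mul, hα, hk, hk', hg, hf, D.z_eq, D.jel_mul,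
    D.jel_mul, h3 s, h4 t]
  simp

/-- The action of an element exchanging `V₁` and `V₂`. -/
theorem exists_swap_maps {x : G} (hx : x ∈ normalizer (D.J : Set G))
    (hV : x ∉ normalizer (D.P₁.V : Set G)) :
    ∃ (σ : F ≃+* F) (b c : F), b ≠ 0 ∧ c ≠ 0 ∧ (∀ a, x * D.z a * x⁻¹ = D.z (b * c * σ a)) ∧
      ∀ a s t, ∃ k, x * D.jel a s t * x⁻¹ = D.jel k (c * σ t) (b * σ s) := by
  obtain ⟨α, f₁, g₁, f₂, g₂, hα, hinj, h₁, h₂, hp⟩ := D.exists_maps hx
  have hV' := D.not_V₁_iff hx hV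
  have hg : ∀ s, f₁ s = 0 := fun s => by
    obtain ⟨k, hk⟩ := h₁ s
    exact D.jel_mem_V₂.1 (hk ▸ (hV'.1 _).1 (D.P₁.el_mem _))
  have hf : ∀ t, g₂ t = 0 := fun t => by
    obtain ⟨k, hk⟩ := h₂ t
    exact D.jel_mem_V₁.1 (hk ▸ (hV'.2 _).1 (D.P₂.el_mem _))
  have hp' : ∀ s t, α (s * t) = g₁ s * f₂ t := fun s t => by
    rw [hp, hg, mul_zero, zero_add]
  have h11 := hp' 1 1
  have hne : α 1 ≠ 0 := fun h => one_ne_zero (hinj (h.trans (map_zero α).symm))
  rw [mul_one] at h11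
  have hb : g₁ 1 ≠ 0 := fun h => hne (by rw [h11, h, zero_mul])
  have hc : f₂ 1 ≠ 0 := fun h => hne (by rw [h11, h, mul_zero])
  obtain ⟨σ, h3, h4, h5⟩ := exists_ringEquiv_of_pairing α g₁ f₂ hp' hb hc
  refine ⟨σ, g₁ 1, f₂ 1, hb, hc, fun a => by rw [hα, h5], fun a s t => ?_⟩
  obtain ⟨k, hk⟩ := h₁ s
  obtain ⟨k', hk'⟩ := h₂ t
  refine ⟨α a + k + k' + g₁ s * f₂ t, ?_⟩
  rw [D.jel_split a s t, ← conj_mul, ← conj_mul, hα, hk, hk', hg, hf, D.z_eq, D.jel_mul,
    D.jel_mul, h3 s, h4 t]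
  simp

theorem exists_zmap_form {x : G} (hx : x ∈ normalizer (D.J : Set G)) :
    ∃ (σ : F ≃+* F) (e : F), e ≠ 0 ∧ ∀ a, D.zmap x a = e * σ a := by
  by_cases hV : x ∈ normalizer (D.P₁.V : Set G)
  · obtain ⟨σ, b, c, hb, hc, hz, -⟩ := D.exists_straight_maps hx hV
    exact ⟨σ, _, mul_ne_zero hb hc, fun a => D.zmap_eq (hz a)⟩
  · obtain ⟨σ, b, c, hb, hc, hz, -⟩ := D.exists_swap_maps hx hV
    exact ⟨σ, _, mul_ne_zero hb hc, fun a => D.zmap_eq (hz a)⟩

open Classical in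
/-- The field automorphism of an element of `N(J)`. -/
noncomputable def fieldAut (x : G) : F ≃+* F :=
  if h : ∃ σ : F ≃+* F, ∀ a, D.zmap x a = D.zmap x 1 * σ a then h.choose else 1

theorem fieldAut_eq {x : G} {σ : F ≃+* F} {e : F} (he : e ≠ 0) (h : ∀ a, D.zmap x a = e * σ a) :
    D.fieldAut x = σ := by
  have hx : ∃ τ : F ≃+* F, ∀ a, D.zmap x a = D.zmap x 1 * τ a := ⟨σ, fun a => by rw [h, h 1]; simp⟩
  rw [fieldAut, dif_pos hx]
  ext a
  have h1 := h 1
  rw [map_one, mul_one] at h1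
  have := hx.choose_spec a
  generalize hx.choose = τ at this ⊢
  rw [h, h1] at this
  exact (mul_left_cancel₀ he this).symm

theorem zmap_fieldAut {x : G} (hx : x ∈ normalizer (D.J : Set G)) (a : F) :
    D.zmap x a = D.zmap x 1 * D.fieldAut x a := by
  obtain ⟨σ, e, he, h⟩ := D.exists_zmap_form hx
  rw [D.fieldAut_eq he h, h, h 1, map_one, mul_one]

theorem zmap_one_ne {x : G} (hx : x ∈ normalizer (D.J : Set G)) : D.zmap x 1 ≠ 0 := by
  obtain ⟨σ, e, he, h⟩ := D.exists_zmap_form hx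
  rw [h, map_one, mul_one]; exact he

theorem zmap_comp {x y : G} (hy : y ∈ normalizer (D.J : Set G)) (hx : x ∈ normalizer (D.J : Set G))
    (a : F) : D.zmap (x * y) a = D.zmap x (D.zmap y a) := by
  refine D.zmap_eq ?_
  rw [D.z_zmap hx, D.z_zmap hy]; group

theorem fieldAut_mul {x y : G} (hx : x ∈ normalizer (D.J : Set G))
    (hy : y ∈ normalizer (D.J : Set G)) : D.fieldAut (x * y) = D.fieldAut x * D.fieldAut y := by
  refine D.fieldAut_eq (e := D.zmap x 1 * D.fieldAut x (D.zmap y 1)) ?_ fun a => ?_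
  · exact mul_ne_zero (D.zmap_one_ne hx) ((map_ne_zero _).2 (D.zmap_one_ne hy))
  · rw [D.zmap_comp hy hx, D.zmap_fieldAut hx, D.zmap_fieldAut hy, map_mul, ← mul_assoc]
    rfl

/-- `fieldAut` as a homomorphism on `N(J)`. -/
noncomputable def fieldHom : ↥(normalizer (D.J : Set G)) →* (F ≃+* F) :=
  MonoidHom.mk' (fun x => D.fieldAut x) fun x y => D.fieldAut_mul x.2 y.2

theorem fieldAut_one : D.fieldAut (1 : G) = 1 := D.fieldHom.map_one

theorem fieldAut_inv {x : G} (hx : x ∈ normalizer (D.J : Set G)) :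
    D.fieldAut x⁻¹ = (D.fieldAut x)⁻¹ := D.fieldHom.map_inv ⟨x, hx⟩

theorem J_le_normalizer : D.J ≤ normalizer (D.J : Set G) := Subgroup.le_normalizer

theorem zmap_of_mem_J {x : G} (hx : x ∈ D.J) (a : F) : D.zmap x a = a := by
  refine D.zmap_eq ?_
  rw [mem_centralizer_iff.1 (D.z_mem_center a) x hx, mul_inv_cancel_right]

theorem fieldAut_of_mem_J {x : G} (hx : x ∈ D.J) : D.fieldAut x = 1 :=
  D.fieldAut_eq (e := 1) one_ne_zero fun a => by rw [D.zmap_of_mem_J hx, one_mul]; rfl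

/-- Fixed points on `Z` of an element with nontrivial field automorphism. -/
theorem card_zfix_sq_le {x : G} (hx : x ∈ normalizer (D.J : Set G)) (hθ : D.fieldAut x ≠ 1)
    {A : Subgroup G} (hA : A ≤ D.P₁.V ⊓ D.P₂.V) (hc : ∀ v ∈ A, x * v * x⁻¹ = v) :
    Nat.card A ^ 2 ≤ Fintype.card F := by
  choose f hf using fun v : A => D.mem_inf.1 (hA v.2)
  rw [← Nat.card_eq_fintype_card]
  refine le_trans (Nat.pow_le_pow_left (Nat.card_le_card_of_injective (fun v : A =>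
    (⟨f v, ?_⟩ : {a : F // D.zmap x 1 * D.fieldAut x a = a})) ?_) 2) (card_semifix_sq_le hθ _)
  · rw [← D.zmap_fieldAut hx]
    exact D.zmap_eq (by rw [hf]; exact hc _ v.2)
  · intro v w hvw
    have e : f v = f w := congrArg Subtype.val hvw
    exact Subtype.ext (by rw [← hf v, ← hf w, e])

/-- Fixed points on `V₁` of an element with nontrivial field automorphism. -/
theorem card_V₁fix_le {x : G} (hx : x ∈ normalizer (D.J : Set G))
    (hV : x ∈ normalizer (D.P₁.V : Set G)) (hθ : D.fieldAut x ≠ 1)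
    {A : Subgroup G} (hA : A ≤ D.P₁.V) (hc : ∀ v ∈ A, x * v * x⁻¹ = v) :
    Nat.card A ≤ Fintype.card F := by
  obtain ⟨σ, b, c, hb, hc0, hz, hj⟩ := D.exists_straight_maps hx hV
  have hσ : D.fieldAut x = σ := D.fieldAut_eq (mul_ne_zero hb hc0) fun a => D.zmap_eq (hz a)
  rw [hσ] at hθ
  choose a s hv using fun v : A => (show ∃ a s, D.P₁.el ![a, s] = (v : G) by
    obtain ⟨w, hw⟩ := D.P₁.el_surj _ (hA v.2); exact ⟨w 0, w 1, vec2_eta w ▸ hw⟩)
  let f : A →* Multiplicative F := MonoidHom.mk' (fun v => Multiplicative.ofAdd (s v)) fun v w => by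
    have e := hv (v * w)
    rw [Subgroup.coe_mul, ← hv v, ← hv w, ← D.P₁.el_add] at e
    have := congrFun (D.P₁.el_inj e) 1
    simp at this
    rw [this]; rfl
  have h1 : Nat.card f.range ≤ Nat.card {a : F // b * σ a = a} := by
    refine Nat.card_le_card_of_injective (fun m : f.range => (⟨Multiplicative.toAdd m.1, ?_⟩ :
      {a : F // b * σ a = a})) fun m n hmn => by
        have e : Multiplicative.toAdd m.1 = Multiplicative.toAdd n.1 :=
          congrArg (fun y : {a : F // b * σ a = a} => y.1) hmn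
        exact Subtype.ext (Multiplicative.toAdd.injective e)
    obtain ⟨v, hv'⟩ := m.2
    rw [← hv']
    obtain ⟨k, hk⟩ := hj (a v) (s v) 0
    have e : D.jel (a v) (s v) 0 = v := by rw [Data.jel, D.y₂_zero, mul_one, hv]
    rw [e, hc _ v.2, ← e] at hk
    exact (D.jel_inj hk).2.1.symm
  have h2 : Nat.card f.ker ≤ Nat.card {a : F // b * c * σ a = a} := by
    have hker : ∀ v : f.ker, D.z (a v.1) = (v.1 : G) := fun v => by
      have : s v.1 = 0 := Multiplicative.ofAdd.injective v.2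
      rw [← hv, this]; rfl
    refine Nat.card_le_card_of_injective (fun v : f.ker => (⟨a v.1, ?_⟩ :
      {a : F // b * c * σ a = a})) fun v w hvw => Subtype.ext (Subtype.ext ?_)
    · exact D.z_inj (by rw [← hz, hker, hc _ v.1.2])
    · have e : a v.1 = a w.1 := congrArg Subtype.val hvw
      rw [← hker v, ← hker w, e]
  have e1 := card_semifix_sq_le hθ b
  have e2 := card_semifix_sq_le hθ (b * c)
  rw [← Subgroup.card_mul_index f.ker, Subgroup.index_ker]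
  rw [Nat.card_eq_fintype_card (α := F)] at e1 e2
  nlinarith [Nat.mul_le_mul h2 h1]

end Data

namespace Hyp

variable {D : Data F G} (h : Hyp D)
include h

/-- A `2`-element normalising `V₁` with trivial field automorphism lies in `J`. -/
theorem mem_J_of_kernel {x : G} (hx : x ∈ normalizer (D.J : Set G))
    (hV : x ∈ normalizer (D.P₁.V : Set G)) (hθ : D.fieldAut x = 1) {n : ℕ}
    (hn : x ^ 2 ^ n = 1) : x ∈ D.J := by
  obtain ⟨σ, b, c, hb, hc, hz, hj⟩ := D.exists_straight_maps hx hV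
  have hσ : σ = 1 := by
    rw [← hθ]; exact (D.fieldAut_eq (mul_ne_zero hb hc) fun a => D.zmap_eq (hz a)).symm
  subst hσ
  simp only [RingAut.one_apply] at hz hj
  have key : ∀ m : ℕ, ∀ a s t, ∃ k,
      x ^ m * D.jel a s t * (x ^ m)⁻¹ = D.jel k (b ^ m * s) (c ^ m * t) := by
    intro m
    induction m with
    | zero => intro a s t; exact ⟨a, by simp⟩
    | succ m ih =>
      intro a s t
      obtain ⟨k, hk⟩ := ih a s t
      obtain ⟨k', hk'⟩ := hj k (b ^ m * s) (c ^ m * t)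
      refine ⟨k', ?_⟩
      rw [pow_succ' x, _root_.mul_inv_rev, show x * x ^ m * D.jel a s t * ((x ^ m)⁻¹ * x⁻¹) =
        x * (x ^ m * D.jel a s t * (x ^ m)⁻¹) * x⁻¹ by group, hk, hk', ← mul_assoc, ← mul_assoc,
        ← pow_succ', ← pow_succ']
  obtain ⟨k, hk⟩ := key (2 ^ n) 0 1 1
  rw [hn, one_mul, inv_one, mul_one, mul_one, mul_one] at hk
  obtain ⟨-, hb1, hc1⟩ := D.jel_inj hk
  have hb1 := eq_of_pow_two_eq_one hb1.symm
  have hc1 := eq_of_pow_two_eq_one hc1.symm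
  refine h.mem_J_of_trivial hV (fun a => by rw [hz, hb1, hc1, one_mul, one_mul]) fun s => ?_
  obtain ⟨k, hk⟩ := hj 0 s 0
  exact ⟨k, by rw [D.y₁_eq, hk, hb1, one_mul, mul_zero, D.z_eq, D.jel_mul]; simp⟩

/-- Two `2`-elements with the same field automorphism differ by `J`. -/
theorem inv_mul_mem_J {S : Subgroup G} (hS : IsPGroup 2 S) (hSN : S ≤ normalizer (D.J : Set G))
    {u v : G} (hu : u ∈ S) (hv : v ∈ S) (hu1 : u ∈ normalizer (D.P₁.V : Set G))
    (hv1 : v ∈ normalizer (D.P₁.V : Set G)) (he : D.fieldAut u = D.fieldAut v) :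
    u⁻¹ * v ∈ D.J := by
  obtain ⟨n, hn⟩ := hS ⟨u⁻¹ * v, S.mul_mem (S.inv_mem hu) hv⟩
  refine h.mem_J_of_kernel (mul_mem (inv_mem (hSN hu)) (hSN hv)) (mul_mem (inv_mem hu1) hv1) ?_
    (congrArg Subtype.val hn)
  rw [D.fieldAut_mul (inv_mem (hSN hu)) (hSN hv), D.fieldAut_inv (hSN hu), he, inv_mul_cancel]

omit h in
theorem isPGroup_of_sq {W : Subgroup G} (h2 : ∀ w ∈ W, w * w = 1) : IsPGroup 2 W :=
  fun w => ⟨1, Subtype.ext (by rw [pow_one, sq]; exact h2 _ w.2)⟩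

/-- Straight involutions outside `J` all induce the same field automorphism. -/
theorem fieldAut_eq_of_invol {u v : G} (hu : u ∈ normalizer (D.J : Set G))
    (hv : v ∈ normalizer (D.J : Set G)) (hu1 : u ∈ normalizer (D.P₁.V : Set G))
    (hv1 : v ∈ normalizer (D.P₁.V : Set G)) (hu2 : u * u = 1) (hv2 : v * v = 1) (hu3 : u ∉ D.J)
    (hv3 : v ∉ D.J) : D.fieldAut u = D.fieldAut v ∧ D.fieldAut u ≠ 1 := by
  have key : ∀ w, w ∈ normalizer (D.J : Set G) → w ∈ normalizer (D.P₁.V : Set G) → w * w = 1 →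
      w ∉ D.J → orderOf (D.fieldAut w) = 2 := by
    intro w hw hw1 hw2 hw3
    refine orderOf_eq_prime ?_ fun h1 => hw3 (h.mem_J_of_kernel (n := 1) hw hw1 h1
      (by rw [pow_one, sq, hw2]))
    rw [sq, ← D.fieldAut_mul hw hw, hw2, D.fieldAut_one]
  exact ⟨OrthEven.ringAut_involution_unique (key u hu hu1 hu2 hu3) (key v hv hv1 hv2 hv3),
    fun h1 => by simpa [h1] using key u hu hu1 hu2 hu3⟩

/-- The straight part of an elementary subgroup. -/
theorem card_straight_le {W : Subgroup G} (hW : W ≤ normalizer (D.J : Set G))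
    (h2 : ∀ w ∈ W, w * w = 1) :
    Nat.card ↥(W ⊓ normalizer (D.P₁.V : Set G)) ≤ 2 * Nat.card ↥(W ⊓ D.J) := by
  refine card_le_two_mul fun u hu v hv hu' hv' => ⟨W.mul_mem (W.inv_mem hu.1) hv.1, ?_⟩
  exact h.inv_mul_mem_J (isPGroup_of_sq h2) hW hu.1 hv.1 hu.2 hv.2
    (h.fieldAut_eq_of_invol (hW hu.1) (hW hv.1) hu.2 hv.2 (h2 _ hu.1) (h2 _ hv.1)
      (fun h' => hu' ⟨hu.1, h'⟩) (fun h' => hv' ⟨hv.1, h'⟩)).1

omit h in
theorem card_all_le {W : Subgroup G} (hW : W ≤ normalizer (D.J : Set G)) :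
    Nat.card W ≤ 2 * Nat.card ↥(W ⊓ normalizer (D.P₁.V : Set G)) :=
  card_le_two_mul fun u hu v hv hu' hv' => ⟨W.mul_mem (W.inv_mem hu) hv,
    D.inv_mul_straight (hW hu) (hW hv) (fun h' => hu' ⟨hu, h'⟩) fun h' => hv' ⟨hv, h'⟩⟩

omit h in
/-- An element exchanging `V₁` and `V₂` fixes nothing of `V₁` outside `Z`. -/
theorem fix_le_inf {x : G} (hx : x ∈ normalizer (D.J : Set G))
    (hV : x ∉ normalizer (D.P₁.V : Set G)) {A : Subgroup G}
    (hA : A ≤ D.P₁.V ∨ A ≤ D.P₂.V) (hc : ∀ v ∈ A, x * v * x⁻¹ = v) :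
    A ≤ D.P₁.V ⊓ D.P₂.V := by
  intro v hv
  rcases hA with hA | hA
  · exact ⟨hA hv, hc v hv ▸ ((D.not_V₁_iff hx hV).1 v).1 (hA hv)⟩
  · exact ⟨hc v hv ▸ ((D.not_V₁_iff hx hV).2 v).1 (hA hv), hA hv⟩

omit h in
theorem card_inf : Nat.card ↥(D.P₁.V ⊓ D.P₂.V) = Fintype.card F := by
  rw [← Nat.card_eq_fintype_card]
  exact (Nat.card_congr (Equiv.ofBijective (fun a => (⟨D.z a, D.mem_inf.2 ⟨a, rfl⟩⟩ :
    ↥(D.P₁.V ⊓ D.P₂.V))) ⟨fun a b hab => D.z_inj (congrArg Subtype.val hab),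
      fun v => by obtain ⟨a, ha⟩ := D.mem_inf.1 v.2; exact ⟨a, Subtype.ext ha⟩⟩)).symm

/-- An elementary subgroup of `N(J)` outside `J` has order at most `2q`. -/
theorem card_elem_le {W : Subgroup G} (hW : W ≤ normalizer (D.J : Set G))
    (h2 : ∀ w ∈ W, w * w = 1) (hc : ∀ u ∈ W, ∀ v ∈ W, u * v = v * u) (hWJ : ¬W ≤ D.J) :
    Nat.card W ≤ 2 * Fintype.card F := by
  have hor : W ⊓ D.J ≤ D.P₁.V ∨ W ⊓ D.J ≤ D.P₂.V :=
    D.mem_V₁_or_le inf_le_right fun a ha => h2 a ha.1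
  have hfix : ∀ x ∈ W, ∀ v ∈ W ⊓ D.J, x * v * x⁻¹ = v := fun x hx v hv => by
    rw [hc x hx v hv.1, mul_inv_cancel_right]
  have h1 := h.card_straight_le hW h2
  have h0 := card_all_le (D := D) hW
  have h4 := h.hq
  by_cases hf : ∃ u ∈ W, u ∈ normalizer (D.P₁.V : Set G) ∧ u ∉ D.J
  · obtain ⟨u, hu, hu1, huJ⟩ := hf
    have hθ := (h.fieldAut_eq_of_invol (hW hu) (hW hu) hu1 hu1 (h2 u hu) (h2 u hu) huJ huJ).2
    by_cases hs : ∃ w ∈ W, w ∉ normalizer (D.P₁.V : Set G)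
    · obtain ⟨w, hw, hw1⟩ := hs
      have := D.card_zfix_sq_le (hW hu) hθ (fix_le_inf (hW hw) hw1 hor (hfix w hw))
        (hfix u hu)
      nlinarith
    · push Not at hs
      have hcJ : Nat.card ↥(W ⊓ D.J) ≤ Fintype.card F := by
        rcases hor with hor | hor
        · exact D.card_V₁fix_le (hW hu) hu1 hθ hor (hfix u hu)
        · have hθ' : D.swap.fieldAut u ≠ 1 := by
            intro h1
            refine huJ ?_
            rw [← D.swap_J]
            exact h.swap.mem_J_of_kernel (n := 1) (D.swap_J.symm ▸ hW hu)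
              (D.normalizes_V₂ (hW hu) hu1) h1 (by rw [pow_one, sq, h2 u hu])
          exact D.swap.card_V₁fix_le (D.swap_J.symm ▸ hW hu) (D.normalizes_V₂ (hW hu) hu1) hθ' hor
            (hfix u hu)
      have e : W ⊓ normalizer (D.P₁.V : Set G) = W := inf_eq_left.2 hs
      rw [e] at h1
      omega
  · push Not at hf
    have hs : ∃ w ∈ W, w ∉ normalizer (D.P₁.V : Set G) := by
      by_contra hs
      push Not at hs
      exact hWJ fun w hw => hf w hw (hs w hw)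
    obtain ⟨w, hw, hw1⟩ := hs
    have e1 : Nat.card ↥(W ⊓ normalizer (D.P₁.V : Set G)) ≤ Nat.card ↥(W ⊓ D.J) :=
      Subgroup.card_le_of_le fun u hu => ⟨hu.1, hf u hu.1 hu.2⟩
    have := Subgroup.card_le_of_le (fix_le_inf (hW hw) hw1 hor (hfix w hw))
    rw [card_inf] at this
    omega

/-- An elementary subgroup of order `q²` in `N(J)` is `V₁` or `V₂`. -/
theorem elem_eq {W : Subgroup G} (hW : W ≤ normalizer (D.J : Set G))
    (h2 : ∀ w ∈ W, w * w = 1) (hc : ∀ u ∈ W, ∀ v ∈ W, u * v = v * u)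
    (hcard : Nat.card W = Fintype.card F ^ 2) : W = D.P₁.V ∨ W = D.P₂.V := by
  have hWJ : W ≤ D.J := by
    by_contra hWJ
    have := h.card_elem_le hW h2 hc hWJ
    have := h.hq
    nlinarith
  rcases D.mem_V₁_or_le hWJ h2 with h' | h'
  · exact Or.inl (Subgroup.eq_of_le_of_card_ge h' (by rw [hcard, D.P₁.card_V]))
  · exact Or.inr (Subgroup.eq_of_le_of_card_ge h' (by rw [hcard, D.P₂.card_V]))

/-- Conjugates of `V₁`, `V₂` inside `N(J)`. -/
theorem conj_V_eq {g : G} {P : Par F G} (hP : ∀ v ∈ P.V, g * v * g⁻¹ ∈ normalizer (D.J : Set G)) :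
    P.V.map (MulAut.conj g).toMonoidHom = D.P₁.V ∨ P.V.map (MulAut.conj g).toMonoidHom = D.P₂.V := by
  refine h.elem_eq ?_ ?_ ?_ ?_
  · rintro _ ⟨v, hv, rfl⟩; exact hP v hv
  · rintro _ ⟨v, hv, rfl⟩; rw [← map_mul, P.sqV hv, map_one]
  · rintro _ ⟨u, hu, rfl⟩ _ ⟨v, hv, rfl⟩; rw [← map_mul, ← map_mul, P.commV hu hv]
  · rw [Subgroup.card_map_of_injective (MulAut.conj g).injective, P.card_V]

/-- A `2`-subgroup containing `J` normalises it. -/
theorem le_normalizer_J {Q : Subgroup G} (hQ : IsPGroup 2 Q) (hJQ : D.J ≤ Q) :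
    Q ≤ normalizer (D.J : Set G) := by
  haveI : Fact (Nat.Prime 2) := ⟨Nat.prime_two⟩
  set S := Q ⊓ normalizer (D.J : Set G) with hS
  by_contra hne
  haveI := hQ.isNilpotent
  have hlt : S.subgroupOf Q < ⊤ := lt_top_iff_ne_top.2 fun h' =>
    hne ((subgroupOf_eq_top.1 h').trans inf_le_right)
  obtain ⟨⟨g, hgQ⟩, hgN, hgS⟩ :=
    SetLike.exists_of_lt (Group.normalizerCondition_of_isNilpotent _ hlt)
  have hg : ∀ v ∈ S, g * v * g⁻¹ ∈ S := fun v hv =>
    (mem_normalizer_iff.1 hgN ⟨v, hv.1⟩).1 hv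
  have hJS : D.J ≤ S := le_inf hJQ D.J_le_normalizer
  refine hgS (mem_subgroupOf.2 ⟨hgQ, ?_⟩)
  have key : ∀ P : Par F G, P.V ≤ D.J → P.V.map (MulAut.conj g).toMonoidHom ≤ D.J := by
    intro P hP
    rcases h.conj_V_eq (g := g) (P := P) (fun v hv => (hg v (hJS (hP hv))).2) with e | e <;> rw [e]
    · exact le_sup_left
    · exact le_sup_right
  have : D.J.map (MulAut.conj g).toMonoidHom ≤ D.J := by
    rw [Data.J, Subgroup.map_sup]
    exact sup_le (key D.P₁ le_sup_left) (key D.P₂ le_sup_right)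
  exact mem_normalizer_of fun v hv => this ⟨v, hv, rfl⟩

end Hyp

end Cfsg.Agent.TwoNatural
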