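import Cfsg.Agent.Lib.TwoNatural.Lambda
import Cfsg.Agent.Lib.LThreeRec.Steinberg

/-!
# Two natural parabolics: the six root groups generate an image of `SL₃(F)` (S3091)

* `p_eq_one`; `exists_hom`
-/

set_option autoImplicit false
set_option linter.unusedSectionVars false

open Matrix Cfsg.Agent.SL2Module Subgroup

namespace Cfsg.Agent.TwoNatural

universe u v

variable {F : Type v} [Field F] [Fintype F] [CharP F 2] {G : Type u} [Group G] [Finite G]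

namespace Tor

variable {D : Data F G} (τ : Tor D) (h : Hyp D)

/-- The root group of `-α-β`. -/
noncomputable def ξ (t : F) : G := τ.n₁ h * τ.a21 h t * τ.n₁ h

/-- The same root group seen from `L₂`. -/
noncomputable def ξ' (t : F) : G := τ.n₂ h * τ.a10 h t * τ.n₂ h

include h

theorem conj_n₁_mul (x y : G) :
    τ.n₁ h * x * τ.n₁ h * (τ.n₁ h * y * τ.n₁ h) = τ.n₁ h * (x * y) * τ.n₁ h := by
  calc τ.n₁ h * x * τ.n₁ h * (τ.n₁ h * y * τ.n₁ h)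
      = τ.n₁ h * x * (τ.n₁ h * τ.n₁ h) * y * τ.n₁ h := by group
    _ = _ := by rw [τ.n₁_sq]; group

theorem conj_n₂_mul (x y : G) :
    τ.n₂ h * x * τ.n₂ h * (τ.n₂ h * y * τ.n₂ h) = τ.n₂ h * (x * y) * τ.n₂ h :=
  τ.swap.conj_n₁_mul h.swap x y

theorem conj_n₁_inv (x : G) : (τ.n₁ h * x * τ.n₁ h)⁻¹ = τ.n₁ h * x⁻¹ * τ.n₁ h := by
  refine inv_eq_of_mul_eq_one_right ?_
  rw [τ.conj_n₁_mul, mul_inv_cancel, mul_one, τ.n₁_sq]

theorem conj_n₂_inv (x : G) : (τ.n₂ h * x * τ.n₂ h)⁻¹ = τ.n₂ h * x⁻¹ * τ.n₂ h :=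
  τ.swap.conj_n₁_inv h.swap x

theorem transfer₁ {x x' y y' z z' : G} (hx : τ.n₁ h * x * τ.n₁ h = x')
    (hy : τ.n₁ h * y * τ.n₁ h = y') (hz : τ.n₁ h * z * τ.n₁ h = z')
    (e : x * y * x⁻¹ * y⁻¹ = z) : x' * y' * x'⁻¹ * y'⁻¹ = z' := by
  subst hx; subst hy; subst hz
  rw [τ.conj_n₁_inv, τ.conj_n₁_inv, τ.conj_n₁_mul, τ.conj_n₁_mul, τ.conj_n₁_mul, e]

theorem transfer₂ {x x' y y' z z' : G} (hx : τ.n₂ h * x * τ.n₂ h = x')
    (hy : τ.n₂ h * y * τ.n₂ h = y') (hz : τ.n₂ h * z * τ.n₂ h = z')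
    (e : x * y * x⁻¹ * y⁻¹ = z) : x' * y' * x'⁻¹ * y'⁻¹ = z' :=
  τ.swap.transfer₁ h.swap hx hy hz e

theorem comm₁ {x x' y y' : G} (hx : τ.n₁ h * x * τ.n₁ h = x')
    (hy : τ.n₁ h * y * τ.n₁ h = y') (e : Commute x y) : Commute x' y' := by
  subst hx; subst hy
  show _ * _ = _ * _
  rw [τ.conj_n₁_mul, τ.conj_n₁_mul, e.eq]

theorem comm₂ {x x' y y' : G} (hx : τ.n₂ h * x * τ.n₂ h = x')
    (hy : τ.n₂ h * y * τ.n₂ h = y') (e : Commute x y) : Commute x' y' :=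
  τ.swap.comm₁ h.swap hx hy e

theorem a10_add (s t : F) : τ.a10 h s * τ.a10 h t = τ.a10 h (s + t) := by
  rw [a10, a10, a10, ← map_mul, lo_mul]

theorem a21_add (s t : F) : τ.a21 h s * τ.a21 h t = τ.a21 h (s + t) :=
  τ.swap.a10_add h.swap s t

theorem a10_zero : τ.a10 h 0 = 1 := by
  have := τ.a10_add h 0 0
  rw [add_zero] at this
  exact mul_eq_left.1 this

theorem a10_inv (s : F) : (τ.a10 h s)⁻¹ = τ.a10 h s := inv_eq_of_mul_eq_one_right (by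
  rw [τ.a10_add, CharTwo.add_self_eq_zero, τ.a10_zero])

theorem a21_inv (s : F) : (τ.a21 h s)⁻¹ = τ.a21 h s := τ.swap.a10_inv h.swap s

theorem ξ_add (s t : F) : τ.ξ h s * τ.ξ h t = τ.ξ h (s + t) := by
  rw [ξ, ξ, ξ, τ.conj_n₁_mul, τ.a21_add]

/-- `[lo, V₁]` into the other root group. -/
theorem b2 (s t : F) :
    τ.a10 h s * D.z t * (τ.a10 h s)⁻¹ * (D.z t)⁻¹ = D.y₁ (s * t) := by
  rw [a10, Data.z, τ.φ_act, lo_mulVec, D.P₁.el_inv, ← D.P₁.el_add, Data.y₁]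
  congr 1
  ext i; fin_cases i <;> simp [CharTwo.add_self_eq_zero]

theorem b5 (s t : F) :
    D.z s * τ.a21 h t * (D.z s)⁻¹ * (τ.a21 h t)⁻¹ = D.y₂ (s * t) := by
  have e : τ.a21 h t * D.P₂.el ![s, 0] * (τ.a21 h t)⁻¹ = D.P₂.el ![s, t * s] := by
    rw [a21]
    show τ.swap.φ h.swap (lo t) * D.swap.P₁.el ![s, 0] * (τ.swap.φ h.swap (lo t))⁻¹ = _
    rw [τ.swap.φ_act, lo_mulVec]
    show D.P₂.el _ = _
    simp
  rw [Data.z, ← D.base, D.P₂.el_inv,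
    show D.P₂.el ![s, 0] * τ.a21 h t * D.P₂.el ![s, 0] * (τ.a21 h t)⁻¹ =
      D.P₂.el ![s, 0] * (τ.a21 h t * D.P₂.el ![s, 0] * (τ.a21 h t)⁻¹) by group, e, ← D.P₂.el_add,
    Data.y₂]
  congr 1
  ext i; fin_cases i <;> simp [CharTwo.add_self_eq_zero, mul_comm]

theorem d2 (s t : F) : Commute (D.y₂ s) (τ.a21 h t) := by
  show _ * _ = _ * _
  refine (mul_inv_eq_iff_eq_mul.1 ?_).symm
  rw [a21, Data.y₂]
  show τ.swap.φ h.swap (lo t) * D.swap.P₁.el ![0, s] * _ = _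
  rw [τ.swap.φ_act, lo_mulVec]
  show D.P₂.el _ = _
  simp

theorem d5 (s t : F) : Commute (τ.a10 h s) (D.y₁ t) := by
  refine mul_inv_eq_iff_eq_mul.1 ?_
  rw [a10, Data.y₁, τ.φ_act, lo_mulVec]
  simp

theorem eq_zero_of_a10_eq_ξ {w v : F} (e : τ.a10 h w = τ.ξ h v) : w = 0 := by
  have h1 : D.y₂ w = τ.a21 h v := by
    rw [← τ.conj_n₁_a10 h w, e, ξ, τ.n₁_conj]
  have h2 : τ.a21 h v ∈ D.P₂.V := h1 ▸ D.P₂.el_mem _
  have h3 : D.P₂.π ⟨τ.a21 h v, D.P₂.le h2⟩ = 1 := D.P₂.π_of_mem h2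
  have h4 : D.P₂.π ⟨τ.a21 h v, D.P₂.le h2⟩ = lo v := τ.swap.φ_π h.swap (lo v)
  rw [h3] at h4
  have hv : v = 0 := by simpa [lo_val] using (congrFun (congrFun (congrArg Subtype.val h4) 1) 0).symm
  rw [hv, show τ.a21 h (0 : F) = 1 from τ.swap.a10_zero h.swap] at h1
  exact D.y₂_inj (h1.trans D.y₂_zero.symm)

/-- The parameter is `1`. -/
theorem p_eq_one {p : F} (hp : p ≠ 0) (hY : ∀ t, τ.Y h t = τ.a10 h (p * t)) : p = 1 := by
  have hξ : ∀ t, τ.ξ h t = τ.ξ' h (p * t) := fun t => by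
    rw [ξ', ← hY, Y, τ.n₂_conj]; rfl
  have hξn : ∀ t, τ.n₂ h * τ.ξ h t * τ.n₂ h = τ.a10 h (p * t) := hY
  -- three commutator formulas
  have R1 : ∀ s t, D.y₁ s * τ.ξ h t * (D.y₁ s)⁻¹ * (τ.ξ h t)⁻¹ = τ.a10 h (s * t) := fun s t =>
    τ.transfer₁ h (τ.conj_n₁_z h s) rfl (τ.conj_n₁_y₂ h _) (τ.b5 h s t)
  have R2 : ∀ s u, τ.a21 h s * τ.a10 h u * (τ.a21 h s)⁻¹ * (τ.a10 h u)⁻¹ = τ.ξ' h (s * (u / p)) :=
    fun s u => τ.transfer₂ h (τ.conj_n₂_y₁ h s) (by rw [hξn, mul_div_cancel₀ u hp]) rfl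
      (R1 s (u / p))
  have R3 : ∀ s u, D.y₁ s * τ.ξ' h u * (D.y₁ s)⁻¹ * (τ.ξ' h u)⁻¹ = τ.a10 h (s * (u / p)) :=
    fun s u => by
      have := R1 s (u / p)
      rwa [hξ, mul_div_cancel₀ u hp] at this
  have C1 : ∀ s v, Commute (τ.a21 h s) (τ.ξ' h v) := fun s v =>
    τ.comm₂ h (τ.conj_n₂_y₁ h s) rfl (τ.d5 h v s).symm
  have C2 : ∀ s v, Commute (τ.a10 h s) (τ.ξ' h v) := fun s v => by
    have := τ.comm₁ h (τ.conj_n₁_y₂ h s) (rfl : τ.n₁ h * τ.a21 h (v / p) * τ.n₁ h = τ.ξ h (v / p))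
      (τ.d2 h s (v / p))
    change Commute (τ.a10 h s) (τ.ξ h (v / p)) at this
    rwa [hξ, mul_div_cancel₀ v hp] at this
  set A := τ.a21 h 1 with hA
  set B := D.y₁ (1 : F) with hB
  have hAB : τ.n₂ h = A * B * A := by
    rw [hA, hB, a21, n₂, show D.y₁ (1 : F) = τ.swap.φ h.swap (up 1) from
      (τ.swap.φ_up h.swap 1).symm, ← map_mul, ← map_mul]
    congr 1
    refine Subtype.ext ?_
    ext i j; fin_cases i <;> fin_cases j <;>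
      simp [wm_val, lo_val, up_val, Matrix.mul_apply, Fin.sum_univ_two, CharTwo.add_self_eq_zero]
  have hAi : A⁻¹ = A := τ.a21_inv h 1
  have hBi : B⁻¹ = B := D.P₁.el_inv _
  have step : ∀ {x g c : G}, x⁻¹ = x → x * g * x⁻¹ * g⁻¹ = c → x * g * x = c * g := fun {x g c} hx e => by
    rw [← e, inv_mul_cancel_right, hx]
  have sA : ∀ w, A * τ.a10 h w * A = τ.ξ' h (w / p) * τ.a10 h w := fun w => by
    have := step hAi (R2 1 w)
    rwa [one_mul] at this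
  have sB : ∀ v, B * τ.ξ' h v * B = τ.a10 h (v / p) * τ.ξ' h v := fun v => by
    have := step hBi (R3 1 v)
    rwa [one_mul] at this
  have hB10 : ∀ w, B * τ.a10 h w * B = τ.a10 h w := fun w => by
    rw [← (τ.d5 h w 1).eq, mul_assoc, D.y₁_add, CharTwo.add_self_eq_zero, D.y₁_zero, mul_one]
  have hAξ : ∀ v, A * τ.ξ' h v * A = τ.ξ' h v := fun v => by
    rw [(C1 1 v).eq, mul_assoc, τ.a21_add, CharTwo.add_self_eq_zero,
      show τ.a21 h (0 : F) = 1 from τ.swap.a10_zero h.swap, mul_one]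
  have hAA : A * A = 1 := by
    rw [τ.a21_add, CharTwo.add_self_eq_zero]; exact τ.swap.a10_zero h.swap
  have hBB : B * B = 1 := by rw [D.y₁_add, CharTwo.add_self_eq_zero, D.y₁_zero]
  have split : ∀ {x : G}, x * x = 1 → ∀ g k : G, x * (g * k) * x = x * g * x * (x * k * x) := by
    intro x hx g k
    calc x * (g * k) * x = x * g * 1 * k * x := by group
      _ = x * g * (x * x) * k * x := by rw [hx]
      _ = _ := by group
  have hξ'_add : ∀ a b, τ.ξ' h a * τ.ξ' h b = τ.ξ' h (a + b) := fun a b => by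
    rw [ξ', ξ', ξ', τ.conj_n₂_mul, τ.a10_add]
  have main : τ.ξ' h 1 = τ.a10 h (1 / p / p + 1) * τ.ξ' h (1 / p / p / p) := by
    conv_lhs => rw [ξ', hAB]
    calc A * B * A * τ.a10 h 1 * (A * B * A)
        = A * (B * (A * τ.a10 h 1 * A) * B) * A := by group
      _ = A * (τ.a10 h (1 / p / p) * τ.ξ' h (1 / p) * τ.a10 h 1) * A := by
        rw [sA, split hBB, sB, hB10]
      _ = τ.ξ' h (1 / p / p / p) * τ.a10 h (1 / p / p) * τ.ξ' h (1 / p) *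
          (τ.ξ' h (1 / p) * τ.a10 h 1) := by
        rw [split hAA, split hAA, sA, hAξ, sA]
      _ = τ.ξ' h (1 / p / p / p) * τ.a10 h (1 / p / p) *
          (τ.ξ' h (1 / p) * τ.ξ' h (1 / p)) * τ.a10 h 1 := by group
      _ = τ.ξ' h (1 / p / p / p) * τ.a10 h (1 / p / p + 1) := by
        rw [hξ'_add, CharTwo.add_self_eq_zero, show τ.ξ' h 0 = 1 by
          rw [ξ', τ.a10_zero, mul_one, τ.n₂_sq], mul_one, mul_assoc, τ.a10_add]
      _ = _ := (C2 _ _).symm.eq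
  have main' : τ.a10 h (1 / p / p + 1) = τ.ξ' h (1 + 1 / p / p / p) := by
    rw [← hξ'_add, main, mul_assoc, hξ'_add, CharTwo.add_self_eq_zero, show τ.ξ' h 0 = 1 by
          rw [ξ', τ.a10_zero, mul_one, τ.n₂_sq], mul_one]
  have h0 := τ.eq_zero_of_a10_eq_ξ h (v := (1 + 1 / p / p / p) / p)
    (by rw [main', hξ, mul_div_cancel₀ _ hp])
  have h1 : p * p = 1 := by
    field_simp at h0
    linear_combination (norm := ring_nf) h0 + (CharTwo.two_eq_zero (R := F)) * (-1 : F)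
  exact eq_of_pow_two_eq_one (n := 1) (by rw [pow_one, sq]; exact h1)

theorem ξ_eq (hq8 : 8 ≤ Fintype.card F) (t : F) :
    τ.n₂ h * τ.ξ h t * τ.n₂ h = τ.a10 h t := by
  obtain ⟨p, hp, hY⟩ := τ.exists_Y_eq h hq8
  have := hY t
  rwa [τ.p_eq_one h hp hY, one_mul] at this

/-- The homomorphism from `SL₃(F)`. -/
theorem exists_hom (hq8 : 8 ≤ Fintype.card F) :
    ∃ Φ : Matrix.SpecialLinearGroup (Fin 3) F →* G, ∀ a : F,
      Φ (Matrix.SpecialLinearGroup.transvection (show (0 : Fin 3) ≠ 1 by decide) a) = D.y₂ a ∧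
      Φ (Matrix.SpecialLinearGroup.transvection (show (1 : Fin 3) ≠ 0 by decide) a) = τ.a10 h a ∧
      Φ (Matrix.SpecialLinearGroup.transvection (show (0 : Fin 3) ≠ 2 by decide) a) = D.z a ∧
      Φ (Matrix.SpecialLinearGroup.transvection (show (2 : Fin 3) ≠ 1 by decide) a) = τ.a21 h a ∧
      Φ (Matrix.SpecialLinearGroup.transvection (show (1 : Fin 3) ≠ 2 by decide) a) = D.y₁ a ∧
      Φ (Matrix.SpecialLinearGroup.transvection (show (2 : Fin 3) ≠ 0 by decide) a) = τ.ξ h a := by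
  have hξ := τ.ξ_eq h hq8
  have hξ' : ∀ t, τ.n₁ h * τ.ξ h t * τ.n₁ h = τ.a21 h t := fun t => τ.n₁_conj h _
  have hξ2 : ∀ t, τ.n₂ h * τ.a10 h t * τ.n₂ h = τ.ξ h t := fun t => by
    rw [← hξ t, τ.n₂_conj]
  have hzV₁ : ∀ a, D.z a ∈ D.P₁.V := fun a => D.P₁.el_mem _
  have hzV₂ : ∀ a, D.z a ∈ D.P₂.V := fun a => (D.mem_inf.2 ⟨a, rfl⟩).2
  have b6 : ∀ s t, D.y₁ s * τ.ξ h t * (D.y₁ s)⁻¹ * (τ.ξ h t)⁻¹ = τ.a10 h (s * t) := fun s t =>
    τ.transfer₁ h (τ.conj_n₁_z h s) rfl (τ.conj_n₁_y₂ h _) (τ.b5 h s t)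
  have b3 : ∀ s t, τ.a21 h s * τ.a10 h t * (τ.a21 h s)⁻¹ * (τ.a10 h t)⁻¹ = τ.ξ h (s * t) :=
    fun s t => τ.transfer₂ h (τ.conj_n₂_y₁ h s) (hξ t) (hξ2 _) (b6 s t)
  exact LThreeRec.exists_hom_of_roots (a01 := D.y₂) (a10 := τ.a10 h) (a02 := D.z)
    (a20 := τ.ξ h) (a12 := D.y₁) (a21 := τ.a21 h) D.y₂_add (τ.a10_add h) D.z_add (τ.ξ_add h)
    D.y₁_add (τ.a21_add h)
    (fun s t => D.P₂.commV (D.P₂.el_mem _) (hzV₂ t))
    (τ.d2 h)
    (fun s t => D.P₁.commV (hzV₁ s) (D.P₁.el_mem _))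
    (fun s t => τ.comm₂ h (τ.conj_n₂_y₁ h s) (hξ2 t) (τ.d5 h t s).symm)
    (τ.d5 h)
    (fun s t => τ.comm₁ h (τ.conj_n₁_y₂ h s) rfl (τ.d2 h s t))
    (fun s t => by rw [D.y₂_eq, D.y₁_eq, D.comm_jel]; simp)
    (τ.b2 h) b3
    (fun s t => τ.transfer₁ h rfl (τ.conj_n₁_a10 h t) (hξ' _) (b3 s t))
    (τ.b5 h) b6

end Tor

end Cfsg.Agent.TwoNatural
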