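import Cfsg.Agent.Lib.TwoNatural.Algebra
import Cfsg.Agent.Lib.SL2Module.Mat

/-!
# Two parabolics `V_i.SL₂(q)` on natural modules with a common Sylow subgroup `J = V₁V₂` (S3091)

* `Par`: one parabolic with coordinates; `Data`: two of them, compatibly coordinatised
* `z`, `y₁`, `y₂`, `jel`: the root groups in `J` and its elements
-/

set_option autoImplicit false
set_option linter.unusedSectionVars false

open Matrix Cfsg.Agent.SL2Module

namespace Cfsg.Agent.TwoNatural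

variable {F : Type*} [Field F] [Fintype F] [CharP F 2] {G : Type*} [Group G] [Finite G]

local notation "SL2F" => Matrix.SpecialLinearGroup (Fin 2) F

theorem up_mulVec (t : F) (w : Fin 2 → F) : (up t : SL2F).1 *ᵥ w = ![w 0 + t * w 1, w 1] := by
  ext i; fin_cases i <;> simp [up_val, Matrix.mulVec, dotProduct, Fin.sum_univ_two]

theorem lo_mulVec (t : F) (w : Fin 2 → F) : (lo t : SL2F).1 *ᵥ w = ![w 0, t * w 0 + w 1] := by
  ext i; fin_cases i <;> simp [lo_val, Matrix.mulVec, dotProduct, Fin.sum_univ_two]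

theorem dg_mulVec (a : Fˣ) (w : Fin 2 → F) :
    (dg a : SL2F).1 *ᵥ w = ![a * w 0, (a⁻¹ : Fˣ) * w 1] := by
  ext i; fin_cases i <;> simp [dg_val, Matrix.mulVec, dotProduct, Fin.sum_univ_two]

theorem vec2_eta (w : Fin 2 → F) : w = ![w 0, w 1] := by
  ext i; fin_cases i <;> rfl

theorem eq_one_of_fix {M : SL2F} (h : ∀ w, M.1 *ᵥ w = w) : M = 1 := by
  refine Subtype.ext (Matrix.toLin'.injective (LinearMap.ext fun w => ?_))
  simp [h w]

/-- One parabolic. -/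
structure Par (F : Type*) [Field F] (G : Type*) [Group G] where
  L : Subgroup G
  V : Subgroup G
  le : V ≤ L
  π : ↥L →* Matrix.SpecialLinearGroup (Fin 2) F
  surj : Function.Surjective π
  ker : ∀ l : L, π l = 1 ↔ (l : G) ∈ V
  el : (Fin 2 → F) → G
  el_mem : ∀ w, el w ∈ V
  el_surj : ∀ v ∈ V, ∃ w, el w = v
  el_inj : Function.Injective el
  el_add : ∀ a b, el (a + b) = el a * el b
  act : ∀ (l : L) (w : Fin 2 → F), (l : G) * el w * (l : G)⁻¹ = el ((π l).1 *ᵥ w)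

namespace Par

variable (P : Par F G)

theorem el_zero : P.el 0 = 1 := by
  have h := P.el_add 0 0
  rw [add_zero] at h
  exact right_eq_mul.1 h

theorem el_sq (w : Fin 2 → F) : P.el w * P.el w = 1 := by
  rw [← P.el_add, ← P.el_zero]
  congr 1
  ext i; exact CharTwo.add_self_eq_zero _

theorem el_inv (w : Fin 2 → F) : (P.el w)⁻¹ = P.el w := inv_eq_of_mul_eq_one_right (P.el_sq w)

theorem commV {u v : G} (hu : u ∈ P.V) (hv : v ∈ P.V) : u * v = v * u := by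
  obtain ⟨a, rfl⟩ := P.el_surj u hu
  obtain ⟨b, rfl⟩ := P.el_surj v hv
  rw [← P.el_add, ← P.el_add, add_comm]

theorem sqV {v : G} (hv : v ∈ P.V) : v * v = 1 := by
  obtain ⟨a, rfl⟩ := P.el_surj v hv
  exact P.el_sq a

theorem el_eq_one {w : Fin 2 → F} : P.el w = 1 ↔ w = 0 := by
  rw [← P.el_zero, P.el_inj.eq_iff]

theorem card_V : Nat.card P.V = Fintype.card F ^ 2 := by
  rw [← Nat.card_congr (Equiv.ofBijective (fun w => (⟨P.el w, P.el_mem w⟩ : P.V))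
    ⟨fun a b h => P.el_inj (congrArg Subtype.val h), fun v => by
      obtain ⟨w, hw⟩ := P.el_surj v v.2; exact ⟨w, Subtype.ext hw⟩⟩), Nat.card_fun,
    Nat.card_eq_fintype_card, Nat.card_eq_fintype_card, Fintype.card_fin]

theorem isPGroup_V : IsPGroup 2 P.V := fun v => ⟨1, Subtype.ext (by
  rw [pow_one, sq]; exact P.sqV v.2)⟩

theorem conj_mem {l v : G} (hl : l ∈ P.L) (hv : v ∈ P.V) : l * v * l⁻¹ ∈ P.V := by
  obtain ⟨w, rfl⟩ := P.el_surj v hv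
  rw [P.act ⟨l, hl⟩]; exact P.el_mem _

theorem le_normalizer : P.L ≤ Subgroup.normalizer (P.V : Set G) := fun l hl =>
  Subgroup.mem_normalizer_iff.2 fun v => ⟨P.conj_mem hl, fun hv => by
    simpa [mul_assoc] using P.conj_mem (P.L.inv_mem hl) hv⟩

theorem mem_V_of_commute {l : G} (hl : l ∈ P.L) (h : ∀ v ∈ P.V, l * v = v * l) : l ∈ P.V := by
  refine (P.ker ⟨l, hl⟩).1 (eq_one_of_fix fun w => P.el_inj ?_)
  rw [← P.act]
  show l * P.el w * l⁻¹ = _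
  rw [h _ (P.el_mem w), mul_inv_cancel_right]

theorem π_eq_iff (l l' : P.L) : P.π l = P.π l' ↔ (l : G)⁻¹ * l' ∈ P.V := by
  rw [← inv_mul_eq_one, ← map_inv, ← map_mul, P.ker]
  rfl

theorem π_of_mem {v : G} (hv : v ∈ P.V) : P.π ⟨v, P.le hv⟩ = 1 := (P.ker _).2 hv

end Par

/-- Two parabolics, compatibly coordinatised. -/
structure Data (F : Type*) [Field F] [CharP F 2] (G : Type*) [Group G] where
  P₁ : Par F G
  P₂ : Par F G
  base : ∀ t : F, P₂.el ![t, 0] = P₁.el ![t, 0]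
  cross₁ : ∀ t : F, ∃ h : P₂.el ![0, t] ∈ P₁.L, P₁.π ⟨_, h⟩ = up t
  cross₂ : ∀ t : F, ∃ h : P₁.el ![0, t] ∈ P₂.L, P₂.π ⟨_, h⟩ = up t

namespace Data

variable (D : Data F G)

/-- Exchanging the parabolics. -/
def swap : Data F G := ⟨D.P₂, D.P₁, fun t => (D.base t).symm, D.cross₂, D.cross₁⟩

/-- The common Sylow subgroup. -/
def J : Subgroup G := D.P₁.V ⊔ D.P₂.V

theorem swap_J : D.swap.J = D.J := sup_comm _ _

/-- The centre. -/
def z (a : F) : G := D.P₁.el ![a, 0]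

/-- The root group of `V₁` outside the centre. -/
def y₁ (s : F) : G := D.P₁.el ![0, s]

/-- The root group of `V₂` outside the centre. -/
def y₂ (t : F) : G := D.P₂.el ![0, t]

/-- An element of `J`. -/
def jel (a s t : F) : G := D.P₁.el ![a, s] * D.y₂ t

theorem swap_z (a : F) : D.swap.z a = D.z a := D.base a

theorem el₁_eq (a s : F) : D.P₁.el ![a, s] = D.z a * D.y₁ s := by
  rw [z, y₁, ← D.P₁.el_add]; simp

theorem el₂_eq (a t : F) : D.P₂.el ![a, t] = D.z a * D.y₂ t := by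
  rw [z, ← D.base, y₂, ← D.P₂.el_add]; simp

theorem y₂_mem_L (t : F) : D.y₂ t ∈ D.P₁.L := (D.cross₁ t).1

theorem π_y₂ (t : F) : D.P₁.π ⟨D.y₂ t, D.y₂_mem_L t⟩ = up t := (D.cross₁ t).2

theorem π_jel (a s t : F) : ∃ h : D.jel a s t ∈ D.P₁.L, D.P₁.π ⟨_, h⟩ = up t := by
  refine ⟨D.P₁.L.mul_mem (D.P₁.le (D.P₁.el_mem _)) (D.y₂_mem_L t), ?_⟩
  rw [show (⟨D.jel a s t, _⟩ : ↥D.P₁.L) =
    (⟨_, D.P₁.le (D.P₁.el_mem ![a, s])⟩ : ↥D.P₁.L) * ⟨_, D.y₂_mem_L t⟩ from rfl, map_mul,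
    D.P₁.π_of_mem (D.P₁.el_mem _), D.π_y₂, one_mul]

theorem conj_y₂ (t a s : F) :
    D.y₂ t * D.P₁.el ![a, s] * (D.y₂ t)⁻¹ = D.P₁.el ![a + t * s, s] := by
  rw [D.P₁.act ⟨_, D.y₂_mem_L t⟩, D.π_y₂, up_mulVec]; simp

theorem y₂_add (t t' : F) : D.y₂ t * D.y₂ t' = D.y₂ (t + t') := by
  rw [y₂, y₂, y₂, ← D.P₂.el_add]; simp

theorem y₁_add (t t' : F) : D.y₁ t * D.y₁ t' = D.y₁ (t + t') := by
  rw [y₁, y₁, y₁, ← D.P₁.el_add]; simp

theorem z_add (t t' : F) : D.z t * D.z t' = D.z (t + t') := by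
  rw [z, z, z, ← D.P₁.el_add]; simp

theorem z_zero : D.z 0 = 1 := by
  rw [z, D.P₁.el_eq_one]; ext i; fin_cases i <;> rfl

theorem y₂_zero : D.y₂ 0 = 1 := by
  rw [y₂, D.P₂.el_eq_one]; ext i; fin_cases i <;> rfl

theorem y₁_zero : D.y₁ 0 = 1 := D.swap.y₂_zero

theorem jel_mul (a s t a' s' t' : F) :
    D.jel a s t * D.jel a' s' t' = D.jel (a + a' + t * s') (s + s') (t + t') := by
  have h : D.y₂ t * D.P₁.el ![a', s'] = D.P₁.el ![a' + t * s', s'] * D.y₂ t :=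
    mul_inv_eq_iff_eq_mul.1 (D.conj_y₂ t a' s')
  simp only [jel]
  rw [mul_assoc, ← mul_assoc (D.y₂ t), h, mul_assoc _ (D.y₂ t), D.y₂_add, ← mul_assoc,
    ← D.P₁.el_add]
  simp [add_assoc]

theorem jel_zero : D.jel 0 0 0 = 1 := by
  rw [jel, D.y₂_zero, mul_one, D.P₁.el_eq_one]; ext i; fin_cases i <;> rfl

theorem jel_inv (a s t : F) : (D.jel a s t)⁻¹ = D.jel (a + t * s) s t := by
  refine inv_eq_of_mul_eq_one_right ?_
  rw [D.jel_mul, ← D.jel_zero]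
  simp only [CharTwo.add_self_eq_zero]
  congr 1
  linear_combination (norm := ring_nf) (CharTwo.two_eq_zero (R := F)) * (a + t * s)

theorem z_eq (a : F) : D.z a = D.jel a 0 0 := by rw [jel, D.y₂_zero, mul_one, z]

theorem y₁_eq (s : F) : D.y₁ s = D.jel 0 s 0 := by rw [jel, D.y₂_zero, mul_one, y₁]

theorem y₂_eq (t : F) : D.y₂ t = D.jel 0 0 t := by
  rw [jel, show (![0, 0] : Fin 2 → F) = 0 by ext i; fin_cases i <;> rfl, D.P₁.el_zero, one_mul]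

theorem jel_inj {a s t a' s' t' : F} (h : D.jel a s t = D.jel a' s' t') :
    a = a' ∧ s = s' ∧ t = t' := by
  obtain ⟨h1, e1⟩ := D.π_jel a s t
  obtain ⟨h2, e2⟩ := D.π_jel a' s' t'
  have ht : t = t' := by
    have : (up t : SL2F) = up t' := by rw [← e1, ← e2]; congr 1; exact Subtype.ext h
    simpa [up_val] using congrFun (congrFun (congrArg Subtype.val this) 0) 1
  subst ht
  have := D.P₁.el_inj (mul_right_cancel h)
  exact ⟨by simpa using congrFun this 0, by simpa using congrFun this 1, rfl⟩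

theorem jel_mem (a s t : F) : D.jel a s t ∈ D.J :=
  D.J.mul_mem (Subgroup.mem_sup_left (D.P₁.el_mem _)) (Subgroup.mem_sup_right (D.P₂.el_mem _))

theorem mem_J {x : G} : x ∈ D.J ↔ ∃ a s t, D.jel a s t = x := by
  refine ⟨fun hx => ?_, fun ⟨a, s, t, h⟩ => h ▸ D.jel_mem a s t⟩
  let K : Subgroup G :=
    { carrier := {x | ∃ a s t, D.jel a s t = x}
      one_mem' := ⟨0, 0, 0, D.jel_zero⟩
      mul_mem' := by
        rintro _ _ ⟨a, s, t, rfl⟩ ⟨a', s', t', rfl⟩; exact ⟨_, _, _, (D.jel_mul ..).symm⟩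
      inv_mem' := by rintro _ ⟨a, s, t, rfl⟩; exact ⟨_, _, _, (D.jel_inv ..).symm⟩ }
  have : D.J ≤ K := by
    refine sup_le (fun v hv => ?_) fun v hv => ?_
    · obtain ⟨w, rfl⟩ := D.P₁.el_surj v hv
      refine ⟨w 0, w 1, 0, ?_⟩
      rw [jel, D.y₂_zero, mul_one, ← vec2_eta]
    · obtain ⟨w, rfl⟩ := D.P₂.el_surj v hv
      refine ⟨w 0, 0, w 1, ?_⟩
      rw [jel, ← z, ← D.el₂_eq, ← vec2_eta]
  exact this hx

theorem card_J : Nat.card D.J = Fintype.card F ^ 3 := by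
  rw [← Nat.card_congr (Equiv.ofBijective
    (fun p : F × F × F => (⟨D.jel p.1 p.2.1 p.2.2, D.jel_mem _ _ _⟩ : D.J))
    ⟨fun p p' h => by
      obtain ⟨h1, h2, h3⟩ := D.jel_inj (congrArg Subtype.val h)
      ext <;> assumption,
    fun x => by
      obtain ⟨a, s, t, h⟩ := D.mem_J.1 x.2
      exact ⟨(a, s, t), Subtype.ext h⟩⟩), Nat.card_prod, Nat.card_prod, Nat.card_eq_fintype_card]
  ring

theorem jel_mem_V₁ {a s t : F} : D.jel a s t ∈ D.P₁.V ↔ t = 0 := by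
  constructor
  · intro h
    obtain ⟨h1, e⟩ := D.π_jel a s t
    have := (D.P₁.ker ⟨_, h1⟩).2 h
    rw [e] at this
    simpa [up_val] using congrFun (congrFun (congrArg Subtype.val this) 0) 1
  · rintro rfl
    rw [jel, D.y₂_zero, mul_one]; exact D.P₁.el_mem _

theorem jel_eq_el₂ (a t : F) : D.jel a 0 t = D.P₂.el ![a, t] := by
  rw [jel, ← z, ← D.el₂_eq]

theorem jel_mem_V₂ {a s t : F} : D.jel a s t ∈ D.P₂.V ↔ s = 0 := by
  constructor
  · intro h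
    obtain ⟨w, hw⟩ := D.P₂.el_surj _ h
    rw [vec2_eta w, ← D.jel_eq_el₂] at hw
    exact (D.jel_inj hw).2.1.symm
  · rintro rfl
    rw [D.jel_eq_el₂]; exact D.P₂.el_mem _

theorem jel_sq (a s t : F) : D.jel a s t * D.jel a s t = D.z (t * s) := by
  rw [D.jel_mul, D.z_eq]; simp [CharTwo.add_self_eq_zero]

theorem comm_jel (a s t a' s' t' : F) :
    D.jel a s t * D.jel a' s' t' * (D.jel a s t)⁻¹ * (D.jel a' s' t')⁻¹ =
      D.z (t * s' + t' * s) := by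
  rw [D.jel_inv, D.jel_inv, D.jel_mul, D.jel_mul, D.jel_mul, D.z_eq]
  congr 1 <;> linear_combination (norm := ring_nf)
    (CharTwo.two_eq_zero (R := F)) * (a + a' + t * s + t' * s' + t * s')
  all_goals simp [CharTwo.two_eq_zero]

theorem mem_inf {x : G} : x ∈ D.P₁.V ⊓ D.P₂.V ↔ ∃ a, D.z a = x := by
  constructor
  · rintro ⟨h1, h2⟩
    obtain ⟨a, s, t, rfl⟩ := D.mem_J.1 (Subgroup.mem_sup_left h1)
    have ht : t = 0 := D.jel_mem_V₁.1 h1
    have hs : s = 0 := D.jel_mem_V₂.1 h2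
    subst ht; subst hs
    exact ⟨a, D.z_eq a⟩
  · rintro ⟨a, rfl⟩
    refine ⟨D.P₁.el_mem _, show D.z a ∈ D.P₂.V from ?_⟩
    rw [← D.swap_z a]; exact D.P₂.el_mem _

theorem mem_V_or {x : G} (hx : x ∈ D.J) (h2 : x * x = 1) : x ∈ D.P₁.V ∨ x ∈ D.P₂.V := by
  obtain ⟨a, s, t, rfl⟩ := D.mem_J.1 hx
  rw [D.jel_sq, ← D.z_zero, D.z_eq, D.z_eq] at h2
  rcases mul_eq_zero.1 (D.jel_inj h2).1 with h | h
  · exact Or.inl (D.jel_mem_V₁.2 h)
  · exact Or.inr (D.jel_mem_V₂.2 h)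

theorem isPGroup_J : IsPGroup 2 D.J := fun x => by
  obtain ⟨a, s, t, h⟩ := D.mem_J.1 x.2
  refine ⟨2, Subtype.ext ?_⟩
  show (x : G) ^ 2 ^ 2 = 1
  rw [← h, show (2 : ℕ) ^ 2 = 2 * 2 from rfl, pow_mul, sq, sq, D.jel_sq]
  exact D.P₁.el_sq _

theorem J_le_L₁ : D.J ≤ D.P₁.L := sup_le D.P₁.le fun v hv => by
  obtain ⟨w, rfl⟩ := D.P₂.el_surj v hv
  rw [vec2_eta w, D.el₂_eq]
  exact D.P₁.L.mul_mem (D.P₁.le (D.P₁.el_mem _)) (D.y₂_mem_L _)

theorem J_le_L₂ : D.J ≤ D.P₂.L := D.swap_J ▸ D.swap.J_le_L₁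

theorem mem_J_of_π {l : G} (hl : l ∈ D.P₁.L) {t : F} (h : D.P₁.π ⟨l, hl⟩ = up t) : l ∈ D.J := by
  have h1 := (D.P₁.π_eq_iff ⟨_, D.y₂_mem_L t⟩ ⟨l, hl⟩).1 (by rw [D.π_y₂, h])
  have e : l = D.y₂ t * ((D.y₂ t)⁻¹ * l) := by group
  rw [e]
  exact D.J.mul_mem (Subgroup.mem_sup_right (D.P₂.el_mem _)) (Subgroup.mem_sup_left h1)

theorem π_of_mem_J {l : G} (hl : l ∈ D.J) : ∃ t, D.P₁.π ⟨l, D.J_le_L₁ hl⟩ = up t := by
  obtain ⟨a, s, t, rfl⟩ := D.mem_J.1 hl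
  exact ⟨t, (D.π_jel a s t).2⟩

end Data

end Cfsg.Agent.TwoNatural
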