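import Cfsg.Agent.Lib.TwoNatural.Diag

/-!
# Two natural parabolics: Levi complements, Weyl elements and root elements (S3091)

* `Tor.φ`: `SL₂(F) → C(la) ∩ L₁`; `Tor.n₁`, `Tor.n₂`, `Tor.a10`, `Tor.a21`, `Tor.Y`
* `inT_conj_n₁`, `inT_conj_n₂`; `Y_commute`: `Y ⊆ C(la)`
-/

set_option autoImplicit false
set_option linter.unusedSectionVars false

open Matrix Cfsg.Agent.SL2Module Subgroup

namespace Cfsg.Agent.TwoNatural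

variable {F : Type*} [Field F] [Fintype F] [CharP F 2] {G : Type*} [Group G] [Finite G]

local notation "SL2F" => Matrix.SpecialLinearGroup (Fin 2) F

namespace Data

variable (D : Data F G)

theorem el₁_eq_jel (w : Fin 2 → F) : D.P₁.el w = D.jel (w 0) (w 1) 0 := by
  rw [jel, D.y₂_zero, mul_one, ← vec2_eta]

theorem diag_of {x : G} {b c : F} (hb : b ≠ 0) (hc : c ≠ 0)
    (hz : ∀ a, x * D.z a * x⁻¹ = D.z (b * c * a)) (hy₁ : ∀ s, x * D.y₁ s * x⁻¹ = D.y₁ (b * s))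
    (hy₂ : ∀ t, x * D.y₂ t * x⁻¹ = D.y₂ (c * t)) : D.Diag x b c :=
  ⟨hb, hc, fun a s t => by
    rw [D.jel_split a s t, ← conj_mul, ← conj_mul, hz, hy₁, hy₂, ← D.jel_split]⟩

end Data

namespace Tor

variable {D : Data F G} (τ : Tor D)

theorem la_act (w : Fin 2 → F) : τ.la * D.P₁.el w * τ.la⁻¹ = D.P₁.el (τ.ρ • w) := by
  rw [D.el₁_eq_jel, τ.da.2.2, D.el₁_eq_jel]; simp

theorem la_mem_normalizer_L (h : Hyp D) : τ.la ∈ normalizer (D.P₁.L : Set G) :=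
  h.nor₁ ▸ τ.da.mem_normalizer.2

/-- Elements of `L₁` and their conjugates by `la` have the same image. -/
theorem π_la (h : Hyp D) {l : G} (hl : l ∈ D.P₁.L) :
    D.P₁.π ⟨τ.la * l * τ.la⁻¹, conj_mem_of (τ.la_mem_normalizer_L h) hl⟩ = D.P₁.π ⟨l, hl⟩ := by
  refine Subtype.ext (Matrix.toLin'.injective (LinearMap.ext fun w => ?_))
  simp only [Matrix.toLin'_apply]
  refine D.P₁.el_inj ?_
  rw [← D.P₁.act ⟨_, conj_mem_of (τ.la_mem_normalizer_L h) hl⟩, ← D.P₁.act ⟨l, hl⟩]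
  obtain ⟨v, rfl⟩ : ∃ v : Fin 2 → F, τ.ρ • v = w :=
    ⟨τ.ρ⁻¹ • w, by rw [smul_smul, mul_inv_cancel₀ τ.ρ_ne_zero, one_smul]⟩
  show τ.la * l * τ.la⁻¹ * D.P₁.el (τ.ρ • v) * (τ.la * l * τ.la⁻¹)⁻¹ =
    l * D.P₁.el (τ.ρ • v) * l⁻¹
  have e1 : l * D.P₁.el (τ.ρ • v) * l⁻¹ = D.P₁.el (τ.ρ • ((D.P₁.π ⟨l, hl⟩).1 *ᵥ v)) := by
    rw [D.P₁.act ⟨l, hl⟩, Matrix.mulVec_smul]
  rw [e1, ← τ.la_act, ← τ.la_act, ← D.P₁.act ⟨l, hl⟩]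
  group

theorem unique_lift (h : Hyp D) {l m : G} (hl : l ∈ D.P₁.L) (hm : m ∈ D.P₁.L)
    (e : D.P₁.π ⟨l, hl⟩ = D.P₁.π ⟨m, hm⟩) (cl : τ.la * l = l * τ.la) (cm : τ.la * m = m * τ.la) :
    l = m := by
  obtain ⟨v, hv⟩ := D.P₁.el_surj _ ((D.P₁.π_eq_iff ⟨l, hl⟩ ⟨m, hm⟩).1 e)
  have hc : τ.la * D.P₁.el v * τ.la⁻¹ = D.P₁.el v := by
    rw [hv]
    have c1 : Commute τ.la l := cl
    have c2 : Commute τ.la m := cm
    rw [(c1.inv_right.mul_right c2).eq, mul_inv_cancel_right]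
  rw [τ.la_act] at hc
  have hv0 : v = 0 := by
    have : (τ.ρ - 1) • v = 0 := by rw [sub_smul, one_smul, D.P₁.el_inj hc, sub_self]
    exact (smul_eq_zero.1 this).resolve_left (sub_ne_zero.2 τ.ne)
  rw [hv0, D.P₁.el_zero] at hv
  exact inv_mul_eq_one.1 hv.symm

theorem exists_lift (h : Hyp D) (M : SL2F) :
    ∃ l, ∃ hl : l ∈ D.P₁.L, D.P₁.π ⟨l, hl⟩ = M ∧ τ.la * l = l * τ.la := by
  obtain ⟨⟨l, hl⟩, rfl⟩ := D.P₁.surj M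
  have hl' := conj_mem_of (τ.la_mem_normalizer_L h) hl
  obtain ⟨u, hu⟩ := D.P₁.el_surj _ ((D.P₁.π_eq_iff ⟨l, hl⟩ ⟨_, hl'⟩).1 (τ.π_la h hl).symm)
  obtain ⟨v, hv⟩ : ∃ v, (1 + τ.ρ)⁻¹ • u = v := ⟨_, rfl⟩
  have hv' : u + τ.ρ • v = v := by
    have e : (1 + τ.ρ) • v = u := by
      rw [← hv, smul_smul, mul_inv_cancel₀ τ.one_add_ne, one_smul]
    rw [← e, add_smul, one_smul, add_assoc]
    ext i
    simp [CharTwo.add_self_eq_zero]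
  refine ⟨l * D.P₁.el v, D.P₁.L.mul_mem hl (D.P₁.le (D.P₁.el_mem v)), ?_, ?_⟩
  · rw [D.π_mul hl (D.P₁.le (D.P₁.el_mem v)), D.P₁.π_of_mem (D.P₁.el_mem v), mul_one]
  · refine mul_inv_eq_iff_eq_mul.1 ?_
    rw [← conj_mul, τ.la_act, show τ.la * l * τ.la⁻¹ = l * D.P₁.el u by rw [hu]; group, mul_assoc,
      ← D.P₁.el_add, hv']

variable (h : Hyp D)

/-- The Levi complement `C_{L₁}(la)`. -/
noncomputable def φ : SL2F →* G where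
  toFun M := (τ.exists_lift h M).choose
  map_one' := by
    obtain ⟨hl, e, c⟩ := (τ.exists_lift h 1).choose_spec
    exact τ.unique_lift h hl D.P₁.L.one_mem (by rw [e]; exact (map_one D.P₁.π).symm) c (by simp)
  map_mul' M N := by
    obtain ⟨hl, e, c⟩ := (τ.exists_lift h (M * N)).choose_spec
    obtain ⟨hl₁, e₁, c₁⟩ := (τ.exists_lift h M).choose_spec
    obtain ⟨hl₂, e₂, c₂⟩ := (τ.exists_lift h N).choose_spec
    refine τ.unique_lift h hl (D.P₁.L.mul_mem hl₁ hl₂) ?_ c ?_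
    · rw [e, D.π_mul hl₁ hl₂, e₁, e₂]
    · rw [← mul_assoc, c₁, mul_assoc, c₂, mul_assoc]

theorem φ_mem (M : SL2F) : τ.φ h M ∈ D.P₁.L := (τ.exists_lift h M).choose_spec.fst

theorem φ_π (M : SL2F) : D.P₁.π ⟨τ.φ h M, τ.φ_mem h M⟩ = M :=
  (τ.exists_lift h M).choose_spec.snd.1

theorem φ_comm (M : SL2F) : τ.la * τ.φ h M = τ.φ h M * τ.la :=
  (τ.exists_lift h M).choose_spec.snd.2

theorem φ_act (M : SL2F) (w : Fin 2 → F) :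
    τ.φ h M * D.P₁.el w * (τ.φ h M)⁻¹ = D.P₁.el (M.1 *ᵥ w) := by
  rw [D.P₁.act ⟨τ.φ h M, τ.φ_mem h M⟩, τ.φ_π]

theorem φ_eq {M : SL2F} {l : G} (hl : l ∈ D.P₁.L) (e : D.P₁.π ⟨l, hl⟩ = M)
    (c : τ.la * l = l * τ.la) : τ.φ h M = l :=
  τ.unique_lift h (τ.φ_mem h M) hl (by rw [τ.φ_π, e]) (τ.φ_comm h M) c

theorem φ_injective : Function.Injective (τ.φ h) := fun M N e => by
  rw [← τ.φ_π h M, ← τ.φ_π h N]; congr 1; exact Subtype.ext e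

theorem φ_up (t : F) : τ.φ h (up t) = D.y₂ t :=
  τ.φ_eq h (D.y₂_mem_L t) (D.π_y₂ t) (mul_inv_eq_iff_eq_mul.1 (by rw [τ.da.y₂, one_mul]))

/-- Conjugation by an element of the torus. -/
theorem conj_φ {x : G} {b c : F} (hd : D.Diag x b c) (hx : x * τ.la = τ.la * x) {M M' : SL2F}
    (hM : ∀ w : Fin 2 → F,
      M'.1 *ᵥ ![b * c * w 0, b * w 1] = ![b * c * (M.1 *ᵥ w) 0, b * (M.1 *ᵥ w) 1]) :
    x * τ.φ h M * x⁻¹ = τ.φ h M' := by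
  have hxV := hd.mem_normalizer.2
  have hxL : x ∈ normalizer (D.P₁.L : Set G) := h.nor₁ ▸ hxV
  have hA : ∀ w, x * D.P₁.el w * x⁻¹ = D.P₁.el ![b * c * w 0, b * w 1] := fun w => by
    rw [D.el₁_eq_jel, hd.2.2, D.el₁_eq_jel]; simp
  refine (τ.φ_eq h (conj_mem_of hxL (τ.φ_mem h M)) ?_ ?_).symm
  · refine Subtype.ext (Matrix.toLin'.injective (LinearMap.ext fun w' => ?_))
    simp only [Matrix.toLin'_apply]
    obtain ⟨hb, hc, -⟩ := hd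
    obtain ⟨w, rfl⟩ : ∃ w : Fin 2 → F, ![b * c * w 0, b * w 1] = w' := by
      refine ⟨![(b * c)⁻¹ * w' 0, b⁻¹ * w' 1], ?_⟩
      ext i; fin_cases i <;> simp <;> field_simp
    refine D.P₁.el_inj ?_
    rw [← D.P₁.act ⟨_, conj_mem_of hxL (τ.φ_mem h M)⟩, hM, ← hA, ← hA, ← τ.φ_act h M w]
    group
  · have c1 : Commute τ.la x := hx.symm
    exact ((c1.mul_right (τ.φ_comm h M)).mul_right c1.inv_right).eq

/-- The Weyl element of `L₁`. -/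
noncomputable def n₁ : G := τ.φ h wm

/-- The Weyl element of `L₂`. -/
noncomputable def n₂ : G := τ.swap.φ h.swap wm

/-- The negative root group of `L₁`. -/
noncomputable def a10 (s : F) : G := τ.φ h (lo s)

/-- The negative root group of `L₂`. -/
noncomputable def a21 (t : F) : G := τ.swap.φ h.swap (lo t)

theorem n₁_sq : τ.n₁ h * τ.n₁ h = 1 := by
  rw [n₁, ← map_mul, wm_sq, map_one]

theorem n₁_inv : (τ.n₁ h)⁻¹ = τ.n₁ h := inv_eq_of_mul_eq_one_right (τ.n₁_sq h)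

theorem n₁_conj (x : G) : τ.n₁ h * (τ.n₁ h * x * τ.n₁ h) * τ.n₁ h = x := by
  simp only [← mul_assoc, τ.n₁_sq h, one_mul]
  rw [mul_assoc, τ.n₁_sq h, mul_one]

theorem n₂_conj (x : G) : τ.n₂ h * (τ.n₂ h * x * τ.n₂ h) * τ.n₂ h = x :=
  τ.swap.n₁_conj h.swap x

theorem n₂_sq : τ.n₂ h * τ.n₂ h = 1 := τ.swap.n₁_sq h.swap

theorem conj_n₁_y₂ (t : F) : τ.n₁ h * D.y₂ t * τ.n₁ h = τ.a10 h t := by
  rw [← τ.φ_up h t, n₁, a10, ← map_mul, ← map_mul, wm_conj_up]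

theorem conj_n₁_a10 (t : F) : τ.n₁ h * τ.a10 h t * τ.n₁ h = D.y₂ t := by
  rw [← τ.conj_n₁_y₂ h t, τ.n₁_conj]

theorem conj_n₁_z (a : F) : τ.n₁ h * D.z a * τ.n₁ h = D.y₁ a := by
  conv_lhs => arg 2; rw [← τ.n₁_inv h]
  rw [n₁, Data.z, τ.φ_act, wm_mulVec]; rfl

theorem conj_n₁_y₁ (a : F) : τ.n₁ h * D.y₁ a * τ.n₁ h = D.z a := by
  rw [← τ.conj_n₁_z h a, τ.n₁_conj]

theorem conj_n₂_y₁ (t : F) : τ.n₂ h * D.y₁ t * τ.n₂ h = τ.a21 h t :=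
  τ.swap.conj_n₁_y₂ h.swap t

theorem conj_n₂_a21 (t : F) : τ.n₂ h * τ.a21 h t * τ.n₂ h = D.y₁ t :=
  τ.swap.conj_n₁_a10 h.swap t

theorem conj_n₂_z (a : F) : τ.n₂ h * D.z a * τ.n₂ h = D.y₂ a := by
  have := τ.swap.conj_n₁_z h.swap a
  rwa [D.swap_z] at this

theorem conj_n₂_y₂ (a : F) : τ.n₂ h * D.y₂ a * τ.n₂ h = D.z a := by
  rw [← τ.conj_n₂_z h a, τ.n₂_conj]

theorem conj_a10 {x : G} {b c : F} (hd : D.Diag x b c) (hx : x * τ.la = τ.la * x) (s : F) :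
    x * τ.a10 h s * x⁻¹ = τ.a10 h (c⁻¹ * s) := by
  refine τ.conj_φ h hd hx fun w => ?_
  have := hd.2.1
  rw [lo_mulVec, lo_mulVec]
  ext i
  fin_cases i
  · simp
  · simp
    field_simp

theorem conj_a21 {x : G} {b c : F} (hd : D.Diag x b c) (hx : x * τ.lb = τ.lb * x) (s : F) :
    x * τ.a21 h s * x⁻¹ = τ.a21 h (b⁻¹ * s) := τ.swap.conj_a10 h.swap hd.swap hx s

theorem inT_conj_n₁ {x : G} {b c : F} (hT : τ.InT x) (hd : D.Diag x b c) :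
    τ.InT (τ.n₁ h * x * τ.n₁ h) ∧ D.Diag (τ.n₁ h * x * τ.n₁ h) (b * c) c⁻¹ := by
  have hi := τ.n₁_inv h
  have hconj : ∀ y, (τ.n₁ h * x * τ.n₁ h) * y * (τ.n₁ h * x * τ.n₁ h)⁻¹ =
      τ.n₁ h * (x * (τ.n₁ h * y * τ.n₁ h) * x⁻¹) * τ.n₁ h := fun y => by
    rw [_root_.mul_inv_rev, _root_.mul_inv_rev, hi]; group
  have hd' : D.Diag (τ.n₁ h * x * τ.n₁ h) (b * c) c⁻¹ := by
    refine D.diag_of (mul_ne_zero hd.1 hd.2.1) (inv_ne_zero hd.2.1) (fun a => ?_) (fun s => ?_)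
      fun t => ?_
    · rw [hconj, τ.conj_n₁_z, hd.y₁, τ.conj_n₁_y₁]
      congr 1
      rw [mul_assoc b c, mul_inv_cancel₀ hd.2.1, mul_one]
    · rw [hconj, τ.conj_n₁_y₁, hd.z, τ.conj_n₁_z]
    · rw [hconj, τ.conj_n₁_y₂, τ.conj_a10 h hd hT.2.1, τ.conj_n₁_a10]
  refine ⟨τ.inT_of h hd' (Or.inl ?_), hd'⟩
  have c1 : Commute τ.la (τ.n₁ h) := τ.φ_comm h wm
  exact ((c1.mul_right hT.2.1.symm).mul_right c1).symm.eq

theorem inT_conj_n₂ {x : G} {b c : F} (hT : τ.InT x) (hd : D.Diag x b c) :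
    τ.InT (τ.n₂ h * x * τ.n₂ h) ∧ D.Diag (τ.n₂ h * x * τ.n₂ h) b⁻¹ (c * b) := by
  obtain ⟨h1, h2⟩ := τ.swap.inT_conj_n₁ h.swap (τ.inT_swap hT) hd.swap
  exact ⟨⟨⟨_, _, h2.swap⟩, h1.2.2, h1.2.1⟩, h2.swap⟩

/-- The root group to be identified with that of `-α`. -/
noncomputable def Y (t : F) : G := τ.n₂ h * (τ.n₁ h * τ.a21 h t * τ.n₁ h) * τ.n₂ h

theorem Y_add (s t : F) : τ.Y h s * τ.Y h t = τ.Y h (s + t) := by
  have e : τ.a21 h (s + t) = τ.a21 h s * τ.a21 h t := by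
    rw [a21, a21, a21, ← map_mul, lo_mul]
  rw [Y, Y, Y, e]
  calc τ.n₂ h * (τ.n₁ h * τ.a21 h s * τ.n₁ h) * τ.n₂ h *
        (τ.n₂ h * (τ.n₁ h * τ.a21 h t * τ.n₁ h) * τ.n₂ h)
      = τ.n₂ h * (τ.n₁ h * τ.a21 h s * τ.n₁ h) * (τ.n₂ h * τ.n₂ h) *
        (τ.n₁ h * τ.a21 h t * τ.n₁ h) * τ.n₂ h := by group
    _ = τ.n₂ h * (τ.n₁ h * τ.a21 h s * (τ.n₁ h * τ.n₁ h) * τ.a21 h t * τ.n₁ h) * τ.n₂ h := by
      rw [τ.n₂_sq]; group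
    _ = _ := by rw [τ.n₁_sq]; group

theorem Y_inj : Function.Injective (τ.Y h) := fun s t e => by
  have := τ.swap.φ_injective h.swap (mul_left_cancel (mul_right_cancel
    (mul_left_cancel (mul_right_cancel e))))
  simpa [lo_val] using congrFun (congrFun (congrArg Subtype.val this) 1) 0

theorem Y_conj {x : G} {b c : F} (hT : τ.InT x) (hd : D.Diag x b c) (t : F) :
    x * τ.Y h t * x⁻¹ = τ.Y h (c⁻¹ * t) := by
  obtain ⟨hT', hd'⟩ := τ.inT_conj_n₂ h hT hd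
  obtain ⟨hT'', hd''⟩ := τ.inT_conj_n₁ h hT' hd'
  have he : b⁻¹ * (c * b) = c := by have := hd.1; field_simp
  rw [he] at hd''
  rw [Y, Y, ← τ.conj_a21 h hd'' hT''.2.2 t]
  have hi := τ.n₁_inv h
  have hi2 : (τ.n₂ h)⁻¹ = τ.n₂ h := inv_eq_of_mul_eq_one_right (τ.n₂_sq h)
  have e1 : τ.n₁ h * (τ.n₁ h * (τ.n₂ h * x * τ.n₂ h) * τ.n₁ h) = τ.n₂ h * x * τ.n₂ h * τ.n₁ h := by
    rw [← mul_assoc, ← mul_assoc, τ.n₁_sq, one_mul]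
  symm
  calc τ.n₂ h * (τ.n₁ h * (τ.n₁ h * (τ.n₂ h * x * τ.n₂ h) * τ.n₁ h * τ.a21 h t *
        (τ.n₁ h * (τ.n₂ h * x * τ.n₂ h) * τ.n₁ h)⁻¹) * τ.n₁ h) * τ.n₂ h
      = τ.n₂ h * (τ.n₂ h * x * τ.n₂ h * τ.n₁ h * τ.a21 h t * τ.n₁ h *
        (τ.n₂ h * x⁻¹ * τ.n₂ h) * (τ.n₁ h * τ.n₁ h)) * τ.n₂ h := by
        rw [← mul_assoc (τ.n₁ h), ← mul_assoc (τ.n₁ h), e1, _root_.mul_inv_rev,
          _root_.mul_inv_rev, _root_.mul_inv_rev, _root_.mul_inv_rev, hi, hi2]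
        group
    _ = (τ.n₂ h * τ.n₂ h) * x * (τ.n₂ h * (τ.n₁ h * τ.a21 h t * τ.n₁ h) * τ.n₂ h) * x⁻¹ *
        (τ.n₂ h * τ.n₂ h) := by rw [τ.n₁_sq]; group
    _ = _ := by rw [τ.n₂_sq]; group

/-- `Y` centralises `la`. -/
theorem Y_commute (t : F) : τ.la * τ.Y h t = τ.Y h t * τ.la := by
  refine mul_inv_eq_iff_eq_mul.1 ?_
  rw [τ.Y_conj h τ.inT_la τ.da, inv_one, one_mul]

end Tor

end Cfsg.Agent.TwoNatural
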