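import Cfsg.Agent.Lib.TwoNatural.Fix

/-!
# Two natural parabolics: the transfer in `C(la)` (S3091)

* `Data.U₂`; `Tor.exists_M`: a normal subgroup of `C(la)` free of exchanging elements over `U₂`
-/

set_option autoImplicit false
set_option linter.unusedSectionVars false

open Matrix Cfsg.Agent.SL2Module Subgroup

namespace Cfsg.Agent.TwoNatural

variable {F : Type*} [Field F] [Fintype F] [CharP F 2] {G : Type*} [Group G] [Finite G]

local notation "SL2F" => Matrix.SpecialLinearGroup (Fin 2) F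

namespace Data

variable (D : Data F G)

/-- The root group `y₂(F)`. -/
def U₂ : Subgroup G where
  carrier := {x | ∃ a, D.y₂ a = x}
  one_mem' := ⟨0, D.y₂_zero⟩
  mul_mem' := by rintro _ _ ⟨a, rfl⟩ ⟨b, rfl⟩; exact ⟨a + b, (D.y₂_add a b).symm⟩
  inv_mem' := by rintro _ ⟨a, rfl⟩; exact ⟨a, (D.P₂.el_inv _).symm⟩

theorem y₂_inj : Function.Injective D.y₂ := fun a b hab => by
  rw [D.y₂_eq, D.y₂_eq] at hab; exact (D.jel_inj hab).2.2

theorem card_U₂ : Nat.card D.U₂ = Fintype.card F := by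
  rw [← Nat.card_eq_fintype_card]
  exact (Nat.card_congr (Equiv.ofBijective (fun a => (⟨D.y₂ a, a, rfl⟩ : D.U₂))
    ⟨fun a b hab => D.y₂_inj (congrArg (fun y : D.U₂ => (y : G)) hab),
      fun v => by obtain ⟨a, ha⟩ := v.2; exact ⟨a, Subtype.ext ha⟩⟩)).symm

theorem U₂_le_J : D.U₂ ≤ D.J := by
  rintro _ ⟨a, rfl⟩
  exact mem_sup_right (D.P₂.el_mem _)

end Data

namespace Tor

variable {D : Data F G} (τ : Tor D) (h : Hyp D)

theorem y₂_comm (a : F) (h : Hyp D) : D.y₂ a * τ.la = τ.la * D.y₂ a := by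
  rw [← τ.φ_up h a]; exact (τ.φ_comm h _).symm

include h

theorem St_of_pair (hq8 : 8 ≤ Fintype.card F) {u v : G} (hu : u * τ.la = τ.la * u)
    (hv : v * τ.la = τ.la * v) {t : F} (ht : t ≠ 0) (hut : u * D.y₂ t = D.y₂ t * u)
    (hvt : v * D.y₂ t = D.y₂ t * v) (hu' : ¬τ.St u) (hv' : ¬τ.St v) : τ.St (u⁻¹ * v) := by
  have cu : Commute u τ.la := hu
  have cu' : Commute u (D.y₂ t) := hut
  refine (τ.st_or_swap h hq8 (cu.inv_left.mul_left hv) ht (cu'.inv_left.mul_left hvt)).resolve_right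
    fun hsw => hsw ?_
  rw [← τ.n₂_mul, ← τ.n₂_inv_conj]
  exact D.inv_mul_straight (τ.conj_mem_normalizer h hq8 ht hut)
    (τ.conj_mem_normalizer h hq8 ht hvt) ((τ.st_or_swap h hq8 hu ht hut).resolve_left hu')
    ((τ.st_or_swap h hq8 hv ht hvt).resolve_left hv')

theorem not_swap_of_mem_U₂ {x : G} (hx : x ∈ D.U₂) :
    τ.n₂ h * x * τ.n₂ h ∈ normalizer (D.P₁.V : Set G) := by
  obtain ⟨a, rfl⟩ := hx
  rw [τ.conj_n₂_y₂]
  exact Subgroup.le_normalizer (D.mem_inf.2 ⟨a, rfl⟩).1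

theorem normalizes_U₂ {x : G} (hxN : τ.n₂ h * x * τ.n₂ h ∈ normalizer (D.J : Set G)) :
    x ∈ normalizer (D.U₂ : Set G) := mem_normalizer_of fun v hv => by
  obtain ⟨a, rfl⟩ := hv
  refine ⟨D.zmap (τ.n₂ h * x * τ.n₂ h) a, ?_⟩
  rw [← τ.conj_n₂_z h, D.z_zmap hxN, ← τ.conj_n₂_z h a, ← τ.n₂_conj h x, τ.n₂_conj h x,
    τ.n₂_inv_conj]
  calc τ.n₂ h * (τ.n₂ h * x * τ.n₂ h * D.z a * (τ.n₂ h * x⁻¹ * τ.n₂ h)) * τ.n₂ h
      = (τ.n₂ h * τ.n₂ h) * x * (τ.n₂ h * D.z a * τ.n₂ h) * x⁻¹ * (τ.n₂ h * τ.n₂ h) := by group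
    _ = _ := by rw [τ.n₂_sq]; group

/-- An odd power of a swap is a swap, of `2`-power order. -/
theorem exists_two_swap (hq8 : 8 ≤ Fintype.card F) {M : Subgroup G} {x : G} (hxM : x ∈ M)
    (hx : x * τ.la = τ.la * x) {t : F} (ht : t ≠ 0) (hu : x * D.y₂ t = D.y₂ t * x)
    (hV : τ.n₂ h * x * τ.n₂ h ∉ normalizer (D.P₁.V : Set G)) :
    ∃ y ∈ M, (∃ n, y ^ 2 ^ n = 1) ∧ y * τ.la = τ.la * y ∧ y * D.y₂ t = D.y₂ t * y ∧
      τ.n₂ h * y * τ.n₂ h ∉ normalizer (D.P₁.V : Set G) := by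
  obtain ⟨k, m, hm, hkm⟩ := Nat.exists_eq_two_pow_mul_odd (orderOf_pos x).ne'
  have c1 : Commute x τ.la := hx
  have c2 : Commute x (D.y₂ t) := hu
  refine ⟨x ^ m, M.pow_mem hxM m, ⟨k, by rw [← pow_mul, mul_comm, ← hkm, pow_orderOf_eq_one]⟩,
    (c1.pow_left m).eq, (c2.pow_left m).eq, ?_⟩
  have hpow : ∀ j : ℕ, (τ.n₂ h * x * τ.n₂ h) ^ j = τ.n₂ h * x ^ j * τ.n₂ h := by
    intro j
    induction j with
    | zero => rw [pow_zero, pow_zero, mul_one, τ.n₂_sq]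
    | succ j ih => rw [pow_succ, ih, τ.n₂_mul, pow_succ]
  rw [← hpow]
  set x' := τ.n₂ h * x * τ.n₂ h
  have hxN : x' ∈ normalizer (D.J : Set G) := τ.conj_mem_normalizer h hq8 ht hu
  have h2 : x' * x' ∈ normalizer (D.P₁.V : Set G) := by
    simpa using D.inv_mul_straight (inv_mem hxN) hxN (fun h' => hV (by simpa using inv_mem h')) hV
  obtain ⟨i, rfl⟩ := hm
  intro hodd
  refine hV ((mul_mem_cancel_left (pow_mem h2 i)).1 ?_)
  rwa [← sq, ← pow_mul, ← pow_succ]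

/-- A normal subgroup of `C(la)` in which centralisers of root involutions are small. -/
theorem exists_M (hq8 : 8 ≤ Fintype.card F) :
    ∃ M : Subgroup G, M ≤ centralizer ({τ.la} : Set G) ∧
      (∀ g ∈ centralizer ({τ.la} : Set G), ∀ x ∈ M, g * x * g⁻¹ ∈ M) ∧
      (∀ A : SL2F, τ.φ h A ∈ M) ∧ (∀ x, τ.InT x → x ∈ M) ∧
      ∀ x ∈ M, ∀ t : F, t ≠ 0 → x * D.y₂ t = D.y₂ t * x → τ.St x := by
  haveI : Fact (Nat.Prime 2) := ⟨Nat.prime_two⟩
  set C := centralizer ({τ.la} : Set G) with hCdef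
  have hC : ∀ {x}, x ∈ C ↔ x * τ.la = τ.la * x := fun {x} => mem_centralizer_singleton_iff
  have hφC : ∀ A, τ.φ h A ∈ C := fun A => hC.2 (τ.φ_comm h A).symm
  have hTC : ∀ x, τ.InT x → x ∈ C := fun x hx => hC.2 hx.2.1
  by_cases hall : ∀ x ∈ C, ∀ t : F, t ≠ 0 → x * D.y₂ t = D.y₂ t * x → τ.St x
  · exact ⟨C, le_rfl, fun g hg x hx => C.mul_mem (C.mul_mem hg hx) (C.inv_mem hg), hφC, hTC, hall⟩
  push Not at hall
  obtain ⟨x, hxC, t₁, ht₁, hxu, hxS⟩ := hall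
  obtain ⟨y, hyC, ⟨ny, hy2⟩, hyla, hyu, hyV⟩ := τ.exists_two_swap h hq8 hxC (hC.1 hxC) ht₁ hxu
    ((τ.st_or_swap h hq8 (hC.1 hxC) ht₁ hxu).resolve_left hxS)
  have hyN := τ.conj_mem_normalizer h hq8 ht₁ hyu
  have hyU : y ∉ D.U₂ := fun h' => hyV (τ.not_swap_of_mem_U₂ h h')
  have hUC : D.U₂ ≤ C := by rintro _ ⟨a, rfl⟩; exact hC.2 (τ.y₂_comm a h)
  have hU2 : IsPGroup 2 D.U₂ := D.isPGroup_J.to_le D.U₂_le_J
  have hK2 : IsPGroup 2 ↥(D.U₂ ⊔ zpowers y) :=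
    hU2.to_sup_of_normal_left' (fun ⟨g, hg⟩ => by
      obtain ⟨i, rfl⟩ := hg
      refine ⟨ny, Subtype.ext ?_⟩
      show (y ^ i) ^ 2 ^ ny = 1
      rw [← zpow_natCast, ← _root_.zpow_mul, mul_comm, _root_.zpow_mul, zpow_natCast, hy2,
        _root_.one_zpow]) (zpowers_le.2 (τ.normalizes_U₂ h hyN))
  obtain ⟨P, hP⟩ := (hK2.comap_of_injective C.subtype C.subtype_injective).exists_le_sylow
  set P₀ := (P : Subgroup C).map C.subtype with hP₀
  have hP₀2 : IsPGroup 2 P₀ := P.isPGroup'.map _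
  have hKP : D.U₂ ⊔ zpowers y ≤ P₀ := fun g hg =>
    ⟨⟨g, sup_le hUC (zpowers_le.2 hyC) hg⟩, hP hg, rfl⟩
  have hP₀C : P₀ ≤ C := map_subtype_le _
  have hUP : D.U₂ ≤ P₀ := le_sup_left.trans hKP
  have hyP : y ∈ P₀ := hKP (mem_sup_right (mem_zpowers y))
  -- the normaliser of `U₂` in `P₀`
  set Q := P₀ ⊓ normalizer (D.U₂ : Set G) with hQdef
  have hUQ : D.U₂ ≤ Q := le_inf hUP Subgroup.le_normalizer
  have hyQ : y ∈ Q := ⟨hyP, τ.normalizes_U₂ h hyN⟩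
  have hQ2 : IsPGroup 2 Q := hP₀2.to_le inf_le_left
  obtain ⟨t₀, ht₀, hcen⟩ : ∃ t₀ : F, t₀ ≠ 0 ∧ ∀ g ∈ Q, g * D.y₂ t₀ = D.y₂ t₀ * g := by
    haveI : (D.U₂.subgroupOf Q).Normal :=
      Cores.subgroupOf_normal_of_le_normalizer inf_le_right
    have hne : D.U₂.subgroupOf Q ≠ ⊥ := fun e => by
      have hm : (⟨D.y₂ 1, hUQ ⟨1, rfl⟩⟩ : Q) ∈ D.U₂.subgroupOf Q := mem_subgroupOf.2 ⟨1, rfl⟩
      rw [e, mem_bot] at hm
      exact one_ne_zero (D.y₂_inj ((congrArg (fun g : Q => (g : G)) hm).trans D.y₂_zero.symm))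
    obtain ⟨⟨g, hgQ⟩, ⟨hg1, hg2⟩, hgne⟩ :=
      (bot_or_exists_ne_one _).resolve_left (PGroup.inf_center_ne_bot hQ2 hne)
    obtain ⟨t₀, e⟩ := mem_subgroupOf.1 hg1
    refine ⟨t₀, fun h0 => hgne (Subtype.ext ?_), fun v hv => ?_⟩
    · show g = 1
      rw [← D.y₂_zero, ← h0]; exact e.symm
    · have e' := congrArg (fun g : Q => (g : G)) (mem_center_iff.1 hg2 ⟨v, hv⟩)
      rw [e]; exact e'
  have hQS : ∀ g ∈ Q, g ∉ D.U₂ → ¬τ.St g := fun g hg hgU hS => by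
    obtain ⟨n, hn⟩ := hQ2 ⟨g, hg⟩
    exact hgU (Tor.St.mem_of_two τ hS h (n := n) (congrArg Subtype.val hn))
  have hpair : ∀ u ∈ Q, ∀ v ∈ Q, u ∉ D.U₂ → v ∉ D.U₂ → u⁻¹ * v ∈ D.U₂ := by
    intro u hu v hv hu' hv'
    have hS := τ.St_of_pair h hq8 (hC.1 (hP₀C hu.1)) (hC.1 (hP₀C hv.1)) ht₀ (hcen u hu) (hcen v hv)
      (hQS u hu hu') (hQS v hv hv')
    obtain ⟨n, hn⟩ := hQ2 ⟨u⁻¹ * v, Q.mul_mem (Q.inv_mem hu) hv⟩
    exact Tor.St.mem_of_two τ hS h (n := n) (congrArg Subtype.val hn)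
  -- `P₀` normalises `U₂`
  have hPQ : P₀ ≤ Q := by
    by_contra hne
    haveI := hP₀2.isNilpotent
    have hlt : Q.subgroupOf P₀ < ⊤ := lt_top_iff_ne_top.2 fun e => hne (subgroupOf_eq_top.1 e)
    obtain ⟨⟨g, hgP⟩, hgN, hgQ⟩ :=
      SetLike.exists_of_lt (Group.normalizerCondition_of_isNilpotent _ hlt)
    have hg : ∀ v ∈ Q, g * v * g⁻¹ ∈ Q := fun v hv =>
      (mem_normalizer_iff.1 hgN ⟨v, hv.1⟩).1 hv
    set U' := D.U₂.map (MulAut.conj g).toMonoidHom with hU'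
    have hU'Q : U' ≤ Q := by rintro _ ⟨v, hv, rfl⟩; exact hg v (hUQ hv)
    have hU'U : ¬U' ≤ D.U₂ := fun hle =>
      hgQ (mem_subgroupOf.2 ⟨hgP, mem_normalizer_of fun v hv => hle ⟨v, hv, rfl⟩⟩)
    obtain ⟨w, hw, hwU⟩ := SetLike.not_le_iff_exists.1 hU'U
    have hwla := hC.1 (hP₀C (hU'Q hw).1)
    have hwt := hcen w (hU'Q hw)
    have hwV := (τ.st_or_swap h hq8 hwla ht₀ hwt).resolve_left (hQS w (hU'Q hw) hwU)
    set W := (U' ⊓ D.U₂).map (MulAut.conj (τ.n₂ h)).toMonoidHom with hW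
    have hni : (τ.n₂ h)⁻¹ = τ.n₂ h := inv_eq_of_mul_eq_one_right (τ.n₂_sq h)
    have hWZ : W ≤ D.P₁.V ⊓ D.P₂.V := by
      rintro _ ⟨v, ⟨-, a, rfl⟩, rfl⟩
      refine D.mem_inf.2 ⟨a, ?_⟩
      show _ = τ.n₂ h * D.y₂ a * (τ.n₂ h)⁻¹
      rw [hni, τ.conj_n₂_y₂]
    have hfix : ∀ v ∈ W, τ.n₂ h * w * τ.n₂ h * v * (τ.n₂ h * w * τ.n₂ h)⁻¹ = v := by
      rintro _ ⟨v, hv, rfl⟩
      show τ.n₂ h * w * τ.n₂ h * (τ.n₂ h * v * (τ.n₂ h)⁻¹) * _ = τ.n₂ h * v * (τ.n₂ h)⁻¹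
      obtain ⟨v₀, hv₀, rfl⟩ := hv.1
      obtain ⟨w₀, hw₀, rfl⟩ := hw
      simp only [MulEquiv.coe_toMonoidHom, MulAut.conj_apply]
      rw [hni, τ.n₂_inv_conj, τ.n₂_mul, τ.n₂_mul, conj_mul,
        show (g * w₀ * g⁻¹)⁻¹ = g * w₀⁻¹ * g⁻¹ by group, conj_mul,
        D.P₂.commV (show w₀ ∈ D.P₂.V from by obtain ⟨a, rfl⟩ := hw₀; exact D.P₂.el_mem _)
          (show v₀ ∈ D.P₂.V from by obtain ⟨a, rfl⟩ := hv₀; exact D.P₂.el_mem _),
        mul_inv_cancel_right]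
    have e1 := D.card_zfix_sq_le (τ.conj_mem_normalizer h hq8 ht₀ hwt)
      (τ.swap_ρ h hq8 hwla ht₀ hwt hwV) hWZ hfix
    have e2 : Fintype.card F ≤ 2 * Nat.card W := by
      rw [hW, Subgroup.card_map_of_injective (MulAut.conj _).injective, ← D.card_U₂,
        ← Subgroup.card_map_of_injective (K := D.U₂) (f := (MulAut.conj g).toMonoidHom)
          (MulAut.conj g).injective]
      exact card_le_two_mul fun u hu v hv hu' hv' => ⟨U'.mul_mem (U'.inv_mem hu) hv,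
        hpair u (hU'Q hu) v (hU'Q hv) (fun h' => hu' ⟨hu, h'⟩) fun h' => hv' ⟨hv, h'⟩⟩
    nlinarith
  have hPeq : P₀ = Q := le_antisymm hPQ inf_le_left
  have hP2q : Nat.card P₀ = 2 * Fintype.card F := by
    have h1 : Nat.card Q ≤ 2 * Nat.card D.U₂ := card_le_two_mul hpair
    obtain ⟨k, hk⟩ := card_dvd_of_le hUQ
    have h2 : Nat.card D.U₂ < Nat.card Q := by
      refine lt_of_le_of_ne (card_le_of_le hUQ) fun e => hyU ?_
      exact (eq_of_le_of_card_ge hUQ e.ge).ge hyQ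
    rw [hPeq, hk, D.card_U₂]
    rw [hk, D.card_U₂] at h1 h2
    have hk1 : 1 < k := by
      by_contra hc
      interval_cases k <;> omega
    have hk2 : k ≤ 2 := by
      by_contra hc
      have : Fintype.card F * 3 ≤ Fintype.card F * k := Nat.mul_le_mul_left _ (by omega)
      omega
    rw [show k = 2 by omega, mul_comm]
  -- an involution outside `U₂`
  have hyi : y⁻¹ ∉ D.U₂ := fun h' => hyU (by simpa using D.U₂.inv_mem h')
  obtain ⟨a, ha⟩ : y * y ∈ D.U₂ := by simpa using hpair _ (Q.inv_mem hyQ) y hyQ hyi hyU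
  set y' := τ.n₂ h * y * τ.n₂ h with hy'
  obtain ⟨σ, b, c, hb, hc, hz, -⟩ := D.exists_swap_maps hyN hyV
  have hσ : σ ≠ 1 := by
    have := τ.swap_ρ h hq8 hyla ht₁ hyu hyV
    rwa [D.fieldAut_eq (mul_ne_zero hb hc) fun a => D.zmap_eq (hz a)] at this
  have hyy : y' * y' = D.z a := by rw [hy', τ.n₂_mul, ← ha, τ.conj_n₂_y₂]
  obtain ⟨v, hv⟩ := exists_trace_eq hσ (e := b * c) (a := a) (fun d => by
    refine D.z_inj ?_
    rw [← hz, ← hz, show y' * (y' * D.z d * y'⁻¹) * y'⁻¹ = (y' * y') * D.z d * (y' * y')⁻¹ by group,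
      hyy, mem_centralizer_iff.1 (D.z_mem_center d) _ (D.z_mem_J a), mul_inv_cancel_right]) (by
    refine D.z_inj ?_
    rw [← hz, ← hyy]; group)
  set i := y * D.y₂ v with hi
  have hi' : τ.n₂ h * i * τ.n₂ h = y' * D.z v := by
    rw [hi, ← τ.conj_n₂_z h v, ← τ.n₂_mul, τ.n₂_conj]
  have hiP : i ∈ P₀ := P₀.mul_mem hyP (hUP ⟨v, rfl⟩)
  have hiU : i ∉ D.U₂ := fun h' => hyU ((D.U₂.mul_mem_cancel_right ⟨v, rfl⟩).1 h')
  have hi2 : i * i = 1 := by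
    have h1 : y' * D.z v * (y' * D.z v) = 1 := by
      calc y' * D.z v * (y' * D.z v) = (y' * D.z v * y'⁻¹) * (y' * y') * D.z v := by group
        _ = _ := by
          rw [hz, hyy, D.z_add, D.z_add, add_right_comm, hv, CharTwo.add_self_eq_zero, D.z_zero]
    rw [← hi', τ.n₂_mul] at h1
    have := congrArg (fun g => τ.n₂ h * g * τ.n₂ h) h1
    rwa [τ.n₂_conj, mul_one, τ.n₂_sq] at this
  set i' : C := ⟨i, hP₀C hiP⟩ with hi'def
  have hord : orderOf i' = 2 := orderOf_eq_prime (by rw [sq]; exact Subtype.ext hi2)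
    fun e => hiU (by rw [show i = 1 from congrArg Subtype.val e]; exact one_mem _)
  have hUPs : D.U₂.subgroupOf C ≤ (P : Subgroup C) := fun g hg => by
    obtain ⟨g', hg', e⟩ := hUP (mem_subgroupOf.1 hg)
    rwa [← Subtype.ext e]
  have hrel : (D.U₂.subgroupOf C).relIndex (P : Subgroup C) = 2 := by
    have h1 := Subgroup.card_mul_index ((D.U₂.subgroupOf C).subgroupOf (P : Subgroup C))
    rw [Cores.card_subgroupOf hUPs, Cores.card_subgroupOf hUC, D.card_U₂,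
      ← Subgroup.card_map_of_injective (K := (P : Subgroup C)) C.subtype_injective,
      ← hP₀, hP2q] at h1
    show ((D.U₂.subgroupOf C).subgroupOf (P : Subgroup C)).index = 2
    have hq : 0 < Fintype.card F := Fintype.card_pos
    nlinarith
  have hiPs : i' ∈ (P : Subgroup C) := by
    obtain ⟨g', hg', e⟩ := hiP
    rwa [show i' = g' from Subtype.ext e.symm]
  rcases S0111.result P (D.U₂.subgroupOf C) hUPs hrel i' hord hiPs (fun h' => hiU h') with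
    ⟨M₀, hM₀n, hM₀2, hiM⟩ | ⟨g, hg⟩
  swap
  · exfalso
    obtain ⟨a₀, ha₀⟩ := mem_subgroupOf.1 hg
    change D.y₂ a₀ = (g : G) * i * (g : G)⁻¹ at ha₀
    have ha0 : a₀ ≠ 0 := fun e => hiU ⟨0, by
      rw [e, D.y₂_zero] at ha₀
      rw [D.y₂_zero, show i = (g : G)⁻¹ * ((g : G) * i * (g : G)⁻¹) * (g : G) by group, ← ha₀]
      group⟩
    have e : y' * D.z v = (τ.n₂ h * (g : G)⁻¹ * τ.n₂ h) * D.z a₀ *
        (τ.n₂ h * (g : G)⁻¹ * τ.n₂ h)⁻¹ := by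
      rw [τ.n₂_inv_conj, ← τ.conj_n₂_y₂ h a₀, τ.n₂_mul, τ.n₂_mul, ha₀, ← hi']
      group
    have hmem : y' * D.z v ∈ normalizer (D.J : Set G) :=
      mul_mem hyN (D.J_le_normalizer (D.z_mem_J v))
    rw [e] at hmem
    have hJ := h.not_conj_z hq8 ha0 hmem
    rw [← e] at hJ
    exact hyV (D.P₁.le_normalizer (D.J_le_L₁ ((D.J.mul_mem_cancel_right (D.z_mem_J v)).1 hJ)))
  haveI := hM₀n
  set M := M₀.map C.subtype with hM
  have hMmem : ∀ {x} (hx : x ∈ C), (⟨x, hx⟩ : C) ∈ M₀ → x ∈ M := fun hx hx' => ⟨_, hx', rfl⟩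
  have hcomm : ∀ u w, u ∈ C → w ∈ C → u * w * u⁻¹ * w⁻¹ ∈ M := by
    intro u w hu hw
    refine ⟨⟨u, hu⟩ * ⟨w, hw⟩ * ⟨u, hu⟩⁻¹ * ⟨w, hw⟩⁻¹, ?_, rfl⟩
    rw [SetLike.mem_coe, mul_mem_iff_of_index_two hM₀2, mul_mem_iff_of_index_two hM₀2,
      mul_mem_iff_of_index_two hM₀2, inv_mem_iff, inv_mem_iff]
    tauto
  have hφM : ∀ A : SL2F, τ.φ h A ∈ M := by
    obtain ⟨ω, hω⟩ := exists_unit_ne_one (F := F) h.hq
    have hω2 : (ω : F) * ω + 1 ≠ 0 := fun e => hω (Units.ext (by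
      simpa using eq_of_pow_two_eq_one (n := 1) (a := (ω : F))
        (by rw [pow_one, sq]; exact CharTwo.add_eq_zero.1 e)))
    have hup : ∀ s, τ.φ h (up s) ∈ M := by
      intro s
      have e : dg ω * up (s / ((ω : F) * ω + 1)) * (dg ω)⁻¹ * (up (s / ((ω : F) * ω + 1)))⁻¹ =
          (up s : SL2F) := by
        rw [dg_up, mul_inv_cancel_right, inv_eq_of_mul_eq_one_right (up_sq _), up_mul]
        congr 1
        rw [← add_one_mul, mul_div_cancel₀ _ hω2]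
      rw [← e, map_mul, map_mul, map_mul, map_inv, map_inv]
      exact hcomm _ _ (hφC _) (hφC _)
    have hlo : ∀ s, τ.φ h (lo s) ∈ M := fun s => by
      have hw : (wm : SL2F)⁻¹ = wm := inv_eq_of_mul_eq_one_right wm_sq
      obtain ⟨g, hg, e⟩ := hup s
      refine ⟨⟨_, hφC wm⟩ * g * ⟨_, hφC wm⟩⁻¹, hM₀n.conj_mem g hg _, ?_⟩
      simp only [map_mul, map_inv, e, Subgroup.coe_subtype]
      rw [← map_inv, hw, ← map_mul, ← map_mul, wm_conj_up]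
    intro A
    have : Subgroup.closure (Set.range (up : F → SL2F) ∪ {wm}) ≤ M.comap (τ.φ h) := by
      rw [closure_le]
      rintro _ (⟨s, rfl⟩ | rfl)
      · exact hup s
      · have e : (wm : SL2F) = up 1 * lo 1 * up 1 := by
          have := up_lo_up (K := F) 1
          rw [dg_one, one_mul, inv_one, Units.val_one] at this
          exact this.symm
        show τ.φ h wm ∈ M
        rw [e, map_mul, map_mul]
        exact M.mul_mem (M.mul_mem (hup 1) (hlo 1)) (hup 1)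
    rw [closure_eq_top] at this
    exact this (mem_top A)
  have hTM : ∀ x, τ.InT x → x ∈ M := by
    intro x hx
    refine hMmem (hTC x hx) ?_
    have h1 := τ.inT_pow_eq_one hx h
    obtain ⟨m, hp, hm⟩ := FiniteField.card F 2
    have h2 : (⟨x, hTC x hx⟩ : C) = ((⟨x, hTC x hx⟩ : C) ^ (2 ^ ((m : ℕ) - 1))) ^ 2 := by
      refine Subtype.ext ?_
      show x = (x ^ 2 ^ ((m : ℕ) - 1)) ^ 2
      rw [← pow_mul, ← pow_succ, Nat.sub_add_cancel (show 1 ≤ (m : ℕ) from m.2), ← hm,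
        show Fintype.card F = Fintype.card F - 1 + 1 by omega, pow_succ, h1, one_mul]
    rw [h2]
    exact Subgroup.sq_mem_of_index_two hM₀2 _
  refine ⟨M, map_subtype_le _, fun g hg x hx => ?_, hφM, hTM, fun x hx t ht hu => ?_⟩
  · obtain ⟨x', hx', rfl⟩ := hx
    exact ⟨⟨g, hg⟩ * x' * ⟨g, hg⟩⁻¹, hM₀n.conj_mem x' hx' _, rfl⟩
  · have hxC' : x ∈ C := map_subtype_le _ hx
    refine (τ.st_or_swap h hq8 (hC.1 hxC') ht hu).resolve_right fun hV => ?_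
    obtain ⟨z, hzM, ⟨nz, hz2⟩, hzla, hzu, hzV⟩ := τ.exists_two_swap h hq8 hx (hC.1 hxC') ht hu hV
    have hzN := τ.normalizes_U₂ h (τ.conj_mem_normalizer h hq8 ht hzu)
    have hK : IsPGroup 2 ↥(D.U₂ ⊔ zpowers z) :=
      hU2.to_sup_of_normal_left' (fun ⟨g, hg⟩ => by
        obtain ⟨j, rfl⟩ := hg
        refine ⟨nz, Subtype.ext ?_⟩
        show (z ^ j) ^ 2 ^ nz = 1
        rw [← zpow_natCast, ← _root_.zpow_mul, mul_comm, _root_.zpow_mul, zpow_natCast, hz2,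
          _root_.one_zpow]) (zpowers_le.2 hzN)
    have hKM : D.U₂ ⊔ zpowers z ≤ M := sup_le (by
      rintro _ ⟨a, rfl⟩; exact τ.φ_up h a ▸ hφM _) (zpowers_le.2 hzM)
    have hlt : Fintype.card F < Nat.card ↥(D.U₂ ⊔ zpowers z) := by
      rw [← D.card_U₂]
      refine lt_of_le_of_ne (card_le_of_le le_sup_left) fun e => hzV (τ.not_swap_of_mem_U₂ h ?_)
      exact (eq_of_le_of_card_ge le_sup_left e.ge).ge (mem_sup_right (mem_zpowers z))
    obtain ⟨j, hj⟩ := hK.exists_card_eq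
    have hdvd : 2 ^ (j + 1) ∣ Nat.card C := by
      rw [← M₀.card_mul_index, hM₀2, pow_succ, ← hj]
      refine Nat.mul_dvd_mul_right ?_ 2
      rw [← Subgroup.card_map_of_injective (K := M₀) C.subtype_injective, ← hM]
      exact card_dvd_of_le hKM
    have hle : 2 ^ (j + 1) ≤ Nat.card P := by
      refine Nat.le_of_dvd Nat.card_pos ?_
      rw [P.card_eq_multiplicity]
      exact pow_dvd_pow 2 ((Nat.prime_two.pow_dvd_iff_le_factorization Nat.card_pos.ne').1 hdvd)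
    have e : Nat.card P = 2 * Fintype.card F := by
      rw [← hP2q, hP₀, Subgroup.card_map_of_injective C.subtype_injective]
    rw [pow_succ, ← hj, e] at hle
    omega

end Tor

end Cfsg.Agent.TwoNatural
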